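import Groth.Agent.Variety2.DimAffine
import Mathlib.RingTheory.LocalRing.ResidueField.Fiber
import Mathlib.RingTheory.KrullDimension.NonZeroDivisors

/-!
# Bounding fibre dimensions by transcendence degrees
-/

set_option autoImplicit false

universe u

open TensorProduct

namespace Groth.Syntomic

/-- A finite type algebra over a field is of dimension at most `d` if all its integral closed
subschemes have transcendence degree at most `d`. -/
theorem ringKrullDim_le_of_trdeg_le {k T : Type u} [Field k] [CommRing T] [Algebra k T]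
    [Algebra.FiniteType k T] (d : ℕ)
    (H : ∀ P : Ideal T, P.IsPrime → Algebra.trdeg k (FractionRing (T ⧸ P)) ≤ (d : Cardinal.{u})) :
    ringKrullDim T ≤ (d : WithBot ℕ∞) := by
  refine iSup_le fun s => ?_
  let P := s.head.asIdeal
  have : Algebra.FiniteType k (T ⧸ P) :=
    Algebra.FiniteType.of_surjective (Ideal.Quotient.mkₐ k P) (Ideal.Quotient.mkₐ_surjective k P)
  obtain ⟨m, hm₁, hm₂, -⟩ := Groth.Variety2.Dim.exists_dim k (T ⧸ P)
  have hmd : m ≤ d := by
    have := hm₁ ▸ H P s.head.isPrime
    exact_mod_cast this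
  have hP : ∀ i, P ≤ (s i).asIdeal := fun i => s.monotone (Fin.zero_le i)
  have hker : ∀ i, RingHom.ker (Ideal.Quotient.mk P) ≤ (s i).asIdeal := fun i => by
    rw [Ideal.mk_ker]; exact hP i
  let g : Fin (s.length + 1) → PrimeSpectrum (T ⧸ P) := fun i =>
    ⟨(s i).asIdeal.map (Ideal.Quotient.mk P),
      Ideal.map_isPrime_of_surjective Ideal.Quotient.mk_surjective (hker i)⟩
  have hg : StrictMono g := fun i j hij => by
    have hlt : (s i).asIdeal < (s j).asIdeal := s.strictMono hij
    refine lt_of_le_of_ne (Ideal.map_mono hlt.le) fun h => hlt.ne ?_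
    have := congrArg (fun x : PrimeSpectrum (T ⧸ P) => x.asIdeal.comap (Ideal.Quotient.mk P)) h
    simp only [g, Ideal.comap_map_of_surjective _ Ideal.Quotient.mk_surjective,
      ← RingHom.ker_eq_comap_bot] at this
    rwa [sup_eq_left.mpr (hker i), sup_eq_left.mpr (hker j)] at this
  calc ((s.length : ℕ) : WithBot ℕ∞) ≤ ringKrullDim (T ⧸ P) :=
        le_iSup_of_le (LTSeries.mk s.length g hg) le_rfl
    _ = (m : WithBot ℕ∞) := hm₂
    _ ≤ _ := by exact_mod_cast hmd

/-- A fibre has dimension at most `d` if all residue extensions along it have transcendence degree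
at most `d`. -/
theorem ringKrullDim_fiber_le_of_trdeg {R B : Type u} [CommRing R] [CommRing B] [Algebra R B]
    [Algebra.FiniteType R B] (p : Ideal R) [p.IsPrime] (d : ℕ)
    (H : ∀ (K L : Type u) [Field K] [Field L] [Algebra K L] (χ : R →+* K) (ψ : B →+* L),
      (∀ r, algebraMap K L (χ r) = ψ (algebraMap R B r)) →
      (∀ z, ∃ a c, ψ c ≠ 0 ∧ z = ψ a / ψ c) → Algebra.trdeg K L ≤ (d : Cardinal.{u})) :
    ringKrullDim (p.Fiber B) ≤ (d : WithBot ℕ∞) := by
  refine ringKrullDim_le_of_trdeg_le (k := p.ResidueField) d fun P _ => ?_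
  let L := FractionRing (p.Fiber B ⧸ P)
  let ι : p.Fiber B →+* L := (algebraMap (p.Fiber B ⧸ P) L).comp (Ideal.Quotient.mk P)
  let inc : B →ₐ[R] p.Fiber B := Algebra.TensorProduct.includeRight
  let ψ : B →+* L := ι.comp inc.toRingHom
  have hR : ∀ r, algebraMap p.ResidueField L (algebraMap R p.ResidueField r) = ψ (algebraMap R B r) :=
    fun r => by
      have : algebraMap p.ResidueField L (algebraMap R p.ResidueField r) =
          ι (algebraMap R (p.Fiber B) r) := by
        rw [IsScalarTower.algebraMap_apply p.ResidueField (p.Fiber B ⧸ P) L,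
          IsScalarTower.algebraMap_apply R p.ResidueField (p.Fiber B)]
        rfl
      rw [this]
      exact congrArg ι (inc.commutes r).symm
  refine H _ _ (algebraMap R p.ResidueField) ψ hR fun z => ?_
  obtain ⟨x, y, hy, rfl⟩ := IsFractionRing.div_surjective (p.Fiber B ⧸ P) z
  obtain ⟨x, rfl⟩ := Ideal.Quotient.mk_surjective x
  obtain ⟨y, rfl⟩ := Ideal.Quotient.mk_surjective y
  obtain ⟨r, hr, a, ha⟩ := Ideal.Fiber.exists_smul_eq_one_tmul p x
  obtain ⟨r', hr', c, hc⟩ := Ideal.Fiber.exists_smul_eq_one_tmul p y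
  have key : ∀ (r : R) (x : p.Fiber B) (a : B), r • x = (1 : p.ResidueField) ⊗ₜ[R] a →
      ψ (algebraMap R B r) * ι x = ψ a := fun r x a h => by
    rw [← hR]
    calc algebraMap p.ResidueField L (algebraMap R p.ResidueField r) * ι x
        = ι (algebraMap R (p.Fiber B) r) * ι x := by
          rw [hR]; exact congrArg (ι · * ι x) (inc.commutes r)
      _ = ι (r • x) := by rw [← map_mul, Algebra.smul_def]
      _ = ψ a := by rw [h]; rfl
  have hne : ∀ r : R, r ∉ p → ψ (algebraMap R B r) ≠ 0 := fun r hr h0 => hr (by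
    rw [← hR, map_eq_zero] at h0
    exact Ideal.algebraMap_residueField_eq_zero.mp h0)
  have hy0 : ι y ≠ 0 := fun h => nonZeroDivisors.ne_zero hy
    ((map_eq_zero_iff _ (IsFractionRing.injective (p.Fiber B ⧸ P) L)).mp h)
  refine ⟨algebraMap R B r' * a, algebraMap R B r * c, ?_, ?_⟩
  · rw [map_mul, ← key r' y c hc]
    exact mul_ne_zero (hne r hr) (mul_ne_zero (hne r' hr') hy0)
  · rw [map_mul, map_mul, ← key r x a ha, ← key r' y c hc]
    change ι x / ι y = _
    field_simp [hne r hr, hne r' hr', hy0]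

end Groth.Syntomic
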