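import Groth.Agent.Syntomic.Local
import Groth.Agent.Syntomic.FiberDim
import Groth.Agent.KoszulLCI.BaseChange
import Groth.Agent.FibreDim.Algebra
import Groth.Agent.FlatMor2.Deform

/-!
# Syntomic ring maps are locally relative global complete intersections
-/

set_option autoImplicit false

universe u

open TensorProduct

namespace Groth.Syntomic

attribute [local instance] Algebra.TensorProduct.rightAlgebra MvPolynomial.algebraMvPolynomial

variable {R S : Type u} [CommRing R] [CommRing S] [Algebra R S] {n : ℕ}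

/-- The ideal of a flat quotient of a polynomial ring is pure. -/
theorem map_C_inf_ker_le (φ : MvPolynomial (Fin n) R →ₐ[R] S) (hφ : Function.Surjective φ)
    [Module.Flat R S] (p : Ideal R) :
    p.map MvPolynomial.C ⊓ RingHom.ker φ.toRingHom ≤
      p.map MvPolynomial.C * RingHom.ker φ.toRingHom := by
  rintro x ⟨hxp, hxI⟩
  have h1 : p.map (MvPolynomial.C (σ := Fin n)) =
      p.map (algebraMap R (MvPolynomial (Fin n) R)) := by rw [MvPolynomial.algebraMap_eq]
  have hx : x ∈ p • (⊤ : Submodule R (MvPolynomial (Fin n) R)) := by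
    rw [Ideal.smul_top_eq_map, ← h1]
    exact hxp
  have h := Groth.FlatMor2.inf_smul_top_le_smul_of_flat φ.toLinearMap hφ p ⟨hxI, hx⟩
  refine Submodule.smul_induction_on h (fun r hr m hm => ?_) fun a b => add_mem
  rw [Algebra.smul_def, h1]
  exact Ideal.mul_mem_mul (Ideal.mem_map_of_mem _ hr) hm

variable (p : Ideal R) [p.IsPrime]

/-- Elements of a fibre ideal come from the ideal, up to denominators. -/
theorem exists_mul_eq_map_of_mem (I : Ideal (MvPolynomial (Fin n) R))
    {y : MvPolynomial (Fin n) p.ResidueField}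
    (hy : y ∈ I.map (MvPolynomial.map (algebraMap R p.ResidueField))) :
    ∃ r ∉ p, ∃ a ∈ I, MvPolynomial.C (algebraMap R p.ResidueField r) * y =
      MvPolynomial.map (algebraMap R p.ResidueField) a := by
  set φ := MvPolynomial.map (σ := Fin n) (algebraMap R p.ResidueField)
  refine Submodule.span_induction ?_ ?_ ?_ ?_ hy
  · rintro _ ⟨b, hb, rfl⟩
    exact ⟨1, fun h => ‹p.IsPrime›.ne_top ((Ideal.eq_top_iff_one p).mpr h), b, hb, by simp⟩
  · exact ⟨1, fun h => ‹p.IsPrime›.ne_top ((Ideal.eq_top_iff_one p).mpr h), 0, zero_mem _, by simp⟩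
  · rintro a b - - ⟨r, hr, a', ha', ea⟩ ⟨s, hs, b', hb', eb⟩
    refine ⟨r * s, fun h => ((‹p.IsPrime›.mem_or_mem h).elim hr hs),
      MvPolynomial.C s * a' + MvPolynomial.C r * b',
      add_mem (Ideal.mul_mem_left _ _ ha') (Ideal.mul_mem_left _ _ hb'), ?_⟩
    rw [map_add, map_mul φ, map_mul φ, MvPolynomial.map_C, MvPolynomial.map_C, ← ea, ← eb,
      map_mul, map_mul]
    ring
  · rintro z a - ⟨r, hr, a', ha', ea⟩
    obtain ⟨s, hs, z', ez⟩ := Groth.Calg5.RelGCI.exists_mul_eq_map p z
    refine ⟨s * r, fun h => ((‹p.IsPrime›.mem_or_mem h).elim hs hr), z' * a',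
      Ideal.mul_mem_left _ _ ha', ?_⟩
    rw [map_mul φ, ← ez, ← ea, map_mul, map_mul, smul_eq_mul]
    ring

variable {p}

/-- Generators of the fibre ideal at `q` generate near `q`. -/
theorem exists_generators_of_fibre (φ : MvPolynomial (Fin n) R →ₐ[R] S) (hφ : Function.Surjective φ)
    [Module.Flat R S] (hI : (RingHom.ker φ.toRingHom).FG)
    (q : Ideal (MvPolynomial (Fin n) R)) [q.IsPrime] (hq : q.comap MvPolynomial.C = p)
    (q' : Ideal (MvPolynomial (Fin n) p.ResidueField)) [q'.IsPrime]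
    (hq' : q'.comap (MvPolynomial.map (algebraMap R p.ResidueField)) = q)
    (f : List (MvPolynomial (Fin n) R)) (hfI : Ideal.ofList f ≤ RingHom.ker φ.toRingHom)
    (hf : ∀ x ∈ RingHom.ker φ.toRingHom, ∃ u ∉ q',
      u * MvPolynomial.map (algebraMap R p.ResidueField) x ∈
        (Ideal.ofList f).map (MvPolynomial.map (algebraMap R p.ResidueField))) :
    ∃ h ∉ q, ∀ x ∈ RingHom.ker φ.toRingHom, h * x ∈ Ideal.ofList f := by
  set I := RingHom.ker φ.toRingHom
  set Φ := MvPolynomial.map (σ := Fin n) (algebraMap R p.ResidueField)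
  let B := Localization.AtPrime q
  let ι := algebraMap (MvPolynomial (Fin n) R) B
  have hCq : ∀ r, r ∉ p → MvPolynomial.C r ∉ q := fun r hr h => hr (hq ▸ h)
  have hle : I.map ι ≤ (Ideal.ofList f).map ι ⊔ IsLocalRing.maximalIdeal B • I.map ι := by
    rw [Ideal.map_le_iff_le_comap]
    intro x hx
    obtain ⟨u, hu, hux⟩ := hf x hx
    obtain ⟨r, hr, u₀, hu₀⟩ := Groth.Calg5.RelGCI.exists_mul_eq_map p u
    obtain ⟨r', hr', z, hz, hzeq⟩ := exists_mul_eq_map_of_mem p _
      (Ideal.mul_mem_left _ (MvPolynomial.C (algebraMap R p.ResidueField r)) hux)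
    have hu₀q : u₀ ∉ q := fun h => by
      have h2 : Φ u₀ ∈ q' := by rw [← hq'] at h; exact h
      rw [← hu₀] at h2
      have h3 := (‹q'.IsPrime›.mem_or_mem h2).resolve_right hu
      exact ‹q'.IsPrime›.ne_top (Ideal.eq_top_of_isUnit_mem _ h3 ((isUnit_iff_ne_zero.mpr fun h4 =>
          hr (Ideal.algebraMap_residueField_eq_zero.mp h4)).map MvPolynomial.C))
    have hd : MvPolynomial.C r' * u₀ * x - z ∈ p.map MvPolynomial.C * I := by
      refine map_C_inf_ker_le φ hφ p ⟨(Groth.Calg5.RelGCI.map_eq_zero_iff_mem p _).mp ?_,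
        sub_mem (Ideal.mul_mem_left _ _ hx) (hfI hz)⟩
      rw [map_sub, map_mul, map_mul, MvPolynomial.map_C, ← hu₀, sub_eq_zero, ← hzeq]
      ring
    have hunit : IsUnit (ι (MvPolynomial.C r' * u₀)) := IsLocalization.map_units B
      (⟨_, fun h => (‹q.IsPrime›.mem_or_mem h).elim (hCq r' hr') hu₀q⟩ : q.primeCompl)
    rw [Ideal.mem_comap, ← Ideal.unit_mul_mem_iff_mem _ hunit, ← map_mul]
    have hsplit : MvPolynomial.C r' * u₀ * x = z + (MvPolynomial.C r' * u₀ * x - z) := by ring
    rw [hsplit, map_add]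
    refine Submodule.add_mem_sup (Ideal.mem_map_of_mem _ hz) ?_
    have hpm : (p.map MvPolynomial.C).map ι ≤ IsLocalRing.maximalIdeal B := by
      refine le_trans (Ideal.map_mono ?_) (Localization.AtPrime.map_eq_maximalIdeal).le
      exact Ideal.map_le_iff_le_comap.mpr hq.ge
    have := Ideal.mem_map_of_mem ι hd
    rw [Ideal.map_mul] at this
    exact Ideal.mul_mono_left hpm this
  obtain ⟨h, hh, hhI⟩ := Groth.KoszulLCI.exists_away_generators hI q f
    (Submodule.le_of_le_smul_of_le_jacobson_bot (hI.map ι)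
      (IsLocalRing.maximalIdeal_le_jacobson ⊥) hle)
  exact ⟨h, hh, hhI⟩

end Groth.Syntomic
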