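import Groth.Agent.Calg5.RelGCIFlat

/-!
# Base change of Koszul regular sequences with flat quotient
-/

set_option autoImplicit false

universe u

open Groth.FrobLCI.CE TensorProduct

namespace Groth.Syntomic

/-- The kernel of a surjection of flat modules is flat. -/
theorem flat_ker {A X Y : Type u} [CommRing A] [AddCommGroup X] [Module A X] [AddCommGroup Y]
    [Module A Y] [Module.Flat A X] [Module.Flat A Y] (g : X →ₗ[A] Y) (hg : Function.Surjective g) :
    Module.Flat A (LinearMap.ker g) := by
  have hex : Function.Exact (LinearMap.ker g).subtype g := LinearMap.exact_subtype_ker_map g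
  have hinj : ∀ (M : Type u) [AddCommGroup M] [Module A M],
      Function.Injective ((LinearMap.ker g).subtype.rTensor M) := fun M _ _ => by
    rw [← LinearMap.lTensor_inj_iff_rTensor_inj]
    exact LinearMap.lTensor_injective_of_exact_of_flat g hg _ Subtype.val_injective hex M
  refine Module.Flat.iff_lTensor_preserves_injective_linearMap.2 fun M N _ _ _ _ φ hφ => ?_
  refine Function.Injective.of_comp (f := (LinearMap.ker g).subtype.rTensor N) ?_
  rw [← LinearMap.coe_comp, LinearMap.rTensor_comp_lTensor, ← LinearMap.lTensor_comp_rTensor,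
    LinearMap.coe_comp]
  exact (Module.Flat.lTensor_preserves_injective_linearMap φ hφ).comp (hinj M)

/-- Exactness survives tensoring when the cokernel of the second map is flat. -/
theorem exact_lTensor_of_flat_coker {R C₂ C₁ C₀ : Type u} [CommRing R] [AddCommGroup C₂]
    [Module R C₂] [AddCommGroup C₁] [Module R C₁] [AddCommGroup C₀] [Module R C₀]
    (f : C₂ →ₗ[R] C₁) (g : C₁ →ₗ[R] C₀) (hex : Function.Exact f g)
    [Module.Flat R (C₀ ⧸ LinearMap.range g)] (M : Type u) [AddCommGroup M] [Module R M] :
    Function.Exact (f.lTensor M) (g.lTensor M) := by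
  have hex' : Function.Exact f g.rangeRestrict := fun z ↦
    (Subtype.ext_iff (a1 := g.rangeRestrict z) (a2 := 0)).trans (hex z)
  have h1 := lTensor_exact M hex' g.surjective_rangeRestrict
  have hι : Function.Injective ((LinearMap.range g).subtype.lTensor M) :=
    LinearMap.lTensor_injective_of_exact_of_flat _ (Submodule.mkQ_surjective _) _
      Subtype.val_injective (LinearMap.exact_subtype_mkQ _) M
  intro z
  rw [← h1 z, show g.lTensor M = ((LinearMap.range g).subtype.lTensor M).comp
    (g.rangeRestrict.lTensor M) by rw [← LinearMap.lTensor_comp]; rfl,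
    LinearMap.comp_apply]
  exact map_eq_zero_iff _ hι

/-- Exactness of the model in positive degrees gives Koszul regularity. -/
theorem isKoszulRegularSeq_of_exact {A : Type u} [CommRing A] {m : ℕ} (x : Fin m → A)
    (h : ∀ i (v : idx m (i + 1) → A), d x i v = 0 → ∃ w, d x (i + 1) w = v) :
    LCI.IsKoszulRegularSeq A (List.ofFn x) := by
  intro j hj
  rcases lt_trichotomy j 0 with hneg | h0 | hpos
  · obtain ⟨i, rfl⟩ : ∃ i : ℕ, j = -((i + 1 : ℕ) : ℤ) := ⟨(-j).toNat - 1, by omega⟩
    obtain ⟨T, hT⟩ := Groth.Calg5.KoszulColon.exists_equiv x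
    refine ((HomologicalComplex.exactAt_iff_isZero_homology _ _).mp ?_)
    rw [HomologicalComplex.exactAt_iff' _ (-((i + 2 : ℕ) : ℤ)) (-((i + 1 : ℕ) : ℤ)) (-(i : ℤ))
      (by simp; ring) (by simp), CategoryTheory.ShortComplex.moduleCat_exact_iff]
    intro v hv
    obtain ⟨w, hw⟩ := h i (T (i + 1) v) ((hT i v).symm.trans ((congrArg (T i) hv).trans (map_zero _)))
    refine ⟨(T (i + 2)).symm w, (T (i + 1)).injective ((hT (i + 1) _).trans ?_)⟩
    exact (congrArg (d x (i + 1)) ((T (i + 2)).apply_symm_apply w)).trans hw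
  · exact absurd h0 hj
  · exact Groth.KoszulReg.isZero_koszul_homology _ j hpos

variable {R : Type u} [CommRing R] {N m : ℕ} (x : Fin m → MvPolynomial (Fin N) R)

/-- The differential as a map of `R`-modules. -/
noncomputable def dR (i : ℕ) :
    (idx m (i + 1) → MvPolynomial (Fin N) R) →ₗ[R] (idx m i → MvPolynomial (Fin N) R) :=
  (dL x i).restrictScalars R

/-- All cokernels of the Koszul complex of a Koszul regular sequence with flat quotient are flat. -/
theorem flat_coker (hx : LCI.IsKoszulRegularSeq (MvPolynomial (Fin N) R) (List.ofFn x))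
    [Module.Flat R (MvPolynomial (Fin N) R ⧸ Ideal.span (Set.range x))] :
    ∀ i, Module.Flat R ((idx m i → MvPolynomial (Fin N) R) ⧸ LinearMap.range (dR x i)) := by
  intro i
  induction i with
  | zero =>
    let ev : (idx m 0 → MvPolynomial (Fin N) R) →ₗ[R]
        MvPolynomial (Fin N) R ⧸ Ideal.span (Set.range x) :=
      (Ideal.Quotient.mkₐ R _).toLinearMap.comp (LinearMap.proj (pt m))
    have hsurj : Function.Surjective ev := fun z ↦ by
      obtain ⟨p, rfl⟩ := Ideal.Quotient.mk_surjective z
      exact ⟨fun _ ↦ p, rfl⟩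
    have hker : LinearMap.range (dR x 0) = LinearMap.ker ev := by
      ext v
      constructor
      · rintro ⟨w, rfl⟩
        change Ideal.Quotient.mk _ (d x 0 w (pt m)) = 0
        rw [Ideal.Quotient.eq_zero_iff_mem]
        have := d_mem_smul_top x 0 w (pt m)
        rwa [smul_eq_mul, Ideal.mul_top] at this
      · intro hv
        change Ideal.Quotient.mk _ (v (pt m)) = 0 at hv
        rw [Ideal.Quotient.eq_zero_iff_mem] at hv
        obtain ⟨w, hw⟩ := exists_d_eq x (v (pt m)) (by rwa [smul_eq_mul, Ideal.mul_top])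
        exact ⟨w, funext fun j ↦ by rw [eq_pt m j]; exact hw⟩
    exact Module.Flat.of_linearEquiv
      ((Submodule.quotEquivOfEq _ _ hker).trans (ev.quotKerEquivOfSurjective hsurj))
  | succ i ih =>
    let Q := (idx m i → MvPolynomial (Fin N) R) ⧸ LinearMap.range (dR x i)
    let π : (idx m i → MvPolynomial (Fin N) R) →ₗ[R] Q := Submodule.mkQ _
    have := flat_ker π (Submodule.mkQ_surjective _)
    have hker : LinearMap.range (dR x (i + 1)) = LinearMap.ker (dR x i) := by
      ext v
      constructor
      · rintro ⟨w, rfl⟩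
        exact d_d x i w
      · intro hv
        exact Groth.Calg5.KoszulColon.exact_of_isKoszulRegularSeq x hx i v hv
    exact Module.Flat.of_linearEquiv ((Submodule.quotEquivOfEq _ _ hker).trans
      ((dR x i).quotKerEquivRange.trans (LinearEquiv.ofEq _ _ (Submodule.ker_mkQ _).symm)))

attribute [local instance] MvPolynomial.algebraMvPolynomial

/-- **Koszul regular sequences with flat quotient stay Koszul regular after base change.** -/
theorem isKoszulRegularSeq_map_of_flat
    (hx : LCI.IsKoszulRegularSeq (MvPolynomial (Fin N) R) (List.ofFn x))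
    [Module.Flat R (MvPolynomial (Fin N) R ⧸ Ideal.span (Set.range x))]
    (R' : Type u) [CommRing R'] [Algebra R R'] :
    LCI.IsKoszulRegularSeq (MvPolynomial (Fin N) R')
      (List.ofFn fun i ↦ MvPolynomial.map (algebraMap R R') (x i)) := by
  let φ := MvPolynomial.map (σ := Fin N) (algebraMap R R')
  let y : Fin m → MvPolynomial (Fin N) R' := φ ∘ x
  let Φ : ∀ i, R' ⊗[R] (idx m i → MvPolynomial (Fin N) R) ≃ₗ[R']
      (idx m i → MvPolynomial (Fin N) R') := fun i ↦
    (TensorProduct.piRight R R' R' (fun _ : idx m i ↦ MvPolynomial (Fin N) R)).trans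
      (LinearEquiv.piCongrRight fun _ ↦ (MvPolynomial.algebraTensorAlgEquiv R R').toLinearEquiv)
  have hΦ : ∀ i (a : R') (v : idx m i → MvPolynomial (Fin N) R),
      Φ i (a ⊗ₜ v) = MvPolynomial.C (σ := Fin N) a • (φ ∘ v) := fun i a v ↦ funext fun j ↦ by
    simp [Φ, φ, MvPolynomial.algebraTensorAlgEquiv_tmul, Algebra.smul_def]
  have hd : ∀ i z, d y i (Φ (i + 1) z) = Φ i ((dR x i).lTensor R' z) := by
    intro i z
    induction z using TensorProduct.induction_on with
    | zero => rw [map_zero, map_zero, map_zero]; exact map_zero (dL y i)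
    | add a b ha hb => rw [map_add, map_add, map_add, d_add, ha, hb]
    | tmul a v =>
      rw [LinearMap.lTensor_tmul, hΦ, hΦ, d_smul, show y = φ ∘ x from rfl, d_ringHom]
      rfl
  refine isKoszulRegularSeq_of_exact y fun i v hv ↦ ?_
  have hex : Function.Exact (dR x (i + 1)) (dR x i) := fun w ↦
    ⟨fun hw ↦ Groth.Calg5.KoszulColon.exact_of_isKoszulRegularSeq x hx i w hw,
      fun ⟨z, hz⟩ ↦ hz ▸ d_d x i z⟩
  have := flat_coker x hx i
  have hz : (dR x i).lTensor R' ((Φ (i + 1)).symm v) = 0 := (Φ i).injective (by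
    rw [← hd, LinearEquiv.apply_symm_apply, hv, map_zero])
  obtain ⟨w, hw⟩ := (exact_lTensor_of_flat_coker _ _ hex R' _).mp hz
  refine ⟨Φ (i + 2) w, ?_⟩
  rw [hd, hw, LinearEquiv.apply_symm_apply]

end Groth.Syntomic
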