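import Groth.Agent.Syntomic.Main
import Groth.Agent.GitQuot.FppfSource
import Mathlib.RingTheory.Spectrum.Prime.Chevalley

/-!
# Local complete intersections descend along syntomic surjections on the source
-/

set_option autoImplicit false
set_option linter.style.haveILetI false

universe u

open TensorProduct

namespace Groth.Syntomic

open Groth.KoszulLCI

/-- Descent of regular generators when the ideal becomes regular after adding a regular sequence `p`
which stays regular modulo the ideal. -/
theorem genReg_of_regular_append {P L X L' : Type u} [CommRing P] [CommRing L] [CommRing X]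
    [CommRing L'] [IsLocalRing L] [IsLocalRing L'] [Algebra P L] [Algebra P X]
    [Module.FaithfullyFlat P X] (J : Ideal P) (hJ : J.FG) (p : List L)
    (hp : LCI.IsKoszulRegularSeq L p) (π : L →+* X) (hπ : Function.Surjective π)
    (hker : RingHom.ker π = Ideal.ofList p) (hπP : π.comp (algebraMap P L) = algebraMap P X)
    (θ : L →+* L') (hθJ : ∀ x ∈ J, θ (algebraMap P L x) = 0)
    (hθp : LCI.IsKoszulRegularSeq L' (p.map θ)) (hθne : Ideal.ofList (p.map θ) ≠ ⊤) {r : ℕ}
    (h : GenReg (Ideal.ofList p ⊔ J.map (algebraMap P L)) r)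
    (hne : Ideal.ofList p ⊔ J.map (algebraMap P L) ≠ ⊤) :
    GenReg J (r - p.length) := by
  obtain ⟨s, hs⟩ := hJ
  obtain ⟨f, -, hfJ, hirr⟩ := exists_irredundant _ s.toList le_rfl
  have hfJ' : Ideal.ofList f = J := by
    rw [hfJ, ← hs]
    exact congrArg Ideal.span (Set.ext fun x => Finset.mem_toList)
  let ι := algebraMap P L
  obtain ⟨l, hl, hreg, hlK⟩ := h
  have hq : Ideal.ofList (p ++ f.map ι) = Ideal.ofList l := by
    rw [Ideal.ofList_append, ← Ideal.map_ofList, hfJ', hlK]
  obtain ⟨hle, hreg', hred⟩ :=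
    exchange _ l [] (p ++ f.map ι) rfl hreg (by simpa [hlK] using hne) hq
  have hlen : (p ++ f.map ι).length = l.length := by
    by_contra hne'
    obtain ⟨a, rest, hperm, hrest⟩ := hred (lt_of_le_of_ne hle (Ne.symm hne'))
    rw [List.nil_append] at hperm hrest
    classical
    rcases List.mem_append.mp (hperm.mem_iff.mpr (List.mem_cons_self ..)) with ha | ha
    · -- a redundant element of `p`
      obtain ⟨p', hp'⟩ : ∃ p', p.Perm (a :: p') := ⟨_, List.perm_cons_erase ha⟩
      have hr : rest.Perm (p' ++ f.map ι) :=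
        (List.perm_cons _).mp (hperm.symm.trans (hp'.append_right _))
      have hkill : (J.map ι).map θ = ⊥ := by
        rw [eq_bot_iff, Ideal.map_map, Ideal.map_le_iff_le_comap]
        exact fun x hx => hθJ x hx
      have h1 : Ideal.ofList (p'.map θ) = Ideal.ofList (p.map θ) := by
        have h2 := congrArg (Ideal.map θ) ((ofList_eq_of_perm hr).symm.trans (hrest.trans hq.symm))
        rw [Ideal.ofList_append, Ideal.ofList_append, Ideal.map_sup, Ideal.map_sup,
          ← Ideal.map_ofList ι, hfJ', hkill, sup_bot_eq, sup_bot_eq] at h2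
        rwa [Ideal.map_ofList, Ideal.map_ofList] at h2
      have h3 := length_le_of_ofList_eq hθp hθne h1
      have h4 := hp'.length_eq
      simp only [List.length_map, List.length_cons] at h3 h4
      omega
    · -- a redundant element of `J`
      obtain ⟨i, hi, rfl⟩ : ∃ (i : ℕ) (hi : i < f.length), ι f[i] = a := by
        obtain ⟨b, hb, rfl⟩ := List.mem_map.mp ha
        obtain ⟨i, hi, rfl⟩ := List.mem_iff_getElem.mp hb
        exact ⟨i, hi, rfl⟩
      have hp' : (f[i] :: f.eraseIdx i).Perm f := List.getElem_cons_eraseIdx_perm hi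
      have hr : rest.Perm (p ++ (f.eraseIdx i).map ι) :=
        (List.perm_cons _).mp (hperm.symm.trans
          (((hp'.symm.map ι).append_left p).trans List.perm_middle))
      refine hirr ⟨f[i], f.eraseIdx i, hp'.symm,
        Ideal.map_injective_of_faithfullyFlat (A := P) (B := X) ?_⟩
      have h2 := congrArg (Ideal.map π) ((ofList_eq_of_perm hr).symm.trans (hrest.trans hq.symm))
      have hpbot : (Ideal.ofList p).map π = ⊥ := by rw [← hker, Ideal.map_eq_bot_iff_le_ker]
      rw [Ideal.ofList_append, Ideal.ofList_append, Ideal.map_sup, Ideal.map_sup, hpbot, bot_sup_eq,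
        bot_sup_eq, ← Ideal.map_ofList ι, ← Ideal.map_ofList ι, Ideal.map_map, Ideal.map_map,
        hπP] at h2
      exact h2
  have h5 : LCI.IsKoszulRegularSeq L (f.map ι ++ p) :=
    isKoszulRegularSeq_of_perm List.perm_append_comm (hreg' hlen)
  have h6 := (isKoszulRegularSeq_append_iff p (f.map ι) hp π hπ hker).mp h5
  rw [List.map_map, ← RingHom.coe_comp, hπP] at h6
  refine ⟨f, ?_, isKoszulRegularSeq_of_faithfullyFlat (B := X) f h6, hfJ'⟩
  rw [List.length_append, List.length_map, hl] at hlen
  omega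

/-- The fibre of a relative global complete intersection over a quotient is the fibre of any lift. -/
theorem dim_fiber_lift {P B : Type u} [CommRing P] [CommRing B] (π₀ : P →+* B)
    (hπ₀ : Function.Surjective π₀) {m c : ℕ} {F : Fin c → MvPolynomial (Fin m) B}
    (F' : Fin c → MvPolynomial (Fin m) P) (hF' : ∀ i, MvPolynomial.map π₀ (F' i) = F i)
    (q : Ideal P) [q.IsPrime] (q₀ : Ideal B) [q₀.IsPrime] (hq : q = q₀.comap π₀) :
    ringKrullDim (q.Fiber (MvPolynomial (Fin m) P ⧸ Ideal.span (Set.range F'))) =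
      ringKrullDim (q₀.Fiber (MvPolynomial (Fin m) B ⧸ Ideal.span (Set.range F))) := by
  refine (ringKrullDim_eq_of_ringEquiv
      (Groth.Calg5.RelGCI.tensorQuotientEquiv q.ResidueField F').toRingEquiv).trans
    (Eq.trans ?_ (ringKrullDim_eq_of_ringEquiv
      (Groth.Calg5.RelGCI.tensorQuotientEquiv q₀.ResidueField F).toRingEquiv).symm)
  let e : q.ResidueField ≃+* q₀.ResidueField := RingEquiv.ofBijective
    (Ideal.ResidueField.map q q₀ π₀ hq)
    ((RingHom.surjectiveOnStalks_of_surjective hπ₀).residueFieldMap_bijective q q₀ hq)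
  refine ringKrullDim_eq_of_ringEquiv (Ideal.quotientEquiv _ _ (MvPolynomial.mapEquiv (Fin m) e) ?_)
  rw [Ideal.map_span, ← Set.range_comp]
  congr 2
  funext i
  rw [Function.comp_apply, ← hF' i, MvPolynomial.map_map]
  change _ = MvPolynomial.map (e : q.ResidueField →+* q₀.ResidueField)
    (MvPolynomial.map (algebraMap P q.ResidueField) (F' i))
  rw [MvPolynomial.map_map]
  congr 2
  exact RingHom.ext fun x => (Ideal.ResidueField.map_algebraMap q q₀ π₀ hq x).symm

/-- `genReg_of_regular_append` at a prime of an algebra lying over a prime of the base. -/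
theorem locReg_descend {P R L' : Type u} [CommRing P] [CommRing R] [CommRing L'] [IsLocalRing L']
    [Algebra P R] (q : Ideal P) [q.IsPrime] (q' : Ideal R) [q'.IsPrime]
    (hq : q = q'.comap (algebraMap P R)) (I : Ideal P) (hI : I.FG) (l : List R)
    (hl : LCI.IsKoszulRegularSeq (Localization.AtPrime q')
      (l.map (algebraMap R (Localization.AtPrime q'))))
    (hflat : Module.Flat P (Localization.AtPrime q' ⧸
      Ideal.ofList (l.map (algebraMap R (Localization.AtPrime q')))))
    (θ : Localization.AtPrime q' →+* L')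
    (hθI : ∀ x ∈ I, θ (algebraMap P (Localization.AtPrime q') x) = 0)
    (hθl : LCI.IsKoszulRegularSeq L' ((l.map (algebraMap R (Localization.AtPrime q'))).map θ))
    (hθne : Ideal.ofList ((l.map (algebraMap R (Localization.AtPrime q'))).map θ) ≠ ⊤)
    (hle : Ideal.ofList l ⊔ I.map (algebraMap P R) ≤ q') {r : ℕ}
    (h : LocReg (Ideal.ofList l ⊔ I.map (algebraMap P R)) q' r) :
    LocReg I q (r - l.length) := by
  have hne := map_atPrime_ne_top hle
  unfold LocReg at h
  rw [Ideal.map_sup, Ideal.map_ofList] at h hne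
  set p := l.map (algebraMap R (Localization.AtPrime q')) with hp
  let φ : Localization.AtPrime q →+* Localization.AtPrime q' :=
    Localization.localRingHom q q' (algebraMap P R) hq
  letI := φ.toAlgebra
  have hφ : ∀ x, φ (algebraMap P (Localization.AtPrime q) x) =
      algebraMap P (Localization.AtPrime q') x := fun x => by
    rw [Localization.localRingHom_to_map, ← IsScalarTower.algebraMap_apply]
  have : IsScalarTower P (Localization.AtPrime q) (Localization.AtPrime q') :=
    IsScalarTower.of_algebraMap_eq fun x => (hφ x).symm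
  have hIJ : (I.map (algebraMap P R)).map (algebraMap R (Localization.AtPrime q')) =
      (I.map (algebraMap P (Localization.AtPrime q))).map
        (algebraMap (Localization.AtPrime q) (Localization.AtPrime q')) := by
    rw [Ideal.map_map, Ideal.map_map, ← IsScalarTower.algebraMap_eq, ← IsScalarTower.algebraMap_eq]
  rw [hIJ] at h hne
  have hpne : Ideal.ofList p ≠ ⊤ := ne_top_of_le_ne_top hne le_sup_left
  have : Nontrivial (Localization.AtPrime q' ⧸ Ideal.ofList p) :=
    Ideal.Quotient.nontrivial_iff.mpr hpne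
  have : Module.Flat (Localization.AtPrime q) (Localization.AtPrime q' ⧸ Ideal.ofList p) :=
    (Module.flat_iff_of_isLocalization (Localization.AtPrime q) q.primeCompl _).mpr hflat
  have : IsLocalRing (Localization.AtPrime q' ⧸ Ideal.ofList p) :=
    IsLocalRing.of_surjective' _ Ideal.Quotient.mk_surjective
  have : IsLocalHom φ := Localization.isLocalHom_localRingHom _ _ _ _
  have : IsLocalHom (Ideal.Quotient.mk (Ideal.ofList p)) :=
    IsLocalHom.of_surjective _ Ideal.Quotient.mk_surjective
  have : IsLocalHom (algebraMap (Localization.AtPrime q) (Localization.AtPrime q' ⧸ Ideal.ofList p)) :=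
    RingHom.isLocalHom_comp (Ideal.Quotient.mk (Ideal.ofList p)) φ
  have : Module.FaithfullyFlat (Localization.AtPrime q) (Localization.AtPrime q' ⧸ Ideal.ofList p) :=
    Module.FaithfullyFlat.of_flat_of_isLocalHom (A := Localization.AtPrime q)
      (B := Localization.AtPrime q' ⧸ Ideal.ofList p)
  have hker : ∀ x ∈ I.map (algebraMap P (Localization.AtPrime q)),
      θ (algebraMap (Localization.AtPrime q) (Localization.AtPrime q') x) = 0 := by
    intro x hx
    refine (Ideal.map_le_iff_le_comap.mpr ?_ :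
      I.map (algebraMap P (Localization.AtPrime q)) ≤ RingHom.ker (θ.comp φ)) hx
    intro y hy
    rw [Ideal.mem_comap, RingHom.mem_ker, RingHom.comp_apply, hφ]
    exact hθI y hy
  have := genReg_of_regular_append (I.map (algebraMap P (Localization.AtPrime q))) (hI.map _) p hl
    (Ideal.Quotient.mk (Ideal.ofList p)) Ideal.Quotient.mk_surjective Ideal.mk_ker rfl θ hker hθl
    hθne h hne
  rwa [hp, List.length_map] at this

/-- Regular generators of `I` at `q` from regular generators of `(F') + I` upstairs. -/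
theorem locReg_of_lift {P B : Type u} [CommRing P] [CommRing B] (π₀ : P →+* B)
    (hπ₀ : Function.Surjective π₀) (hI : (RingHom.ker π₀).FG) {m c : ℕ}
    {F : Fin c → MvPolynomial (Fin m) B} (hF : Synt.IsRelGCI B m c F)
    (F' : Fin c → MvPolynomial (Fin m) P) (hF' : ∀ i, MvPolynomial.map π₀ (F' i) = F i)
    (q : Ideal P) [q.IsPrime] (q' : Ideal (MvPolynomial (Fin m) P)) [q'.IsPrime]
    (hq : q'.comap MvPolynomial.C = q)
    (hq' : Ideal.span (Set.range F') ⊔ (RingHom.ker π₀).map MvPolynomial.C ≤ q') {r : ℕ}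
    (h : LocReg (Ideal.span (Set.range F') ⊔ (RingHom.ker π₀).map MvPolynomial.C) q' r) :
    LocReg (RingHom.ker π₀) q (r - c) := by
  subst hq
  let π := MvPolynomial.map (σ := Fin m) π₀
  have hπ : Function.Surjective π := MvPolynomial.map_surjective _ hπ₀
  have hkq : RingHom.ker π ≤ q' := by
    rw [MvPolynomial.ker_map]
    exact le_sup_right.trans hq'
  let q₁ : Ideal (MvPolynomial (Fin m) B) := q'.map π
  have hq₁ : q₁.IsPrime := Ideal.map_isPrime_of_surjective hπ hkq
  have hq₁c : q₁.comap π = q' :=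
    (Ideal.comap_map_of_surjective π hπ q').trans (sup_eq_left.mpr hkq)
  have hFq₁ : Ideal.span (Set.range F) ≤ q₁ := by
    rw [Ideal.span_le]
    rintro _ ⟨i, rfl⟩
    rw [← hF' i]
    exact Ideal.mem_map_of_mem π (hq' (Ideal.mem_sup_left (Ideal.subset_span ⟨i, rfl⟩)))
  let q₀ : Ideal B := q₁.comap MvPolynomial.C
  have hq₀p : q₀.IsPrime := inferInstanceAs (q₁.comap MvPolynomial.C).IsPrime
  have hq₀ : q'.comap MvPolynomial.C = q₀.comap π₀ := by
    rw [Ideal.comap_comap, ← hq₁c, Ideal.comap_comap]
    congr 1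
    exact RingHom.ext fun x => MvPolynomial.map_C π₀ x
  obtain ⟨hc, hdim⟩ := hF ⟨q₀, hq₀p⟩ (Groth.Calg5.RelGCI.nontrivial_fibre hFq₁ q₀ rfl)
  obtain ⟨hwr, hflat⟩ := Groth.Calg5.RelGCI.regular_flat F' q' (le_sup_left.trans hq') hc _ rfl
    ((dim_fiber_lift π₀ hπ₀ F' hF' _ q₀ hq₀).trans hdim).le
  have hflat' : Module.Flat P (Localization.AtPrime q' ⧸ Ideal.ofList
      ((List.ofFn F').map (algebraMap _ (Localization.AtPrime q')))) := by
    have := hflat c
    rwa [List.take_of_length_le (by simp)] at this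
  have hθp : ((List.ofFn F').map (algebraMap _ (Localization.AtPrime q'))).map
      (Localization.localRingHom q' q₁ π hq₁c.symm) =
      (List.ofFn F).map (algebraMap _ (Localization.AtPrime q₁)) := by
    rw [List.map_ofFn, List.map_ofFn, List.map_ofFn]
    congr 1
    funext i
    rw [Function.comp_apply, Function.comp_apply, Localization.localRingHom_to_map, Function.comp_apply]
    exact congrArg _ (hF' i)
  rw [← Groth.Calg5.RelGCI.ofList_ofFn, ← MvPolynomial.algebraMap_eq] at h hq'
  have key := locReg_descend (q'.comap MvPolynomial.C) q' (by rw [MvPolynomial.algebraMap_eq])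
    (RingHom.ker π₀) hI (List.ofFn F') (Groth.KoszulReg.isKoszulRegularSeq_of_isWeaklyRegular hwr)
    hflat' (Localization.localRingHom q' q₁ π hq₁c.symm)
    (fun x hx => by
      rw [IsScalarTower.algebraMap_apply P (MvPolynomial (Fin m) P) (Localization.AtPrime q'),
        Localization.localRingHom_to_map, MvPolynomial.algebraMap_eq, MvPolynomial.map_C,
        RingHom.mem_ker.mp hx, map_zero, map_zero])
    (hθp ▸ isKoszulRegularSeq_localization q₁ (Groth.Calg5.RelGCI.isKoszulRegularSeq_of_isRelGCI hF))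
    (by
      rw [hθp, ← Ideal.map_ofList, Groth.Calg5.RelGCI.ofList_ofFn]
      exact map_atPrime_ne_top hFq₁)
    hq' h
  rwa [List.length_ofFn] at key

/-- **Local complete intersection descends along faithfully flat syntomic maps on the source.** -/
theorem isLCI_of_comp {A B C : Type u} [CommRing A] [CommRing B] [CommRing C] [Algebra A B]
    [Algebra B C] [Algebra A C] [IsScalarTower A B C] [Module.FaithfullyFlat B C]
    (hs : Synt.IsSyntomic B C) (h : LCI.IsLCI A C) : LCI.IsLCI A B := by
  have := hs.2.1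
  have hfp : Algebra.FinitePresentation A C := by
    obtain ⟨-, n, β, hβ, hK⟩ := h
    exact ⟨n, β, hβ, fg_of_isKoszulRegularIdeal hK⟩
  have hfpB : Algebra.FinitePresentation A B := Groth.GitQuot.FppfSource.finitePresentation_of_fppf A B C
  obtain ⟨n, α, hα, hI⟩ := hfpB.out
  refine ⟨inferInstance, n, α, hα, isKoszulRegularIdeal_of_locReg hI fun p hp hIp => ?_⟩
  let p₀ : Ideal B := p.map α.toRingHom
  have hp₀ : p₀.IsPrime := Ideal.map_isPrime_of_surjective hα hIp
  obtain ⟨⟨Q, hQ⟩, hQp⟩ := PrimeSpectrum.comap_surjective_of_faithfullyFlat (B := C) ⟨p₀, hp₀⟩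
  have hQp' : Q.comap (algebraMap B C) = p₀ := congrArg PrimeSpectrum.asIdeal hQp
  obtain ⟨t, ht, m, c, F, hF, ⟨e⟩⟩ := isLocRelGCI_of_isSyntomic hs Q hQ
  choose F' hF' using fun i => MvPolynomial.map_surjective α.toRingHom hα (F i)
  let C' := Localization.Away t
  let γ : MvPolynomial (Fin m) (MvPolynomial (Fin n) A) →ₐ[A] C' :=
    ((e.toAlgHom.comp (Ideal.Quotient.mkₐ B (Ideal.span (Set.range F)))).restrictScalars A).comp
      (MvPolynomial.mapAlgHom α)
  have hγ : Function.Surjective γ := (e.surjective.comp Ideal.Quotient.mk_surjective).comp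
    (MvPolynomial.map_surjective _ hα)
  have hγC : ∀ x, γ (MvPolynomial.C x) = algebraMap B C' (α x) := fun x => by
    change e (Ideal.Quotient.mk _ (MvPolynomial.map α.toRingHom (MvPolynomial.C x))) = _
    rw [MvPolynomial.map_C]
    exact e.commutes (α x)
  have hker : RingHom.ker γ.toRingHom =
      Ideal.span (Set.range F') ⊔ (RingHom.ker α.toRingHom).map MvPolynomial.C := by
    have h1 : RingHom.ker γ.toRingHom =
        (Ideal.span (Set.range F)).comap (MvPolynomial.map α.toRingHom) := by
      ext x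
      rw [RingHom.mem_ker, Ideal.mem_comap, ← Ideal.Quotient.eq_zero_iff_mem]
      exact map_eq_zero_iff e e.injective
    have h2 : Ideal.span (Set.range F) =
        (Ideal.span (Set.range F')).map (MvPolynomial.map α.toRingHom) := by
      rw [Ideal.map_span, ← Set.range_comp]
      congr 2
      exact funext fun i => (hF' i).symm
    rw [h1, h2, Ideal.comap_map_of_surjective _ (MvPolynomial.map_surjective _ hα),
      ← RingHom.ker_eq_comap_bot, MvPolynomial.ker_map]
  obtain ⟨-, k, β, hβ, hK⟩ := isLCI_trans h (isLCI_away (R := C) (S := C') t)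
  have hγK := isKoszulRegularIdeal_ker_twoStep γ hγ β hβ hK
  rw [hker] at hγK
  have hdisj : Disjoint (Submonoid.powers t : Set C) Q := by
    rw [Set.disjoint_left]
    rintro _ ⟨k, rfl⟩ hk
    exact ht (hQ.mem_of_pow_mem k hk)
  let Q₀ : PrimeSpectrum C' := ⟨Q.map (algebraMap C C'),
    IsLocalization.isPrime_of_isPrime_disjoint _ _ Q hQ hdisj⟩
  let q₀ : Ideal (MvPolynomial (Fin m) (MvPolynomial (Fin n) A)) := Q₀.asIdeal.comap γ.toRingHom
  have : q₀.IsPrime := Q₀.isPrime.comap γ.toRingHom
  have hKq : ∀ Q' : Ideal C', Ideal.span (Set.range F') ⊔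
      (RingHom.ker α.toRingHom).map MvPolynomial.C ≤ Q'.comap γ.toRingHom := fun Q' => by
    rw [← hker]
    exact fun x hx => by rw [Ideal.mem_comap, RingHom.mem_ker.mp hx]; exact zero_mem _
  obtain ⟨g, hg, r, hr⟩ := locReg_of_isKoszulRegularIdeal hγK q₀ (hKq _)
  have := hs.1
  have : Module.Flat B C' := Module.Flat.trans B C _
  have : Algebra.FinitePresentation B C' :=
    (Groth.Calg5.RelGCI.isSyntomic_of_isRelGCI hF).2.1.equiv e
  have hopen := PrimeSpectrum.isOpenMap_comap_of_hasGoingDown_of_finitePresentation (R := B) (S := C')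
    _ (PrimeSpectrum.basicOpen (γ g)).2
  have hmem : (⟨p₀, hp₀⟩ : PrimeSpectrum B) ∈
      PrimeSpectrum.comap (algebraMap B C') '' (PrimeSpectrum.basicOpen (γ g) : Set _) := by
    refine ⟨Q₀, hg, PrimeSpectrum.ext ?_⟩
    change (Q.map (algebraMap C C')).comap (algebraMap B C') = p₀
    have hQc : (Q.map (algebraMap C C')).comap (algebraMap C C') = Q :=
      IsLocalization.under_map_of_isPrime_disjoint _ C' hQ hdisj
    rw [IsScalarTower.algebraMap_eq B C C', ← Ideal.comap_comap, hQc, hQp']
  obtain ⟨_, ⟨b₀, rfl⟩, hb₀, hsub⟩ :=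
    PrimeSpectrum.isTopologicalBasis_basic_opens.exists_subset_of_mem_open hmem hopen
  obtain ⟨b, rfl⟩ := hα b₀
  refine ⟨b, fun hb => hb₀ (Ideal.mem_map_of_mem _ hb), r - c, fun q _ hIq hbq => ?_⟩
  have hq₀ : (q.map α.toRingHom).IsPrime := Ideal.map_isPrime_of_surjective hα hIq
  have hqc : (q.map α.toRingHom).comap α.toRingHom = q :=
    (Ideal.comap_map_of_surjective _ hα q).trans (sup_eq_left.mpr hIq)
  obtain ⟨Q', hQ'g, hQ'⟩ := hsub (show (⟨q.map α.toRingHom, hq₀⟩ : PrimeSpectrum B) ∈
    (PrimeSpectrum.basicOpen (α b) : Set _) from fun hc => hbq (hqc ▸ (show b ∈ _ from hc)))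
  refine locReg_of_lift α.toRingHom hα hI hF F' hF' q (Q'.asIdeal.comap γ.toRingHom) ?_ (hKq _)
    (hr _ hQ'g)
  have h9 : Q'.asIdeal.comap (algebraMap B C') = q.map α.toRingHom := congrArg PrimeSpectrum.asIdeal hQ'
  rw [← hqc, ← h9]
  ext x
  simp only [Ideal.mem_comap]
  rw [show γ.toRingHom (MvPolynomial.C x) = _ from hγC x]
  rfl

end Groth.Syntomic
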