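import Groth.Agent.Syntomic.Scheme
import Groth.Agent.Syntomic.Precomp
import Groth.Agent.DescentBase.SourceLocal

/-!
# Descent of local complete intersection morphisms along syntomic surjections
-/

set_option autoImplicit false

universe u

open AlgebraicGeometry CategoryTheory Groth.KoszulLCI

namespace Groth.Syntomic

variable {X' X Y : Scheme.{u}}

/-- Being a local complete intersection descends on the source along syntomic surjections. -/
theorem morLCI_of_comp_syntomic (f : X' ⟶ X) (g : X ⟶ Y) (hf : Synt.IsSyntomicMor f) [Surjective f]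
    (h : MorLCI (f ≫ g)) : MorLCI g := by
  have := flat_of_isSyntomicMor hf
  have := locallyOfFinitePresentation_of_isSyntomicMor hf
  rw [morLCI_iff]
  intro V U hV hU e
  obtain ⟨W, p, hW, hrange, ⟨hflat, hlci⟩, hPg⟩ :=
    Groth.DescentBase.exists_affine_cover_of_isOpenMap (@Flat ⊓ MorLCI) MorLCI f g
      ⟨‹_›, morLCI_of_isSyntomicMor hf⟩ h f.isOpenMap f.surjective hV
  have e1 : (⊤ : W.Opens) ≤ p ⁻¹ᵁ V := fun w _ => by
    have : p.base w ∈ (V : Set X) := hrange ▸ Set.mem_range_self w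
    exact this
  have e2 : (⊤ : W.Opens) ≤ (p ≫ g) ⁻¹ᵁ U := fun w _ => e (e1 (show w ∈ (⊤ : W.Opens) from trivial))
  have hs := isSyntomic_appLE ((isSyntomicMor_iff p).mpr ⟨hflat, hlci⟩) ⟨⊤, isAffineOpen_top W⟩ ⟨V, hV⟩ e1
  have hc := (morLCI_iff (p ≫ g)).mp hPg ⊤ U (isAffineOpen_top W) hU e2
  letI := (g.appLE U V e).hom.toAlgebra
  letI := (p.appLE V ⊤ e1).hom.toAlgebra
  letI := ((p ≫ g).appLE U ⊤ e2).hom.toAlgebra
  have : IsScalarTower Γ(Y, U) Γ(X, V) Γ(W, ⊤) := by
    refine IsScalarTower.of_algebraMap_eq' ?_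
    rw [RingHom.algebraMap_toAlgebra, RingHom.algebraMap_toAlgebra, RingHom.algebraMap_toAlgebra,
      ← CommRingCat.hom_comp, Scheme.Hom.appLE_comp_appLE]
  have := hs.1
  have : Module.FaithfullyFlat Γ(X, V) Γ(W, ⊤) := by
    refine Groth.DescentBase.faithfullyFlat_of fun q => ?_
    obtain ⟨w, hw⟩ : hV.fromSpec.base q ∈ Set.range p.base := by
      rw [hrange]
      exact hV.range_fromSpec ▸ Set.mem_range_self q
    refine ⟨(isAffineOpen_top W).primeIdealOf ⟨w, trivial⟩, hV.fromSpec.isOpenEmbedding.injective ?_⟩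
    change hV.fromSpec.base ((Spec.map (p.appLE V ⊤ e1)).base
      ((isAffineOpen_top W).primeIdealOf ⟨w, trivial⟩)) = _
    rw [← Scheme.Hom.comp_apply, IsAffineOpen.SpecMap_appLE_fromSpec p hV (isAffineOpen_top W) e1,
      Scheme.Hom.comp_apply, IsAffineOpen.fromSpec_primeIdealOf]
    exact hw
  exact isLCI_of_comp hs hc

/-- Descent of syntomic morphisms along fpqc covers of the base. -/
theorem isSyntomicMor_of_pullback_snd (f : X ⟶ Y) (g : X' ⟶ Y) [Flat g] [Surjective g]
    [QuasiCompact g] (h : Synt.IsSyntomicMor (Limits.pullback.snd f g)) : Synt.IsSyntomicMor f := by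
  obtain ⟨h1, h2⟩ := (isSyntomicMor_iff _).mp h
  have := morLCI_descends.{u}
  have : MorphismProperty.DescendsAlong @Flat.{u} (@Surjective ⊓ @Flat ⊓ @QuasiCompact) :=
    HasRingHomProperty.descendsAlong_flat <| by
      refine .mk _ RingHom.Flat.respectsIso fun R S T _ _ _ _ _ h h' ↦ ?_
      rw [RingHom.flat_algebraMap_iff] at h' ⊢
      rw [RingHom.faithfullyFlat_algebraMap_iff] at h
      exact Module.Flat.of_flat_tensorProduct R T S
  refine (isSyntomicMor_iff f).mpr ⟨?_, ?_⟩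
  · exact MorphismProperty.of_pullback_snd_of_descendsAlong (P := @Flat)
      (Q := @Surjective ⊓ @Flat ⊓ @QuasiCompact) (f := f) (g := g) ⟨⟨‹_›, ‹_›⟩, ‹_›⟩ h1
  · exact MorphismProperty.of_pullback_snd_of_descendsAlong (P := MorLCI)
      (Q := @Surjective ⊓ @Flat ⊓ @QuasiCompact) (f := f) (g := g) ⟨⟨‹_›, ‹_›⟩, ‹_›⟩ h2

end Groth.Syntomic
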