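import Groth.Agent.Syntomic.Main
import Groth.Agent.KoszulLCI.Immersion

/-!
# Syntomic morphisms of schemes
-/

set_option autoImplicit false

universe u

open AlgebraicGeometry CategoryTheory Groth.KoszulLCI

namespace Groth.Syntomic

variable {X Y Z : Scheme.{u}} {f : X ⟶ Y}

/-- **A morphism is syntomic iff it is flat and a local complete intersection morphism.** -/
theorem isSyntomicMor_iff (f : X ⟶ Y) : Synt.IsSyntomicMor f ↔ Flat f ∧ MorLCI f := by
  constructor
  · intro h
    constructor
    · refine (HasRingHomProperty.iff_exists_appLE (P := @Flat)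
        (RingHom.Flat.stableUnderComposition.stableUnderCompositionWithLocalizationAway
          RingHom.Flat.holdsForLocalizationAway).left).mpr fun x => ?_
      obtain ⟨U, V, e, hx, hs⟩ := h x
      letI := (f.appLE V.1 U.1 e).hom.toAlgebra
      exact ⟨V, U, hx, e, (isSyntomic_iff.mp hs).1⟩
    · rw [morLCI_iff_exists]
      intro x
      obtain ⟨U, V, e, hx, hs⟩ := h x
      letI := (f.appLE V.1 U.1 e).hom.toAlgebra
      exact ⟨V, U, hx, e, (isSyntomic_iff.mp hs).2⟩
  · rintro ⟨hflat, hlci⟩ x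
    obtain ⟨V, hV, hfx, -⟩ :=
      exists_isAffineOpen_mem_and_subset (x := f x) (U := ⊤) trivial
    obtain ⟨U, hU, hxU, hUV⟩ := exists_isAffineOpen_mem_and_subset (x := x) (U := f ⁻¹ᵁ V) hfx
    letI := (f.appLE V U hUV).hom.toAlgebra
    refine ⟨⟨U, hU⟩, ⟨V, hV⟩, hUV, hxU, isSyntomic_iff.mpr ?_⟩
    exact ⟨HasRingHomProperty.appLE (P := @Flat) f hflat ⟨V, hV⟩ ⟨U, hU⟩ hUV,
      (morLCI_iff f).mp hlci U V hU hV hUV⟩

/-- Syntomic morphisms restrict to syntomic ring maps on all pairs of affine opens. -/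
theorem isSyntomic_appLE (h : Synt.IsSyntomicMor f) (U : X.affineOpens) (V : Y.affineOpens)
    (e : U.1 ≤ f ⁻¹ᵁ V.1) :
    letI := (f.appLE V.1 U.1 e).hom.toAlgebra
    Synt.IsSyntomic Γ(Y, V.1) Γ(X, U.1) := by
  obtain ⟨hflat, hlci⟩ := (isSyntomicMor_iff f).mp h
  letI := (f.appLE V.1 U.1 e).hom.toAlgebra
  exact isSyntomic_iff.mpr ⟨HasRingHomProperty.appLE (P := @Flat) f hflat V U e,
    (morLCI_iff f).mp hlci U V U.2 V.2 e⟩

/-- Syntomic morphisms are flat. -/
theorem flat_of_isSyntomicMor (h : Synt.IsSyntomicMor f) : Flat f :=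
  ((isSyntomicMor_iff f).mp h).1

/-- Syntomic morphisms are local complete intersection morphisms. -/
theorem morLCI_of_isSyntomicMor (h : Synt.IsSyntomicMor f) : MorLCI f :=
  ((isSyntomicMor_iff f).mp h).2

/-- Syntomic morphisms are locally of finite presentation. -/
theorem locallyOfFinitePresentation_of_isSyntomicMor (h : Synt.IsSyntomicMor f) :
    LocallyOfFinitePresentation f := by
  refine (HasRingHomProperty.iff_exists_appLE (P := @LocallyOfFinitePresentation)
    (RingHom.finitePresentation_stableUnderComposition.stableUnderCompositionWithLocalizationAway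
      RingHom.finitePresentation_holdsForLocalizationAway).left).mpr fun x => ?_
  obtain ⟨U, V, e, hx, hs⟩ := h x
  exact ⟨V, U, hx, e, hs.2.1⟩

/-- Smooth morphisms are syntomic. -/
theorem isSyntomicMor_of_smooth (f : X ⟶ Y) [Smooth f] : Synt.IsSyntomicMor f :=
  (isSyntomicMor_iff f).mpr ⟨inferInstance, morLCI_of_smooth f⟩

/-- Composites of syntomic morphisms are syntomic. -/
theorem isSyntomicMor_comp {g : Y ⟶ Z} (hf : Synt.IsSyntomicMor f) (hg : Synt.IsSyntomicMor g) :
    Synt.IsSyntomicMor (f ≫ g) := by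
  have := flat_of_isSyntomicMor hf
  have := flat_of_isSyntomicMor hg
  exact (isSyntomicMor_iff _).mpr ⟨inferInstance,
    MorphismProperty.comp_mem MorLCI f g (morLCI_of_isSyntomicMor hf) (morLCI_of_isSyntomicMor hg)⟩

end Groth.Syntomic
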