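import Groth.Agent.Syntomic.CIField
import Groth.Agent.Syntomic.Scheme
import Groth.Agent.Ega4Algebra2.SchemeFibre

/-!
# Syntomic morphisms by the local rings of the fibres
-/

set_option autoImplicit false
set_option linter.style.haveILetI false

universe u

open TensorProduct AlgebraicGeometry CategoryTheory IsLocalRing

namespace Groth.Syntomic

section Ring

variable {A B : Type u} [CommRing A] [CommRing B] [Algebra A B]

/-- The local rings of the fibre rings are the fibre local rings. -/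
theorem exists_localization_fibre_equiv (p : Ideal A) [p.IsPrime] (Q : Ideal (p.Fiber B)) [Q.IsPrime]
    (q : Ideal B) [q.IsPrime] (hQ : Q.comap Algebra.TensorProduct.includeRight = q)
    (hq : q.comap (algebraMap A B) = p) :
    Nonempty (Localization.AtPrime Q ≃+* EGA4.FibLocRing A B q) := by
  subst hQ
  refine ⟨(Ideal.Fiber.algEquivAux₂ p Q).toRingEquiv.trans (Ideal.quotEquivOfEq ?_)⟩
  rw [hq, Ideal.map_map, ← IsScalarTower.algebraMap_eq]

/-- The fibre local rings at all primes, as localizations of the fibre rings. -/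
def FibresCI (A B : Type u) [CommRing A] [CommRing B] [Algebra A B] : Prop :=
  ∀ (q : Ideal B) [q.IsPrime],
    haveI := Groth.Ega4b.fibLocRing_isLocalRing A B q
    Pi1.IsCompleteIntersection (EGA4.FibLocRing A B q)

theorem isCompleteIntersection_atPrime_fiber_iff (p : Ideal A) [p.IsPrime] (Q : Ideal (p.Fiber B))
    [Q.IsPrime] (q : Ideal B) [q.IsPrime] (hQ : Q.comap Algebra.TensorProduct.includeRight = q)
    (hq : q.comap (algebraMap A B) = p) :
    haveI := Groth.Ega4b.fibLocRing_isLocalRing A B q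
    (Pi1.IsCompleteIntersection (Localization.AtPrime Q) ↔
      Pi1.IsCompleteIntersection (EGA4.FibLocRing A B q)) := by
  have := Groth.Ega4b.fibLocRing_isLocalRing A B q
  obtain ⟨e⟩ := exists_localization_fibre_equiv p Q q hQ hq
  exact ⟨Groth.CI.isCompleteIntersection_of_ringEquiv e,
    Groth.CI.isCompleteIntersection_of_ringEquiv e.symm⟩

/-- All fibres are local complete intersections iff all fibre local rings are complete intersections. -/
theorem forall_isLCIOver_iff [Algebra.FiniteType A B] :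
    (∀ p : PrimeSpectrum A, Synt.IsLCIOver p.asIdeal.ResidueField (p.asIdeal.Fiber B)) ↔
      FibresCI A B := by
  constructor
  · intro h q _
    let p := q.comap (algebraMap A B)
    let Q := PrimeSpectrum.preimageEquivFiber A B ⟨p, inferInstance⟩ ⟨⟨q, inferInstance⟩, rfl⟩
    have hQ : Q.asIdeal.comap Algebra.TensorProduct.includeRight = q :=
      congrArg (fun x => x.1.asIdeal) ((PrimeSpectrum.preimageEquivFiber A B
        ⟨p, inferInstance⟩).symm_apply_apply ⟨⟨q, inferInstance⟩, rfl⟩)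
    exact (isCompleteIntersection_atPrime_fiber_iff p Q.asIdeal q hQ rfl).mp
      (isLCIOver_iff_isCompleteIntersection.mp (h ⟨p, inferInstance⟩) Q.asIdeal)
  · intro h p
    refine isLCIOver_iff_isCompleteIntersection.mpr fun Q _ => ?_
    let x := (PrimeSpectrum.preimageEquivFiber A B p).symm ⟨Q, inferInstance⟩
    have hq : (Q.comap (Algebra.TensorProduct.includeRight (R := A) (A := p.asIdeal.ResidueField)
        (B := B))).comap (algebraMap A B) = p.asIdeal := congrArg PrimeSpectrum.asIdeal x.2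
    exact (isCompleteIntersection_atPrime_fiber_iff p.asIdeal Q _ rfl hq).mpr (h _)

/-- Syntomic ring maps by the fibre local rings. -/
theorem isSyntomic_iff_fibresCI :
    Synt.IsSyntomic A B ↔ Module.Flat A B ∧ Algebra.FinitePresentation A B ∧ FibresCI A B := by
  constructor
  · intro h
    have := h.2.1
    exact ⟨h.1, h.2.1, forall_isLCIOver_iff.mp h.2.2⟩
  · rintro ⟨h1, h2, h3⟩
    exact ⟨h1, h2, forall_isLCIOver_iff.mpr h3⟩

end Ring

section Scheme

variable {X Y : Scheme.{u}} (f : X ⟶ Y)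

/-- The local ring of the fibre at a point of an affine chart. -/
theorem isCompleteIntersection_fiberStalk_iff (U : X.affineOpens) (V : Y.affineOpens)
    (e : U.1 ≤ f ⁻¹ᵁ V.1) (x : X) (hx : x ∈ U.1) :
    letI := (f.appLE V.1 U.1 e).hom.toAlgebra
    haveI := Groth.Ega4b.fibLocRing_isLocalRing Γ(Y, V.1) Γ(X, U.1) (U.2.primeIdealOf ⟨x, hx⟩).asIdeal
    (Pi1.IsCompleteIntersection (CInt.fiberStalk f x) ↔
      Pi1.IsCompleteIntersection
        (EGA4.FibLocRing Γ(Y, V.1) Γ(X, U.1) (U.2.primeIdealOf ⟨x, hx⟩).asIdeal)) := by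
  letI := (f.appLE V.1 U.1 e).hom.toAlgebra
  set q := (U.2.primeIdealOf ⟨x, hx⟩).asIdeal with hqdef
  set p := (V.2.primeIdealOf ⟨f x, e hx⟩).asIdeal with hpdef
  have := Groth.Ega4b.fibLocRing_isLocalRing Γ(Y, V.1) Γ(X, U.1) q
  have hqp : q.comap (algebraMap Γ(Y, V.1) Γ(X, U.1)) = p :=
    congrArg PrimeSpectrum.asIdeal (IsAffineOpen.comap_primeIdealOf_appLE V.1 V.2 U.1 U.2 e hx)
  let ι := IsAffineOpen.arrowStalkMapIso f V.1 V.2 U.1 U.2 e hx
  let θ : Localization.AtPrime p →+* Localization.AtPrime q :=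
    Localization.localRingHom p q (algebraMap Γ(Y, V.1) Γ(X, U.1)) hqp.symm
  let e₁ : Y.presheaf.stalk (f x) ≃+* Localization.AtPrime p :=
    (Arrow.leftFunc.mapIso ι).commRingCatIsoToRingEquiv
  let e₂ : X.presheaf.stalk x ≃+* Localization.AtPrime q :=
    (Arrow.rightFunc.mapIso ι).commRingCatIsoToRingEquiv
  have hcomm : e₂.toRingHom.comp (f.stalkMap x).hom = θ.comp e₁.toRingHom :=
    (congrArg CommRingCat.Hom.hom ι.hom.w).symm
  have hmap : ((maximalIdeal (Y.presheaf.stalk (f x))).map (f.stalkMap x).hom).map e₂.toRingHom =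
      (q.comap (algebraMap Γ(Y, V.1) Γ(X, U.1))).map
        (algebraMap Γ(Y, V.1) (Localization.AtPrime q)) := by
    rw [Ideal.map_map, hcomm, ← Ideal.map_map, hqp]
    have h1 : (maximalIdeal (Y.presheaf.stalk (f x))).map e₁.toRingHom =
        p.map (algebraMap Γ(Y, V.1) (Localization.AtPrime p)) := by
      rw [Localization.AtPrime.map_eq_maximalIdeal]
      exact IsLocalRing.eq_maximalIdeal (Ideal.map_isMaximal_of_equiv e₁)
    rw [h1, Ideal.map_map]
    congr 1
    refine RingHom.ext fun a => ?_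
    rw [RingHom.comp_apply, Localization.localRingHom_to_map,
      ← IsScalarTower.algebraMap_apply]
  obtain ⟨e₀⟩ := Groth.Ega4b.nonempty_fiberStalk_equiv f x
  let e₃ : (X.presheaf.stalk x ⧸ (maximalIdeal (Y.presheaf.stalk (f x))).map (f.stalkMap x).hom) ≃+*
      EGA4.FibLocRing Γ(Y, V.1) Γ(X, U.1) q := Ideal.quotientEquiv _ _ e₂ hmap.symm
  exact ⟨Groth.CI.isCompleteIntersection_of_ringEquiv (e₀.symm.trans e₃),
    Groth.CI.isCompleteIntersection_of_ringEquiv (e₃.symm.trans e₀)⟩

/-- **Syntomic = flat, locally of finite presentation, with complete intersection fibres.** -/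
theorem isSyntomicMor_iff_isCIMorphism : Synt.IsSyntomicMor f ↔ CInt.IsCIMorphism f := by
  constructor
  · intro h
    refine ⟨flat_of_isSyntomicMor h, locallyOfFinitePresentation_of_isSyntomicMor h, fun x => ?_⟩
    obtain ⟨U, V, e, hx, hs⟩ := h x
    letI := (f.appLE V.1 U.1 e).hom.toAlgebra
    exact (isCompleteIntersection_fiberStalk_iff f U V e x hx).mpr
      ((isSyntomic_iff_fibresCI.mp hs).2.2 _)
  · rintro ⟨hflat, hlfp, hci⟩ x
    obtain ⟨V, hV, hfx, -⟩ := exists_isAffineOpen_mem_and_subset (x := f x) (U := ⊤) trivial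
    obtain ⟨U, hU, hxU, hUV⟩ := exists_isAffineOpen_mem_and_subset (x := x) (U := f ⁻¹ᵁ V) hfx
    letI := (f.appLE V U hUV).hom.toAlgebra
    refine ⟨⟨U, hU⟩, ⟨V, hV⟩, hUV, hxU, isSyntomic_iff_fibresCI.mpr
      ⟨HasRingHomProperty.appLE (P := @Flat) f hflat ⟨V, hV⟩ ⟨U, hU⟩ hUV,
        HasRingHomProperty.appLE (P := @LocallyOfFinitePresentation) f hlfp ⟨V, hV⟩ ⟨U, hU⟩ hUV,
        fun q _ => ?_⟩⟩
    have hy : hU.fromSpec ⟨q, inferInstance⟩ ∈ U := hU.range_fromSpec.le ⟨_, rfl⟩
    have hp : hU.primeIdealOf ⟨_, hy⟩ = ⟨q, inferInstance⟩ :=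
      hU.fromSpec.isOpenEmbedding.injective (hU.fromSpec_primeIdealOf ⟨_, hy⟩)
    have h1 := (isCompleteIntersection_fiberStalk_iff f ⟨U, hU⟩ ⟨V, hV⟩ hUV _ hy).mp (hci _)
    have key : ∀ r : PrimeSpectrum Γ(X, U), r = ⟨q, inferInstance⟩ →
        (haveI := Groth.Ega4b.fibLocRing_isLocalRing Γ(Y, V) Γ(X, U) r.asIdeal;
          Pi1.IsCompleteIntersection (EGA4.FibLocRing Γ(Y, V) Γ(X, U) r.asIdeal)) →
        (haveI := Groth.Ega4b.fibLocRing_isLocalRing Γ(Y, V) Γ(X, U) q;
          Pi1.IsCompleteIntersection (EGA4.FibLocRing Γ(Y, V) Γ(X, U) q)) := by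
      rintro r rfl h
      exact h
    exact key _ hp h1

/-- Syntomic morphisms from the fibres. -/
theorem isSyntomicMor_iff_fiberStalk :
    Synt.IsSyntomicMor f ↔ Flat f ∧ LocallyOfFinitePresentation f ∧
      ∀ x : X, Pi1.IsCompleteIntersection (CInt.fiberStalk f x) :=
  isSyntomicMor_iff_isCIMorphism f

end Scheme

end Groth.Syntomic

namespace Groth.Syntomic

/-- Over a field the fibre local rings are the local rings. -/
theorem isCompleteIntersection_fiberStalk_iff_stalk {K : CommRingCat.{u}} (hK : IsField K)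
    {X : Scheme.{u}} (g : X ⟶ Spec K) (x : X) :
    Pi1.IsCompleteIntersection (CInt.fiberStalk g x) ↔
      Pi1.IsCompleteIntersection (X.presheaf.stalk x) := by
  letI := hK.toField
  let y := g x
  have hm : IsLocalRing.maximalIdeal ((Spec K).presheaf.stalk y) = ⊥ := by
    let es : (Spec K).presheaf.stalk y ≃+* Localization.AtPrime y.asIdeal :=
      (Spec.stalkIso K y).commRingCatIsoToRingEquiv
    have h1 : IsLocalRing.maximalIdeal (Localization.AtPrime y.asIdeal) = ⊥ := by
      rw [← Localization.AtPrime.map_eq_maximalIdeal, eq_bot_iff, Ideal.map_le_iff_le_comap]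
      intro a ha
      rw [Ideal.eq_bot_of_prime y.asIdeal, Ideal.mem_bot] at ha
      rw [ha]
      exact zero_mem _
    refine eq_bot_iff.mpr fun z hz => ?_
    have h2 : es z ∈ IsLocalRing.maximalIdeal (Localization.AtPrime y.asIdeal) := by
      rw [IsLocalRing.mem_maximalIdeal] at hz ⊢
      exact fun hu => hz (by simpa using hu.map es.symm)
    rw [h1, Ideal.mem_bot, map_eq_zero_iff es es.injective] at h2
    exact h2
  obtain ⟨e⟩ := Groth.Ega4b.nonempty_fiberStalk_equiv g x
  have hJ : (IsLocalRing.maximalIdeal ((Spec K).presheaf.stalk y)).map (g.stalkMap x).hom = ⊥ := by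
    rw [hm, Ideal.map_bot]
  let e' : X.presheaf.stalk x ≃+* CInt.fiberStalk g x :=
    ((RingEquiv.quotientBot (X.presheaf.stalk x)).symm.trans (Ideal.quotEquivOfEq hJ.symm)).trans e
  exact ⟨Groth.CI.isCompleteIntersection_of_ringEquiv e'.symm,
    Groth.CI.isCompleteIntersection_of_ringEquiv e'⟩

end Groth.Syntomic
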