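import Groth.Agent.Syntomic.Fibrewise

/-!
# Syntomic ring maps and flat local complete intersections
-/

set_option autoImplicit false

universe u

open TensorProduct

namespace Groth.Syntomic

attribute [local instance] Algebra.TensorProduct.rightAlgebra MvPolynomial.algebraMvPolynomial

/-- Equations generating an ideal up to the factor `h` generate it after inverting a multiple of `h`. -/
theorem map_away_eq_ofList {A : Type u} [CommRing A] (I : Ideal A) (f : List A)
    (hfI : Ideal.ofList f ≤ I) (h G : A) (hG : h ∣ G) (hh : ∀ x ∈ I, h * x ∈ Ideal.ofList f) :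
    I.map (algebraMap A (Localization.Away G)) =
      Ideal.ofList (f.map (algebraMap A (Localization.Away G))) := by
  rw [← Ideal.map_ofList]
  refine le_antisymm (Ideal.map_le_iff_le_comap.mpr fun x hx => ?_) (Ideal.map_mono hfI)
  have hu : IsUnit (algebraMap A (Localization.Away G) h) :=
    isUnit_of_dvd_unit (map_dvd _ hG) (IsLocalization.Away.algebraMap_isUnit G)
  rw [Ideal.mem_comap, ← Ideal.unit_mul_mem_iff_mem _ hu, ← map_mul]
  exact Ideal.mem_map_of_mem _ (hh x hx)

/-- Koszul regularity passes to a smaller basic open. -/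
theorem isKoszulRegularSeq_away {A : Type u} [CommRing A] (g G : A)
    (hg : IsUnit (algebraMap A (Localization.Away G) g)) (l : List A)
    (h : LCI.IsKoszulRegularSeq (Localization.Away g) (l.map (algebraMap A (Localization.Away g)))) :
    LCI.IsKoszulRegularSeq (Localization.Away G) (l.map (algebraMap A (Localization.Away G))) := by
  let θ : Localization.Away g →+* Localization.Away G := IsLocalization.Away.lift g hg
  have hθ : ∀ a, θ (algebraMap A (Localization.Away g) a) = algebraMap A (Localization.Away G) a :=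
    IsLocalization.Away.lift_eq g hg
  letI := θ.toAlgebra
  have : IsScalarTower A (Localization.Away g) (Localization.Away G) :=
    IsScalarTower.of_algebraMap_eq fun a => (hθ a).symm
  have : Module.Flat (Localization.Away g) (Localization.Away G) :=
    (Module.flat_iff_of_isLocalization (Localization.Away g) (Submonoid.powers g)
      (Localization.Away G)).mpr inferInstance
  have := Groth.KoszulReg.isKoszulRegularSeq_map θ
    (RingHom.flat_algebraMap_iff.mpr this : (algebraMap (Localization.Away g) (Localization.Away G)).Flat)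
    _ h
  rw [List.map_map] at this
  convert this using 2
  exact funext fun a => (hθ a).symm

variable {R S : Type u} [CommRing R] [CommRing S] [Algebra R S] {n : ℕ}

/-- Koszul regular equations of the fibre, lifted to the total space. -/
theorem exists_fibre_equations (p : Ideal R) [p.IsPrime] (I : Ideal (MvPolynomial (Fin n) R))
    (hJ : LCI.IsKoszulRegularIdeal (I.map (MvPolynomial.map (σ := Fin n) (algebraMap R p.ResidueField))))
    (q' : Ideal (MvPolynomial (Fin n) p.ResidueField)) [q'.IsPrime]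
    (hq' : I.map (MvPolynomial.map (algebraMap R p.ResidueField)) ≤ q') :
    ∃ g ∉ q', ∃ f : List (MvPolynomial (Fin n) R), Ideal.ofList f ≤ I ∧
      LCI.IsKoszulRegularSeq (Localization.Away g)
        ((f.map (MvPolynomial.map (algebraMap R p.ResidueField))).map
          (algebraMap _ (Localization.Away g))) ∧
      ∀ x ∈ I, ∃ u ∉ q', u * MvPolynomial.map (algebraMap R p.ResidueField) x ∈
        (Ideal.ofList f).map (MvPolynomial.map (algebraMap R p.ResidueField)) := by
  set Φ := MvPolynomial.map (σ := Fin n) (algebraMap R p.ResidueField)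
  obtain ⟨g, hg, l, hl, hlI⟩ := hJ ⟨q', inferInstance⟩ hq'
  change (I.map Φ).map _ = Ideal.ofList l at hlI
  have key : ∀ y ∈ l, ∃ a ∈ I, ∃ u : Localization.Away g,
      IsUnit u ∧ algebraMap _ (Localization.Away g) (Φ a) = u * y := by
    intro y hy
    have hy' : y ∈ (I.map Φ).map (algebraMap _ (Localization.Away g)) := hlI ▸ Ideal.subset_span hy
    obtain ⟨⟨⟨a, ha⟩, s⟩, hs⟩ :=
      (IsLocalization.mem_map_algebraMap_iff (Submonoid.powers g) _).mp hy'
    obtain ⟨r, hr, b, hb, hbeq⟩ := exists_mul_eq_map_of_mem p I ha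
    refine ⟨b, hb, algebraMap _ (Localization.Away g)
      (MvPolynomial.C (algebraMap R p.ResidueField r) * s.1), ?_, ?_⟩
    · rw [map_mul]
      refine IsUnit.mul (((isUnit_iff_ne_zero.mpr fun h => hr
        (Ideal.algebraMap_residueField_eq_zero.mp h)).map MvPolynomial.C).map _)
        (IsLocalization.map_units (Localization.Away g) s)
    · rw [← hbeq, map_mul, map_mul, ← hs]
      ring
  choose a haI u hu hau using key
  let f := List.ofFn fun k : Fin l.length => a (l.get k) (List.get_mem l k)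
  have hfI : Ideal.ofList f ≤ I := by
    rw [Ideal.span_le]
    intro x hx
    obtain ⟨k, rfl⟩ := List.mem_ofFn.mp hx
    exact haI _ _
  have heq : Ideal.ofList ((f.map Φ).map (algebraMap _ (Localization.Away g))) = Ideal.ofList l := by
    refine le_antisymm ?_ ?_
    · rw [Ideal.span_le]
      intro x hx
      simp only [f, Set.mem_setOf_eq, List.map_ofFn, List.mem_ofFn] at hx
      obtain ⟨k, rfl⟩ := hx
      rw [Function.comp_apply, Function.comp_apply, hau]
      exact Ideal.mul_mem_left _ _ (Ideal.subset_span (List.get_mem l k))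
    · rw [Ideal.span_le]
      intro x hx
      obtain ⟨k, rfl⟩ := List.mem_iff_get.mp hx
      rw [SetLike.mem_coe, ← Ideal.unit_mul_mem_iff_mem _ (hu (l.get k) (List.get_mem l k)),
        ← hau (l.get k) (List.get_mem l k)]
      refine Ideal.subset_span ?_
      simp only [f, Set.mem_setOf_eq, List.map_ofFn, List.mem_ofFn]
      exact ⟨k, rfl⟩
  refine ⟨g, hg, f, hfI, Groth.KoszulLCI.isKoszulRegularSeq_of_ofList_eq hl heq (by simp [f]),
    fun x hx => ?_⟩
  have hxl : algebraMap _ (Localization.Away g) (Φ x) ∈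
      ((Ideal.ofList f).map Φ).map (algebraMap _ (Localization.Away g)) := by
    rw [Ideal.map_ofList, Ideal.map_ofList, heq, ← hlI]
    exact Ideal.mem_map_of_mem _ (Ideal.mem_map_of_mem _ hx)
  obtain ⟨⟨⟨y, hy⟩, s⟩, hs⟩ :=
    (IsLocalization.mem_map_algebraMap_iff (Submonoid.powers g) _).mp hxl
  rw [← map_mul] at hs
  obtain ⟨⟨c, hc⟩, hcs⟩ := IsLocalization.exists_of_eq (M := Submonoid.powers g) hs
  refine ⟨c * s, fun h => ?_, ?_⟩
  · rcases (‹q'.IsPrime›.mem_or_mem h) with h | h
    · obtain ⟨k, rfl⟩ := hc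
      exact hg (‹q'.IsPrime›.mem_of_pow_mem k h)
    · obtain ⟨k, hk⟩ := s.2
      exact hg (‹q'.IsPrime›.mem_of_pow_mem k (by simp only at hk; rw [hk]; exact h))
  · rw [mul_assoc, mul_comm _ (Φ x), hcs]
    exact Ideal.mul_mem_left _ _ hy

/-- Equations at `q` cutting the fibre in the expected dimension. -/
theorem exists_equations (φ : MvPolynomial (Fin n) R →ₐ[R] S) (hφ : Function.Surjective φ)
    [Module.Flat R S] (hI : (RingHom.ker φ.toRingHom).FG) (p : Ideal R) [p.IsPrime]
    (hfib : Synt.IsLCIOver p.ResidueField (p.Fiber S))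
    (q : Ideal (MvPolynomial (Fin n) R)) [q.IsPrime] (hq : q.comap MvPolynomial.C = p)
    (hIq : RingHom.ker φ.toRingHom ≤ q) :
    ∃ G ∉ q, ∃ f : List (MvPolynomial (Fin n) R), Ideal.ofList f ≤ RingHom.ker φ.toRingHom ∧
      (∃ h, h ∣ G ∧ ∀ x ∈ RingHom.ker φ.toRingHom, h * x ∈ Ideal.ofList f) ∧
      f.length ≤ n ∧
      ringKrullDim (p.Fiber (Localization.Away (φ G))) ≤ ((n - f.length : ℕ) : WithBot ℕ∞) := by
  set I := RingHom.ker φ.toRingHom
  set Φ := MvPolynomial.map (σ := Fin n) (algebraMap R p.ResidueField)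
  let φ' : MvPolynomial (Fin n) p.ResidueField →ₐ[p.ResidueField] p.Fiber S :=
    Groth.KoszulLCI.bcPres (A := R) (A' := p.ResidueField) (B := S) (B' := p.Fiber S) φ
  have hφ' : Function.Surjective φ' := Groth.KoszulLCI.bcPres_surjective φ hφ
  have hker : RingHom.ker φ'.toRingHom = I.map Φ := Groth.KoszulLCI.ker_bcPres φ hφ
  obtain ⟨-, m, β, hβ, hβK⟩ := isLCI_of_isLCIOver hfib
  have hJ : LCI.IsKoszulRegularIdeal (I.map Φ) :=
    hker ▸ Groth.KoszulLCI.isKoszulRegularIdeal_ker_of_presentation β hβ φ' hφ' hβK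
  obtain ⟨q', hq'p, hq'⟩ := Groth.Calg5.RelGCI.exists_prime_comap p q hq
  have hJq' : I.map Φ ≤ q' := Ideal.map_le_iff_le_comap.mpr (hq'.symm ▸ hIq)
  obtain ⟨g, hg, f, hfI, hfK, hfu⟩ := exists_fibre_equations p I hJ q' hJq'
  obtain ⟨h, hhq, hh⟩ := exists_generators_of_fibre φ hφ hI q hq q' hq' f hfI hfu
  obtain ⟨r, hr, b, hb⟩ := Groth.Calg5.RelGCI.exists_mul_eq_map p g
  have hru : IsUnit (MvPolynomial.C (σ := Fin n) (algebraMap R p.ResidueField r)) :=
    (isUnit_iff_ne_zero.mpr fun h0 => hr (Ideal.algebraMap_residueField_eq_zero.mp h0)).map _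
  have hbq : b ∉ q := fun h0 => by
    rw [← hq', Ideal.mem_comap, ← hb, Ideal.unit_mul_mem_iff_mem _ hru] at h0
    exact hg h0
  have hGq : b * h ∉ q := fun h0 => (‹q.IsPrime›.mem_or_mem h0).elim hbq hhq
  refine ⟨b * h, hGq, f, hfI, ⟨h, dvd_mul_left h b, hh⟩, ?_⟩
  have hGq' : Φ (b * h) ∉ q' := fun h0 => hGq (hq' ▸ h0)
  let ι := algebraMap (MvPolynomial (Fin n) p.ResidueField) (Localization.Away (Φ (b * h)))
  have hgu : IsUnit (ι g) :=
    isUnit_of_dvd_unit (map_dvd ι ⟨Φ h * MvPolynomial.C (algebraMap R p.ResidueField r),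
      by rw [map_mul, ← hb]; ring⟩) (IsLocalization.Away.algebraMap_isUnit (Φ (b * h)))
  have hLK := isKoszulRegularSeq_away g (Φ (b * h)) hgu _ hfK
  have hJh : ∀ y ∈ I.map Φ, Φ h * y ∈ Ideal.ofList (f.map Φ) := fun y hy => by
    rw [← Ideal.map_ofList]
    refine (show (Ideal.span {h} * I).map Φ ≤ (Ideal.ofList f).map Φ from
      Ideal.map_mono (Ideal.span_singleton_mul_le_iff.mpr hh)) ?_
    rw [Ideal.map_mul, Ideal.map_span, Set.image_singleton]
    exact Ideal.mul_mem_mul (Ideal.mem_span_singleton_self _) hy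
  have hLJ := map_away_eq_ofList (I.map Φ) (f.map Φ)
    (by rw [← Ideal.map_ofList]; exact Ideal.map_mono hfI) (Φ h) (Φ (b * h))
    (map_dvd Φ (dvd_mul_left h b)) hJh
  rw [← hker] at hLJ
  obtain ⟨F, ⟨e⟩, hFK⟩ := exists_away_presentation φ' hφ' (Φ (b * h)) _ hLJ
  have : Nontrivial (Localization.Away (φ' (Φ (b * h)))) := by
    refine not_subsingleton_iff_nontrivial.mp fun hs => ?_
    obtain ⟨k, hk⟩ := (IsLocalization.subsingleton_iff (M := Submonoid.powers (φ' (Φ (b * h))))
      (S := Localization.Away (φ' (Φ (b * h))))).mp hs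
    have : Φ (b * h) ^ k ∈ I.map Φ := by
      rw [← hker, RingHom.mem_ker]
      exact (map_pow φ' _ k).trans hk
    exact hGq' (‹q'.IsPrime›.mem_of_pow_mem k (hJq' this))
  have hne : Ideal.ofList (List.ofFn F) ≠ ⊤ := by
    rw [Groth.Calg5.RelGCI.ofList_ofFn]
    exact Ideal.Quotient.nontrivial_iff.mp e.toEquiv.nontrivial
  obtain ⟨hc, hdim⟩ := dim_quotient_of_koszul _ (hFK hLK) hne
  simp only [List.length_ofFn, List.length_map] at hc hdim
  refine ⟨by omega, ?_⟩
  rw [Groth.Calg5.RelGCI.ofList_ofFn] at hdim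
  have he : φ' (Φ (b * h)) = (1 : p.ResidueField) ⊗ₜ[R] φ (b * h) :=
    RingHom.congr_fun (Groth.KoszulLCI.bcPres_comp (A' := p.ResidueField) (B' := p.Fiber S) φ) (b * h)
  have h2 : ringKrullDim (Localization.Away (φ' (Φ (b * h)))) =
      ringKrullDim (p.Fiber (Localization.Away (φ (b * h)))) := by
    rw [he]
    exact ringKrullDim_eq_of_ringEquiv (tensorAwayEquiv p.ResidueField (φ (b * h))).toRingEquiv
  rw [← h2, ← ringKrullDim_eq_of_ringEquiv e.toRingEquiv, hdim]
  exact_mod_cast (by omega : n + 1 - (f.length + 1) ≤ n - f.length)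

/-- At a point where the fibre is a local complete intersection, a flat algebra of finite presentation
is a relative global complete intersection. -/
theorem exists_relGCI_nhd [Module.Flat R S] [Algebra.FinitePresentation R S] (Q : Ideal S) [hQ : Q.IsPrime]
    (hfib : Synt.IsLCIOver (Q.comap (algebraMap R S)).ResidueField
      ((Q.comap (algebraMap R S)).Fiber S)) :
    ∃ t ∉ Q, ∃ (n c : ℕ) (F : Fin c → MvPolynomial (Fin n) R),
      Synt.IsRelGCI R n c F ∧ Nonempty (Synt.RelGCIRing R n c F ≃ₐ[R] Localization.Away t) := by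
  obtain ⟨n, φ, hφ, hI⟩ := (inferInstance : Algebra.FinitePresentation R S).out
  let q := Q.comap φ.toRingHom
  have hqp : q.IsPrime := inferInstanceAs (Q.comap φ.toRingHom).IsPrime
  let p := Q.comap (algebraMap R S)
  have hpp : p.IsPrime := inferInstanceAs (Q.comap (algebraMap R S)).IsPrime
  have hqC : q.comap MvPolynomial.C = p := by
    rw [Ideal.comap_comap]
    exact congrArg (Q.comap ·) (RingHom.ext fun r => φ.commutes r)
  obtain ⟨G, hG, f, hfI, ⟨h, hhG, hh⟩, hfn, hdim⟩ := exists_equations φ hφ hI p hfib q hqC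
    fun x hx => by
      change φ x ∈ Q
      rw [show φ x = 0 from hx]
      exact zero_mem _
  let B := Localization.Away (φ G)
  have : Algebra.FiniteType R B := (inferInstance : Algebra.FiniteType R S).trans inferInstance
  obtain ⟨W, hW, hWp, hWtr⟩ :=
    Groth.FibreDim.exists_open_trdeg_le (B := B) ⟨p, hpp⟩ (n - f.length) hdim
  have hdisj : Disjoint (Submonoid.powers (φ G) : Set S) Q := by
    rw [Set.disjoint_left]
    rintro _ ⟨k, rfl⟩ hk
    exact hG (hQ.mem_of_pow_mem k hk)
  let Q' : PrimeSpectrum B := ⟨Q.map (algebraMap S B),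
    IsLocalization.isPrime_of_isPrime_disjoint _ _ Q hQ hdisj⟩
  have hQ' : Q'.comap (algebraMap R B) = ⟨p, hpp⟩ := by
    refine PrimeSpectrum.ext ?_
    change (Q.map (algebraMap S B)).comap (algebraMap R B) = _
    have hQc : (Q.map (algebraMap S B)).comap (algebraMap S B) = Q :=
      IsLocalization.under_map_of_isPrime_disjoint _ B hQ hdisj
    rw [IsScalarTower.algebraMap_eq R S B, ← Ideal.comap_comap, hQc]
  obtain ⟨_, ⟨β, rfl⟩, hβQ, hβW⟩ :=
    PrimeSpectrum.isTopologicalBasis_basic_opens.exists_subset_of_mem_open (hWp Q' hQ') hW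
  obtain ⟨⟨σ, ⟨_, k, rfl⟩⟩, hσ⟩ := IsLocalization.surj (Submonoid.powers (φ G)) β
  dsimp only at hσ
  have hσQ : σ ∉ Q := fun h0 => by
    have h1 : β * algebraMap S B (φ G ^ k) ∈ Q'.asIdeal := hσ ▸ Ideal.mem_map_of_mem _ h0
    refine (Q'.isPrime.mem_or_mem h1).elim hβQ fun h2 => Q'.isPrime.ne_top ?_
    refine Ideal.eq_top_of_isUnit_mem _ h2 ?_
    exact IsLocalization.map_units B (⟨_, k, rfl⟩ : Submonoid.powers (φ G))
  obtain ⟨a, rfl⟩ := hφ σ
  let G₂ := G * a
  have hG₂ : φ G₂ ∉ Q := fun h0 => by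
    rw [map_mul] at h0
    exact (hQ.mem_or_mem h0).elim hG hσQ
  obtain ⟨F, ⟨e⟩, -⟩ := exists_away_presentation φ hφ G₂ _
    (map_away_eq_ofList _ f hfI h G₂ (hhG.trans (dvd_mul_right G a)) hh)
  have hlen : (f.map (algebraMap _ (Localization.Away G₂))).length = f.length := List.length_map ..
  let B₂ := Localization.Away (φ G₂)
  have hu : IsUnit (algebraMap S B₂ (φ G)) := by
    refine isUnit_of_dvd_unit (map_dvd _ ?_) (IsLocalization.Away.algebraMap_isUnit (φ G₂))
    rw [map_mul]
    exact dvd_mul_right _ _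
  have hua : IsUnit (algebraMap S B₂ (φ a)) := by
    refine isUnit_of_dvd_unit (map_dvd _ ?_) (IsLocalization.Away.algebraMap_isUnit (φ G₂))
    rw [map_mul]
    exact dvd_mul_left _ _
  let ρ : B →+* B₂ := IsLocalization.Away.lift (φ G) hu
  have hρ : ∀ s, ρ (algebraMap S B s) = algebraMap S B₂ s := IsLocalization.Away.lift_eq (φ G) hu
  have : Algebra.FiniteType R B₂ := (inferInstance : Algebra.FiniteType R S).trans inferInstance
  have hfibre : ∀ (p' : Ideal R) [p'.IsPrime],
      ringKrullDim (p'.Fiber B₂) ≤ ((n - f.length : ℕ) : WithBot ℕ∞) := by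
    intro p' _
    refine ringKrullDim_fiber_le_of_trdeg p' _ fun K L _ _ _ χ ψ hcomp hgen => ?_
    let ψ' : B →+* L := ψ.comp ρ
    let Q₁ : PrimeSpectrum B := ⟨RingHom.ker ψ', RingHom.ker_isPrime ψ'⟩
    have hQ₁ : Q₁ ∈ W := hβW (by
      change ψ' β ≠ 0
      intro h0
      have h1 := congrArg ψ' hσ
      rw [map_mul, h0, zero_mul] at h1
      have h2 : ψ (algebraMap S B₂ (φ a)) = 0 := by rw [← hρ]; exact h1.symm
      exact (hua.map ψ).ne_zero h2)
    refine hWtr Q₁ hQ₁ K L χ ψ' (fun r => ?_) (fun z => ?_) rfl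
    · rw [hcomp, RingHom.comp_apply, IsScalarTower.algebraMap_apply R S B, hρ,
        ← IsScalarTower.algebraMap_apply]
    · obtain ⟨x, y, hy, rfl⟩ := hgen z
      obtain ⟨⟨x₀, ⟨_, i, rfl⟩⟩, hx⟩ := IsLocalization.surj (Submonoid.powers (φ G₂)) x
      obtain ⟨⟨y₀, ⟨_, j, rfl⟩⟩, hy'⟩ := IsLocalization.surj (Submonoid.powers (φ G₂)) y
      have hx' := congrArg ψ hx
      have hy'' := congrArg ψ hy'
      dsimp only at hx' hy''
      rw [map_mul, ← hρ (φ G₂ ^ i), ← hρ x₀] at hx'
      rw [map_mul, ← hρ (φ G₂ ^ j), ← hρ y₀] at hy''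
      have hi : ψ' (algebraMap S B (φ G₂ ^ i)) ≠ 0 := by
        rw [RingHom.comp_apply, hρ, map_pow, map_pow]
        exact pow_ne_zero _ ((IsLocalization.Away.algebraMap_isUnit (φ G₂)).map ψ).ne_zero
      have hj : ψ' (algebraMap S B (φ G₂ ^ j)) ≠ 0 := by
        rw [RingHom.comp_apply, hρ, map_pow, map_pow]
        exact pow_ne_zero _ ((IsLocalization.Away.algebraMap_isUnit (φ G₂)).map ψ).ne_zero
      refine ⟨algebraMap S B x₀ * algebraMap S B (φ G₂ ^ j),
        algebraMap S B (φ G₂ ^ i) * algebraMap S B y₀, ?_, ?_⟩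
      · rw [map_mul]
        refine mul_ne_zero hi ?_
        change ψ (ρ (algebraMap S B y₀)) ≠ 0
        rw [← hy'']
        exact mul_ne_zero hy hj
      · simp only [ψ', map_mul, RingHom.comp_apply] at hi hj ⊢
        rw [← hx', ← hy'']
        field_simp
  have hflatF : Module.Flat R (Synt.RelGCIRing R (n + 1) _ F) :=
    have := Module.Flat.trans R S B₂
    Module.Flat.of_linearEquiv e.toLinearEquiv
  refine ⟨φ G₂, hG₂, n + 1, _, F, isRelGCI_of_koszul F ?_, ⟨e⟩⟩
  refine Groth.KoszulLCI.isKoszulRegularSeq_of_localization _ fun m _ hm =>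
    Groth.KoszulReg.isKoszulRegularSeq_of_isWeaklyRegular
      (Groth.Calg5.RelGCI.regular_flat F m (Groth.Calg5.RelGCI.ofList_ofFn F ▸ hm)
        (by rw [hlen]; omega) (m.comap MvPolynomial.C) rfl ?_).1
  rw [ringKrullDim_eq_of_ringEquiv (Algebra.TensorProduct.congr
    (AlgEquiv.refl (R := (m.comap MvPolynomial.C).ResidueField)
      (A₁ := (m.comap MvPolynomial.C).ResidueField)) e).toRingEquiv]
  refine (hfibre _).trans ?_
  exact_mod_cast (by rw [hlen]; omega : n - f.length ≤ n + 1 - (_ + 1))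

/-- Syntomic algebras are locally relative global complete intersections. -/
theorem isLocRelGCI_of_isSyntomic (hS : Synt.IsSyntomic R S) : IsLocRelGCI R S := fun Q hQ =>
  have := hS.1
  have := hS.2.1
  exists_relGCI_nhd Q (hS.2.2 ⟨Q.comap (algebraMap R S), inferInstance⟩)

/-- **Syntomic ring maps are the flat local complete intersections.** -/
theorem isSyntomic_iff : Synt.IsSyntomic R S ↔ Module.Flat R S ∧ LCI.IsLCI R S :=
  ⟨fun h ↦ ⟨h.1, (isLocRelGCI_of_isSyntomic h).isLCI⟩,
    fun h ↦ have := h.1; (isLocRelGCI_of_flat_isLCI h.2).isSyntomic⟩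

end Groth.Syntomic
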