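import Groth.Agent.S2063
import Groth.Agent.S2141
import Groth.Agent.Calg4.SmoothFreeKaehler
import Groth.Agent.Ega41Sep.Separable
import Groth.Agent.Variety2.DimPoints
import Mathlib.RingTheory.Unramified.Field

/-!
# Germs adapted to a point of an algebra of finite type over a field
-/

set_option autoImplicit false
set_option linter.style.haveILetI false

universe u

open TensorProduct IsLocalRing Set Cardinal

namespace Groth.Syntomic

variable (k : Type u) [Field k]

/-- A finitely generated field extension is formally smooth iff its module of differentials has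
rank at most the transcendence degree. -/
theorem formallySmooth_iff_finrank_le_trdeg (S K : Type u) [CommRing S] [IsDomain S] [Algebra k S]
    [Algebra.FiniteType k S] [Field K] [Algebra S K] [IsFractionRing S K] [Algebra k K] [IsScalarTower k S K]
    (t : ℕ) (ht : Algebra.trdeg k K = t) :
    Algebra.FormallySmooth k K ↔ Module.finrank K Ω[K⁄k] ≤ t := by
  let q : Ideal S := ⊥
  haveI : q.IsPrime := Ideal.isPrime_bot
  have hq : q.primeCompl = nonZeroDivisors S := by
    ext; simp [q, mem_nonZeroDivisors_iff_ne_zero, Ideal.primeCompl]
  let L := Localization.AtPrime q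
  haveI : IsFractionRing S L := by
    show IsLocalization (nonZeroDivisors S) L
    rw [← hq]
    infer_instance
  haveI : IsFractionRing S q.ResidueField :=
    inferInstanceAs (IsFractionRing S (⊥ : Ideal S).ResidueField)
  let e₁ : L ≃ₐ[k] K := (IsLocalization.algEquiv (nonZeroDivisors S) L K).restrictScalars k
  let e₂ : q.ResidueField ≃ₐ[S] K := IsLocalization.algEquiv (nonZeroDivisors S) _ K
  letI : Algebra q.ResidueField K := e₂.toRingEquiv.toRingHom.toAlgebra
  haveI : IsScalarTower S q.ResidueField K :=
    IsScalarTower.of_algebraMap_eq fun s => (e₂.commutes s).symm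
  haveI : Algebra.FormallyEtale S K := Algebra.FormallyEtale.of_isLocalization (nonZeroDivisors S)
  haveI : Algebra.FormallyEtale S q.ResidueField :=
    Algebra.FormallyEtale.of_isLocalization (nonZeroDivisors S)
  have hfr : Module.finrank q.ResidueField (q.ResidueField ⊗[S] Ω[S⁄k]) = Module.finrank K Ω[K⁄k] := by
    rw [Groth.Calg4.finrank_tensor_kaehler (k := k) q.ResidueField q.ResidueField,
      ← Groth.Calg4.finrank_tensor_kaehler (k := k) (S := S) q.ResidueField K,
      Groth.Calg4.finrank_tensor_kaehler (k := k) K K]
  have hld : FlatMor.localDim (PrimeSpectrum S) ⟨q, inferInstance⟩ = (t : WithBot ℕ∞) := by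
    rw [Groth.Agent.S2141.result q t (by rw [← ht]; exact (e₂.restrictScalars k).trdeg_eq),
      ringKrullDim_eq_of_ringEquiv e₁.toRingEquiv, ringKrullDim_eq_zero_of_field, zero_add]
  have h := Groth.Agent.S2063.result (k := k) q
  rw [hfr, hld] at h
  exact ((Algebra.FormallySmooth.iff_of_equiv e₁).symm.trans h).trans (by simp)

variable (A : Type u) [CommRing A] [Algebra k A] [Algebra.FiniteType k A] (p : Ideal A) [p.IsPrime]

/-- The transcendence degree of a residue field is finite. -/
theorem exists_trdeg_residueField_eq : ∃ t : ℕ, Algebra.trdeg k p.ResidueField = t := by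
  obtain ⟨t, -, ht⟩ := Groth.Variety2.Dim.exists_dim_quotient k A ⟨p, inferInstance⟩
  exact ⟨t, ((FractionRing.algEquiv (A ⧸ p) p.ResidueField).restrictScalars k).trdeg_eq.symm.trans ht⟩

/-- Geometric reducedness of a residue field through the rank of its differentials. -/
theorem isGeometricallyReduced_residueField_iff (t : ℕ) (ht : Algebra.trdeg k p.ResidueField = t) :
    Algebra.IsGeometricallyReduced k p.ResidueField ↔ Module.finrank p.ResidueField Ω[p.ResidueField⁄k] ≤ t :=
  (Groth.Ega41Sep.formallySmooth_iff_isGeometricallyReduced k p.ResidueField).symm.trans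
    (formallySmooth_iff_finrank_le_trdeg k (A ⧸ p) p.ResidueField t ht)

/-- Elements whose differentials span are a transcendence basis, if no more than the transcendence
degree. -/
theorem algebraicIndependent_of_span_D_eq_top {K : Type u} [Field K] [Algebra k K]
    [Algebra.EssFiniteType k K] {ι : Type} [Finite ι] (x : ι → K)
    (hsp : Submodule.span K (range fun i => KaehlerDifferential.D k K (x i)) = ⊤)
    (hle : (Nat.card ι : Cardinal.{u}) ≤ Algebra.trdeg k K) : AlgebraicIndependent k x := by
  let F := IntermediateField.adjoin k (range x)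
  haveI : Algebra.EssFiniteType F K := Algebra.EssFiniteType.of_comp k F K
  haveI : Algebra.FormallyUnramified F K := by
    refine ⟨subsingleton_of_forall_eq 0 fun z => ?_⟩
    obtain ⟨y, rfl⟩ := KaehlerDifferential.map_surjective k F K z
    have hy : y ∈ Submodule.span K (range fun i => KaehlerDifferential.D k K (x i)) := hsp ▸ trivial
    induction hy using Submodule.span_induction with
    | mem w hw =>
      obtain ⟨i, rfl⟩ := hw
      rw [KaehlerDifferential.map_D]
      exact Derivation.map_algebraMap (KaehlerDifferential.D F K) (⟨x i, IntermediateField.subset_adjoin k _ ⟨i, rfl⟩⟩ : F)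
    | zero => exact map_zero _
    | add a b _ _ ha hb => rw [map_add, ha, hb, add_zero]
    | smul c a _ ha => rw [map_smul, ha, smul_zero]
  haveI : Module.Finite F K := Algebra.FormallyUnramified.finite_of_free F K
  haveI : Algebra.IsAlgebraic (Algebra.adjoin k (range x)) K :=
    IntermediateField.isAlgebraic_adjoin_iff_top.1 (Algebra.IsAlgebraic.of_finite F K)
  refine (Algebra.IsAlgebraic.isTranscendenceBasis_of_lift_le_trdeg_of_finite k x ?_).1
  rw [← Cardinal.lift_natCast.{u, 0} (Nat.card ι), Nat.cast_card] at hle
  simpa using hle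

end Groth.Syntomic

namespace Groth.Syntomic

variable (k : Type u) [Field k]

/-- Differentials in the fibre: generators of the maximal ideal together with residue differentials
span the differentials of a local ring. -/
theorem span_D_eq_top_of_local {L : Type u} [CommRing L] [IsLocalRing L] [Algebra k L]
    [Module.Finite L Ω[L⁄k]] {ι : Type} (g : ι → L) (P Q : Set ι) (hm : Ideal.span (g '' P) = maximalIdeal L)
    (hK : Submodule.span (ResidueField L)
      ((fun i => KaehlerDifferential.D k (ResidueField L) (residue L (g i))) '' Q) = ⊤) :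
    Submodule.span L (range fun i => KaehlerDifferential.D k L (g i)) = ⊤ := by
  let N := Submodule.span L (range fun i => KaehlerDifferential.D k L (g i))
  have hmap : ∀ z : Ω[L⁄k], ∃ w ∈ N, KaehlerDifferential.map k k L (ResidueField L) w =
      KaehlerDifferential.map k k L (ResidueField L) z := by
    intro z
    have h : KaehlerDifferential.map k k L (ResidueField L) z ∈ Submodule.restrictScalars L
        (Submodule.span (ResidueField L)
          ((fun i => KaehlerDifferential.D k (ResidueField L) (residue L (g i))) '' Q)) := by
      rw [hK]; trivial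
    rw [Submodule.restrictScalars_span L (ResidueField L) IsLocalRing.residue_surjective] at h
    generalize KaehlerDifferential.map k k L (ResidueField L) z = v at h
    induction h using Submodule.span_induction with
    | mem y hy =>
      obtain ⟨i, -, rfl⟩ := hy
      exact ⟨_, Submodule.subset_span ⟨i, rfl⟩, KaehlerDifferential.map_D k k L (ResidueField L) (g i)⟩
    | zero => exact ⟨0, zero_mem _, map_zero _⟩
    | add a b _ _ ha hb =>
      obtain ⟨a', ha, hax⟩ := ha
      obtain ⟨b', hb, hbx⟩ := hb
      exact ⟨a' + b', add_mem ha hb, by rw [map_add, hax, hbx]⟩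
    | smul c a _ ha =>
      obtain ⟨a', ha, hax⟩ := ha
      exact ⟨c • a', Submodule.smul_mem _ c ha, by rw [map_smul, hax]⟩
  refine top_le_iff.1 (Submodule.le_of_le_smul_of_le_jacobson_bot Module.Finite.fg_top
    (IsLocalRing.maximalIdeal_le_jacobson ⊥) fun z _ => ?_)
  obtain ⟨w, hw, hwz⟩ := hmap z
  obtain ⟨x, hx⟩ := (KaehlerDifferential.exact_kerCotangentToTensor_mapBaseChange k L (ResidueField L)
    IsLocalRing.residue_surjective ((1 : ResidueField L) ⊗ₜ[L] (z - w))).1 (by
      rw [KaehlerDifferential.mapBaseChange_tmul, one_smul, map_sub, hwz, sub_self])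
  obtain ⟨⟨x, hxm⟩, rfl⟩ := Ideal.toCotangent_surjective _ x
  rw [KaehlerDifferential.kerCotangentToTensor_toCotangent] at hx
  have hmem : z - w - KaehlerDifferential.D k L x ∈ maximalIdeal L • (⊤ : Submodule L Ω[L⁄k]) := by
    rw [← LinearMap.ker_tensorProductMk, LinearMap.mem_ker]
    show (1 : ResidueField L) ⊗ₜ[L] (z - w - KaehlerDifferential.D k L x) = 0
    rw [TensorProduct.tmul_sub, hx, sub_self]
  have hxm' : x ∈ Submodule.span L (g '' P) := by
    show x ∈ Ideal.span (g '' P)
    rw [hm]
    simpa [RingHom.mem_ker, IsLocalRing.residue_eq_zero_iff] using hxm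
  have hDx : KaehlerDifferential.D k L x ∈ N ⊔ maximalIdeal L • (⊤ : Submodule L Ω[L⁄k]) := by
    clear hmem hx hxm
    induction hxm' using Submodule.span_induction with
    | mem y hy =>
      obtain ⟨i, -, rfl⟩ := hy
      exact Submodule.mem_sup_left (Submodule.subset_span ⟨i, rfl⟩)
    | zero => rw [map_zero]; exact zero_mem _
    | add a b _ _ ha hb => rw [map_add]; exact add_mem ha hb
    | smul c a ham ha =>
      rw [smul_eq_mul, Derivation.leibniz]
      refine add_mem (Submodule.smul_mem _ c ha) (Submodule.mem_sup_right (Submodule.smul_mem_smul ?_ trivial))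
      rw [← hm]; exact ham
  have : z = w + (z - w - KaehlerDifferential.D k L x) + KaehlerDifferential.D k L x := by abel
  rw [this]
  exact add_mem (add_mem (Submodule.mem_sup_left hw) (Submodule.mem_sup_right hmem)) hDx

/-- A spanning set of a finite dimensional space contains few elements that still span. -/
theorem exists_fin_residue_D_span {L : Type u} [CommRing L] [IsLocalRing L] [Algebra k L]
    [Module.Finite (ResidueField L) Ω[ResidueField L⁄k]] (m : ℕ)
    (h : Module.finrank (ResidueField L) Ω[ResidueField L⁄k] ≤ m) :
    ∃ g : Fin m → L, Submodule.span (ResidueField L)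
      (range fun i => KaehlerDifferential.D k (ResidueField L) (residue L (g i))) = ⊤ := by
  obtain ⟨S, hS, -, hspan, hli⟩ := exists_linearIndepOn_id_extension (K := ResidueField L)
    (s := ∅) (t := range fun x : L => KaehlerDifferential.D k (ResidueField L) (residue L x))
    (linearIndepOn_empty _ _) (empty_subset _)
  have hSfin : S.Finite := hli.setFinite
  have hcard : hSfin.toFinset.card ≤ m := by
    refine le_trans ?_ h
    haveI := hSfin.fintype
    rw [Set.Finite.card_toFinset]
    exact hli.linearIndependent.fintype_card_le_finrank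
  let e := hSfin.toFinset.equivFin
  choose pre hpre using fun y : hSfin.toFinset => hS (hSfin.mem_toFinset.1 y.2)
  refine ⟨fun i => if hi : (i : ℕ) < hSfin.toFinset.card then pre (e.symm ⟨i, hi⟩) else 0, ?_⟩
  rw [eq_top_iff, ← KaehlerDifferential.span_range_derivation k (ResidueField L), Submodule.span_le]
  rintro _ ⟨y, rfl⟩
  obtain ⟨y, rfl⟩ := IsLocalRing.residue_surjective y
  refine Submodule.span_le.2 ?_ (hspan ⟨y, rfl⟩)
  intro v hv
  let j := e ⟨v, hSfin.mem_toFinset.2 hv⟩
  refine Submodule.subset_span ⟨⟨j, lt_of_lt_of_le j.2 hcard⟩, ?_⟩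
  simp only [dif_pos j.2, Fin.eta]
  exact (hpre _).trans (by simp [j])

end Groth.Syntomic
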