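import Mathlib

/-!
# Smoothness at a point via liftings against local square-zero thickenings
-/

set_option autoImplicit false
set_option linter.style.haveILetI false

universe u

open AlgebraicGeometry CategoryTheory TopologicalSpace

namespace Groth.Syntomic

/-- A morphism from the spectrum of a local ring lands in every open containing the image of the
closed point. -/
theorem range_subset_of_closedPoint {B : Type u} [CommRing B] [IsLocalRing B] {X : Scheme.{u}}
    (α : Spec (CommRingCat.of B) ⟶ X) (U : X.Opens)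
    (h : α.base (IsLocalRing.closedPoint B) ∈ U) : Set.range α ⊆ U := by
  rintro _ ⟨z, rfl⟩
  exact ((IsLocalRing.specializes_closedPoint (R := B) z).map α.continuous).mem_open U.2 h

/-- Ring maps from a chart given by morphisms out of the spectrum of a local ring. -/
theorem exists_ringHom_of_closedPoint {B : Type u} [CommRing B] [IsLocalRing B] {X : Scheme.{u}}
    (α : Spec (CommRingCat.of B) ⟶ X) {U : X.Opens} (hU : IsAffineOpen U)
    (h : α.base (IsLocalRing.closedPoint B) ∈ U) :
    ∃ a : Γ(X, U) ⟶ CommRingCat.of B, Spec.map a ≫ hU.fromSpec = α := by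
  have hr : Set.range α ⊆ Set.range hU.fromSpec := by
    rw [hU.range_fromSpec]
    exact range_subset_of_closedPoint α U h
  obtain ⟨a, ha⟩ := Spec.map_surjective (IsOpenImmersion.lift hU.fromSpec α hr)
  exact ⟨a, by rw [ha, IsOpenImmersion.lift_fac]⟩

variable {X Y : Scheme.{u}} (f : X ⟶ Y) [LocallyOfFinitePresentation f] (x : X)

/-- Smoothness at a point implies lifting against square-zero thickenings of local rings. -/
theorem exists_lift_of_mem_smoothLocus (hx : x ∈ f.smoothLocus) (B B' : Type u) [CommRing B]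
    [CommRing B'] [IsLocalRing B] [IsLocalRing B'] (φ : B' →+* B) (hφ : Function.Surjective φ)
    (hsq : RingHom.ker φ ^ 2 = ⊥) (α : Spec (CommRingCat.of B) ⟶ X) (β : Spec (CommRingCat.of B') ⟶ Y)
    (hα : α.base (IsLocalRing.closedPoint B) = x) (w : Spec.map (CommRingCat.ofHom φ) ≫ β = α ≫ f) :
    ∃ γ : Spec (CommRingCat.of B') ⟶ X, Spec.map (CommRingCat.ofHom φ) ≫ γ = α ∧ γ ≫ f = β := by
  obtain ⟨U, hU, V, hV, e, hxV, hsm⟩ := exists_smooth_of_formallySmooth_stalk f x hx
  obtain ⟨a, ha⟩ := exists_ringHom_of_closedPoint α hV (hα ▸ hxV)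
  have : IsLocalHom φ := IsLocalHom.of_surjective φ hφ
  have hcl : Spec.map (CommRingCat.ofHom φ) (IsLocalRing.closedPoint B) = IsLocalRing.closedPoint B' :=
    IsLocalRing.comap_closedPoint φ
  have hβ : β.base (IsLocalRing.closedPoint B') ∈ U := by
    rw [← hcl]
    show (Spec.map (CommRingCat.ofHom φ) ≫ β) (IsLocalRing.closedPoint B) ∈ U
    rw [w, Scheme.Hom.comp_apply]
    exact e (show α _ ∈ V from hα ▸ hxV)
  obtain ⟨b, hb⟩ := exists_ringHom_of_closedPoint β hU hβ
  have hcomm : b ≫ CommRingCat.ofHom φ = f.appLE U V e ≫ a := by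
    apply Spec.map_injective
    rw [← cancel_mono hU.fromSpec, Spec.map_comp, Spec.map_comp, Category.assoc, Category.assoc, hb, w,
      hU.SpecMap_appLE_fromSpec f hV e, reassoc_of% ha]
  letI := (f.appLE U V e).hom.toAlgebra
  letI := b.hom.toAlgebra
  letI := (φ.comp b.hom).toAlgebra
  haveI : Algebra.Smooth Γ(Y, U) Γ(X, V) := hsm
  let φA : B' →ₐ[Γ(Y, U)] B := { toRingHom := φ, commutes' := fun _ => rfl }
  let aA : Γ(X, V) →ₐ[Γ(Y, U)] B := { toRingHom := a.hom, commutes' := fun r => congr($hcomm.symm r) }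
  let l := Algebra.FormallySmooth.liftOfSurjective aA φA hφ ⟨2, hsq⟩
  refine ⟨Spec.map (CommRingCat.ofHom l.toRingHom) ≫ hV.fromSpec, ?_, ?_⟩
  · rw [← Spec.map_comp_assoc,
      show CommRingCat.ofHom l.toRingHom ≫ CommRingCat.ofHom φ = a from CommRingCat.hom_ext (RingHom.ext
        fun z => DFunLike.congr_fun (Algebra.FormallySmooth.comp_liftOfSurjective aA φA hφ ⟨2, hsq⟩) z), ha]
  · rw [Category.assoc, ← hU.SpecMap_appLE_fromSpec f hV e, ← Spec.map_comp_assoc,
      show f.appLE U V e ≫ CommRingCat.ofHom l.toRingHom = b from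
        CommRingCat.hom_ext (RingHom.ext fun z => l.commutes z), hb]

/-- Smoothness at a prime from the lifting of the localisation map. -/
theorem isSmoothAt_of_lift {R A : Type u} [CommRing R] [CommRing A] [Algebra R A]
    [Algebra.FiniteType R A] (p : Ideal A) [p.IsPrime]
    (H : ∀ (B' : Type u) [CommRing B'] [Algebra R B'] [IsLocalRing B']
      (φ : B' →ₐ[R] Localization.AtPrime p), Function.Surjective φ → RingHom.ker φ.toRingHom ^ 2 = ⊥ →
      ∃ a : A →ₐ[R] B', ∀ s, φ (a s) = algebraMap A (Localization.AtPrime p) s) :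
    Algebra.IsSmoothAt R p := by
  obtain ⟨n, f₀, hf₀⟩ := Algebra.FiniteType.iff_quotient_mvPolynomial''.mp
    (inferInstance : Algebra.FiniteType R A)
  let Q := p.comap f₀.toRingHom
  let P := Localization.AtPrime Q
  let a₀ : P →+* Localization.AtPrime p := Localization.localRingHom Q p f₀.toRingHom rfl
  let π : P →ₐ[R] Localization.AtPrime p :=
    { toRingHom := a₀
      commutes' := fun r => by
        show a₀ (algebraMap R P r) = algebraMap R (Localization.AtPrime p) r
        rw [IsScalarTower.algebraMap_apply R (MvPolynomial (Fin n) R) P,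
          Localization.localRingHom_to_map, IsScalarTower.algebraMap_apply R A (Localization.AtPrime p)]
        exact congrArg _ (f₀.commutes r) }
  haveI : Algebra.FormallyEtale (MvPolynomial (Fin n) R) P :=
    Algebra.FormallyEtale.of_isLocalization Q.primeCompl
  haveI : Algebra.FormallySmooth R P :=
    Algebra.FormallySmooth.comp R (MvPolynomial (Fin n) R) P
  have hπ : Function.Surjective π := by
    have hmap : Q.primeCompl.map f₀.toRingHom = p.primeCompl := by
      ext z
      refine ⟨fun ⟨y, hy, hxy⟩ => hxy ▸ hy, fun hz => ?_⟩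
      obtain ⟨y, rfl⟩ := hf₀ z
      exact ⟨y, hz, rfl⟩
    have : IsLocalization (Q.primeCompl.map f₀.toRingHom) (Localization.AtPrime p) := by
      rw [hmap]; infer_instance
    exact IsLocalization.map_surjective_of_surjective Q.primeCompl P (Localization.AtPrime p) hf₀
  have hk : RingHom.ker π.toRingHom ^ 2 ≠ ⊤ := fun h =>
    RingHom.ker_ne_top π.toRingHom (top_le_iff.1 (h ▸ Ideal.pow_le_self two_ne_zero))
  haveI : Nontrivial (P ⧸ RingHom.ker π.toRingHom ^ 2) := Ideal.Quotient.nontrivial_iff.2 hk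
  haveI : IsLocalRing (P ⧸ RingHom.ker π.toRingHom ^ 2) :=
    IsLocalRing.of_surjective' _ Ideal.Quotient.mk_surjective
  have hφ : Function.Surjective π.kerSquareLift := fun z => by
    obtain ⟨y, rfl⟩ := hπ z
    exact ⟨Ideal.Quotient.mk _ y, rfl⟩
  have hsq : RingHom.ker π.kerSquareLift.toRingHom ^ 2 = ⊥ := by
    rw [AlgHom.ker_kerSquareLift]
    exact Ideal.cotangentIdeal_square _
  obtain ⟨a, ha⟩ := H _ π.kerSquareLift hφ hsq
  have : IsLocalHom π.kerSquareLift.toRingHom := IsLocalHom.of_surjective _ hφ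
  have hu : ∀ s : p.primeCompl, IsUnit (a s) := fun s => by
    refine IsUnit.of_map π.kerSquareLift.toRingHom _ ?_
    show IsUnit (π.kerSquareLift (a s))
    rw [ha]
    exact IsLocalization.map_units _ s
  refine Algebra.FormallySmooth.of_split π (IsLocalization.liftAlgHom (f := a) hu) ?_
  refine AlgHom.coe_ringHom_injective (IsLocalization.ringHom_ext p.primeCompl (RingHom.ext fun s => ?_))
  show π.kerSquareLift (IsLocalization.liftAlgHom (f := a) hu (algebraMap A _ s)) = algebraMap A _ s
  rw [IsLocalization.liftAlgHom_apply, IsLocalization.lift_eq]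
  exact ha s

/-- Lifting against square-zero thickenings of local rings implies smoothness at the point. -/
theorem mem_smoothLocus_of_lift
    (H : ∀ (B B' : Type u) [CommRing B] [CommRing B'] [IsLocalRing B] [IsLocalRing B'] (φ : B' →+* B),
      Function.Surjective φ → RingHom.ker φ ^ 2 = ⊥ →
      ∀ (α : Spec (CommRingCat.of B) ⟶ X) (β : Spec (CommRingCat.of B') ⟶ Y),
        α.base (IsLocalRing.closedPoint B) = x → Spec.map (CommRingCat.ofHom φ) ≫ β = α ≫ f →
        ∃ γ : Spec (CommRingCat.of B') ⟶ X, Spec.map (CommRingCat.ofHom φ) ≫ γ = α ∧ γ ≫ f = β) :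
    x ∈ f.smoothLocus := by
  obtain ⟨_, ⟨U, hU, rfl⟩, hxU, -⟩ :=
    Y.isBasis_affineOpens.exists_subset_of_mem_open (Set.mem_univ (f x)) isOpen_univ
  obtain ⟨_, ⟨V, hV, rfl⟩, hxV, hVU⟩ :=
    X.isBasis_affineOpens.exists_subset_of_mem_open hxU (U.2.preimage f.continuous)
  have := f.finitePresentation_appLE hU hV hVU
  rw [Scheme.Hom.mem_smoothLocus, formallySmooth_stalkMap_iff U hU V hV hVU hxV]
  algebraize [(f.appLE U V hVU).hom]
  refine isSmoothAt_of_lift (hV.primeIdealOf ⟨x, hxV⟩).asIdeal fun B' _ _ _ φ hφ hsq => ?_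
  let p := (hV.primeIdealOf ⟨x, hxV⟩).asIdeal
  let α : Spec (CommRingCat.of (Localization.AtPrime p)) ⟶ X :=
    Spec.map (CommRingCat.ofHom (algebraMap Γ(X, V) (Localization.AtPrime p))) ≫ hV.fromSpec
  let β : Spec (CommRingCat.of B') ⟶ Y :=
    Spec.map (CommRingCat.ofHom (algebraMap Γ(Y, U) B')) ≫ hU.fromSpec
  have hα : α (IsLocalRing.closedPoint (Localization.AtPrime p)) = x := by
    refine Eq.trans ?_ (hV.fromSpec_primeIdealOf ⟨x, hxV⟩)
    show hV.fromSpec _ = _
    congr 1
    exact PrimeSpectrum.ext (IsLocalization.AtPrime.comap_maximalIdeal (Localization.AtPrime p) p)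
  have w : Spec.map (CommRingCat.ofHom φ.toRingHom) ≫ β = α ≫ f := by
    rw [Category.assoc, ← hU.SpecMap_appLE_fromSpec f hV hVU, ← Spec.map_comp_assoc,
      ← Spec.map_comp_assoc]
    congr 2
    ext r
    show φ (algebraMap Γ(Y, U) B' r) =
      algebraMap Γ(X, V) (Localization.AtPrime p) (algebraMap Γ(Y, U) Γ(X, V) r)
    rw [AlgHom.commutes, ← IsScalarTower.algebraMap_apply]
  obtain ⟨γ, hγ₁, hγ₂⟩ := H _ B' φ.toRingHom hφ hsq α β hα w
  have : IsLocalHom φ.toRingHom := IsLocalHom.of_surjective _ hφ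
  obtain ⟨a, ha⟩ := exists_ringHom_of_closedPoint γ hV (by
    rw [← IsLocalRing.comap_closedPoint φ.toRingHom]
    show (Spec.map (CommRingCat.ofHom φ.toRingHom) ≫ γ) (IsLocalRing.closedPoint (Localization.AtPrime p)) ∈ V
    rw [hγ₁, hα]
    exact hxV)
  have h1 : a ≫ CommRingCat.ofHom φ.toRingHom =
      CommRingCat.ofHom (algebraMap Γ(X, V) (Localization.AtPrime p)) := by
    apply Spec.map_injective
    rw [← cancel_mono hV.fromSpec, Spec.map_comp, Category.assoc, ha, hγ₁]
  have h2 : f.appLE U V hVU ≫ a = CommRingCat.ofHom (algebraMap Γ(Y, U) B') := by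
    apply Spec.map_injective
    rw [← cancel_mono hU.fromSpec, Spec.map_comp, Category.assoc,
      hU.SpecMap_appLE_fromSpec f hV hVU, reassoc_of% ha, hγ₂]
  exact ⟨{ toRingHom := a.hom, commutes' := fun r => congr($h2 r) }, fun s => congr($h1 s)⟩

end Groth.Syntomic
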