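import Groth.Agent.S2818
import Groth.Agent.Syntomic.AdaptedCoords

/-!
# Adapted etale coordinates on an arbitrary localization
-/

set_option autoImplicit false

universe u

open TensorProduct

namespace Groth.Syntomic

/-- At every point, a finitely generated ideal has minimal generators. -/
theorem exists_minimal_generators {B : Type u} [CommRing B] (J : Ideal B) (hJ : J.FG) (q : Ideal B) [q.IsPrime] :
    ∃ (r : ℕ) (g : Fin r → B), (∀ i, g i ∈ J) ∧
      J.map (algebraMap B (Localization.AtPrime q)) =
        Ideal.span (Set.range fun i => algebraMap B (Localization.AtPrime q) (g i)) ∧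
      r = Module.finrank q.ResidueField (q.ResidueField ⊗[B] J) := by
  haveI : Module.Finite B J := Module.Finite.iff_fg.2 hJ
  let L := Localization.AtPrime q
  let K := q.ResidueField
  let v : J → K ⊗[B] J := fun y => (1 : K) ⊗ₜ[B] y
  have hv : Submodule.span K (Set.range v) = ⊤ := by
    refine eq_top_iff.2 fun z hz => ?_
    clear hz
    induction z using TensorProduct.induction_on with
    | zero => exact zero_mem _
    | add a b ha hb => exact add_mem ha hb
    | tmul k y =>
      rw [show k ⊗ₜ[B] y = k • v y by rw [TensorProduct.smul_tmul', smul_eq_mul, mul_one]]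
      exact Submodule.smul_mem _ _ (Submodule.subset_span ⟨y, rfl⟩)
  obtain ⟨r, h, hli, hsp⟩ := exists_extend_from_range v hv (r := 0) Fin.elim0 linearIndependent_empty_type
  have hli' : LinearIndependent K fun i => v (h i) := hli.comp Sum.inr Sum.inr_injective
  have hsp' : Submodule.span K (Set.range fun i => v (h i)) = ⊤ := by
    rw [eq_top_iff, ← hsp]
    refine Submodule.span_mono ?_
    rintro _ ⟨(i | i), rfl⟩
    · exact i.elim0
    · exact ⟨i, rfl⟩
  let b : Module.Basis (Fin r) K (K ⊗[B] J) := Module.Basis.mk hli' hsp'.ge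
  refine ⟨r, fun i => (h i : B), fun i => (h i).2, ?_, ?_⟩
  · let f : Fin r → L ⊗[B] J := fun i => (1 : L) ⊗ₜ[B] h i
    let e : IsLocalRing.ResidueField L ⊗[L] (L ⊗[B] J) ≃ₗ[K] K ⊗[B] J :=
      TensorProduct.AlgebraTensorModule.cancelBaseChange B L K K J
    have hspan : Submodule.span L (Set.range f) = ⊤ :=
      IsLocalRing.span_eq_top_of_tmul_eq_basis f (b.map e.symm) fun i => by
        rw [Module.Basis.map_apply, LinearEquiv.eq_symm_apply]
        simp [e, f, b, v]
    let μ : L ⊗[B] J →ₗ[L] L := ((Algebra.linearMap B L).comp J.subtype).liftBaseChange L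
    refine le_antisymm (Ideal.map_le_iff_le_comap.2 fun y hy => ?_) (Ideal.span_le.2 ?_)
    · have : μ ((1 : L) ⊗ₜ[B] (⟨y, hy⟩ : J)) ∈ (Submodule.span L (Set.range f)).map μ :=
        Submodule.mem_map_of_mem (hspan ▸ trivial)
      rw [Submodule.map_span, ← Set.range_comp] at this
      have e1 : (μ ∘ f) = fun i => algebraMap B L (h i : B) := funext fun i => by simp [μ, f]
      rw [e1] at this
      simpa [μ] using this
    · rintro _ ⟨i, rfl⟩
      exact Ideal.mem_map_of_mem _ (h i).2
  · rw [Module.finrank_eq_card_basis b, Fintype.card_fin]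

/-- Adapted coordinates near a point, on any localization away from a suitable element. -/
theorem exists_adapted_away {A B : Type u} [CommRing A] [CommRing B] [Algebra A B] [Algebra.Smooth A B]
    (J : Ideal B) (hJ : J.FG) [Algebra.Smooth A (B ⧸ J)] (q : Ideal B) [q.IsPrime] (hJq : J ≤ q) :
    ∃ (f : B) (_ : f ∉ q) (m n : ℕ), ∀ (T : Type u) [CommRing T] [Algebra A T] [Algebra B T]
      [IsScalarTower A B T] [IsLocalization.Away f T],
      ∃ w : Fin m ⊕ Fin n → T,
        (MvPolynomial.aeval (R := A) w).toRingHom.Etale ∧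
        J.map (algebraMap B T) = Ideal.span (Set.range fun i => w (Sum.inr i)) := by
  obtain ⟨r, g, hg, hgen, hr⟩ := exists_minimal_generators J hJ q
  have hker : RingHom.ker (Ideal.Quotient.mk J) ≤ q := by rw [Ideal.mk_ker]; exact hJq
  haveI : (q.map (Ideal.Quotient.mk J)).IsPrime :=
    Ideal.map_isPrime_of_surjective Ideal.Quotient.mk_surjective hker
  have hQ : (q.map (Ideal.Quotient.mk J)).comap (Ideal.Quotient.mk J) = q := by
    rw [Ideal.comap_map_of_surjective _ Ideal.Quotient.mk_surjective, ← RingHom.ker_eq_comap_bot, sup_eq_left]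
    exact hker
  haveI : Algebra.IsSmoothAt A q := Algebra.FormallySmooth.comp A B (Localization.AtPrime q)
  haveI : Algebra.IsSmoothAt A (q.map (Ideal.Quotient.mk J)) :=
    Algebra.FormallySmooth.comp A (B ⧸ J) (Localization.AtPrime (q.map (Ideal.Quotient.mk J)))
  obtain ⟨f, hf, m, g', het, hJf⟩ :=
    Groth.Agent.S2818.result A B J hJ q hJq (q.map (Ideal.Quotient.mk J)) hQ r g hg hgen hr
  refine ⟨f, hf, m, r, fun T _ _ _ _ _ => ?_⟩
  let ε : Localization.Away f ≃ₐ[B] T := IsLocalization.algEquiv (Submonoid.powers f) _ _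
  refine ⟨Sum.elim (fun j => ε (g' j)) fun i => algebraMap B T (g i), ?_, ?_⟩
  · let σ : MvPolynomial (Fin m ⊕ Fin r) A ≃ₐ[A] MvPolynomial (Fin r ⊕ Fin m) A :=
      MvPolynomial.renameEquiv A (Equiv.sumComm _ _)
    have e : (MvPolynomial.aeval (R := A) (Sum.elim (fun j => ε (g' j)) fun i => algebraMap B T (g i))) =
        (((ε.restrictScalars A).toAlgHom.comp (MvPolynomial.aeval
          (Sum.elim (fun i => algebraMap B (Localization.Away f) (g i)) g'))).comp σ.toAlgHom) := by
      refine MvPolynomial.algHom_ext fun j => ?_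
      cases j <;> simp [σ]
    rw [e]
    exact RingHom.Etale.respectsIso.2 _ σ.toRingEquiv
      (RingHom.Etale.respectsIso.1 _ ε.toRingEquiv het)
  · have e1 : algebraMap B T = (ε : Localization.Away f →+* T).comp (algebraMap B (Localization.Away f)) :=
      RingHom.ext fun b => (ε.commutes b).symm
    rw [e1, ← Ideal.map_map, hJf, Ideal.map_span, ← Set.range_comp]
    rfl

end Groth.Syntomic
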