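import Groth.Agent.S2753
import Groth.Agent.S9812
import Groth.Agent.Calg4.RegularFlat
import Groth.Agent.FibreDim.LocalRing
import Groth.Agent.VarietyBC.Dim
import Groth.Agent.WeilCoh.DimResidue
import Groth.Prelude.Def_ResDeg

/-!
# Over a field: étale iff unramified with the same local dimension, at a normal point of the target
-/

set_option autoImplicit false
set_option linter.style.haveILetI false

universe u

open AlgebraicGeometry CategoryTheory IsLocalRing

namespace Groth.Syntomic

section LocalRing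

variable {A B : Type u} [CommRing A] [CommRing B] [IsLocalRing A] [IsLocalRing B]
  [IsNoetherianRing A] [IsNoetherianRing B] [Algebra A B] [IsLocalHom (algebraMap A B)]

/-- A flat local map with `m_A B = m_B` preserves the dimension. -/
theorem ringKrullDim_eq_of_flat_of_map_maximalIdeal [Module.Flat A B]
    (hm : (maximalIdeal A).map (algebraMap A B) = maximalIdeal B) :
    ringKrullDim B = ringKrullDim A := by
  haveI : IsLocalRing (B ⧸ (maximalIdeal A).map (algebraMap A B)) := by
    rw [hm]; exact inferInstanceAs (IsLocalRing (ResidueField B))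
  rw [Groth.Calg4.ringKrullDim_eq_add_of_flat A B, hm,
    show ringKrullDim (B ⧸ maximalIdeal B) = 0 from ringKrullDim_eq_zero_of_field (ResidueField B),
    add_zero]

/-- A local map out of a domain with `m_A B = m_B` and equal dimensions is injective. -/
theorem injective_of_ringKrullDim_eq [IsDomain A]
    (hm : (maximalIdeal A).map (algebraMap A B) = maximalIdeal B)
    (hd : ringKrullDim B = ringKrullDim A) : Function.Injective (algebraMap A B) := by
  rw [RingHom.injective_iff_ker_eq_bot]
  by_contra hne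
  set K := RingHom.ker (algebraMap A B) with hK
  have hKtop : K ≠ ⊤ := RingHom.ker_ne_top _
  haveI := Ideal.Quotient.nontrivial_iff.2 hKtop
  haveI : IsLocalRing (A ⧸ K) := .of_surjective' _ Ideal.Quotient.mk_surjective
  letI : Algebra (A ⧸ K) B := (RingHom.kerLift (algebraMap A B)).toAlgebra
  have hcomp : (algebraMap (A ⧸ K) B).comp (Ideal.Quotient.mk K) = algebraMap A B :=
    RingHom.ext fun a => RingHom.kerLift_mk _ a
  haveI : IsLocalHom (algebraMap (A ⧸ K) B) := ⟨fun q hq => by
    obtain ⟨a, rfl⟩ := Ideal.Quotient.mk_surjective q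
    rw [← RingHom.comp_apply, hcomp] at hq
    exact (IsLocalHom.map_nonunit a hq).map _⟩
  have hm' : (maximalIdeal (A ⧸ K)).map (algebraMap (A ⧸ K) B) = maximalIdeal B := by
    rw [← IsLocalRing.map_maximalIdeal_of_surjective _ Ideal.Quotient.mk_surjective, Ideal.map_map,
      hcomp, hm]
  have h1 := Groth.FibreDim.ringKrullDim_le_add_fibre (A := A ⧸ K) (C := B)
  rw [hm', show ringKrullDim (B ⧸ maximalIdeal B) = 0 from
    ringKrullDim_eq_zero_of_field (ResidueField B), add_zero, hd] at h1
  obtain ⟨a, ha, ha0⟩ := Submodule.exists_mem_ne_zero_of_ne_bot hne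
  have h2 := ringKrullDim_quotient_succ_le_of_nonZeroDivisor
    (mem_nonZeroDivisors_of_ne_zero ha0)
  have h3 : ringKrullDim (A ⧸ K) ≤ ringKrullDim (A ⧸ Ideal.span {a}) :=
    ringKrullDim_le_of_surjective (Ideal.Quotient.factor ((Ideal.span_singleton_le_iff_mem _).2 ha))
      (Ideal.Quotient.factor_surjective _)
  have h4 : ringKrullDim A + 1 ≤ ringKrullDim A :=
    (add_le_add (h1.trans h3) le_rfl).trans h2
  obtain ⟨n, hn⟩ : ∃ n : ℕ, ringKrullDim A = n := by
    rw [← maximalIdeal_height_eq_ringKrullDim]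
    obtain ⟨n, hn⟩ := ENat.ne_top_iff_exists.1 (Ideal.height_ne_top
      (maximalIdeal.isMaximal A).ne_top)
    exact ⟨n, by rw [← hn]; rfl⟩
  rw [hn] at h4
  have h5 : n + 1 ≤ n := by exact_mod_cast h4
  omega

end LocalRing

variable {k : Type u} [Field k] {X Y : Scheme.{u}}

theorem localDim_eq_iff_of_residueDegree_ne_zero (p : Y ⟶ Spec (CommRingCat.of k))
    (φ : X ⟶ Y) [LocallyOfFiniteType p] [LocallyOfFiniteType φ] (z : X)
    (hd : φ.residueDegree z ≠ 0) :
    FlatMor.localDim X z = FlatMor.localDim Y (φ z) ↔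
      ringKrullDim (X.presheaf.stalk z) = ringKrullDim (Y.presheaf.stalk (φ z)) := by
  let _ : X.Over (Spec (CommRingCat.of k)) := ⟨φ ≫ p⟩
  let _ : Y.Over (Spec (CommRingCat.of k)) := ⟨p⟩
  haveI : LocallyOfFiniteType (X ↘ Spec (CommRingCat.of k)) :=
    inferInstanceAs (LocallyOfFiniteType (φ ≫ p))
  haveI : LocallyOfFiniteType (Y ↘ Spec (CommRingCat.of k)) :=
    inferInstanceAs (LocallyOfFiniteType p)
  obtain ⟨m, hm⟩ := Variety2.Dim.exists_height_eq (φ ≫ p) z
  obtain ⟨n, hn⟩ := Variety2.Dim.exists_height_eq p (φ z)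
  have := Groth.WeilCoh.height_eq_of_residueDegree_ne_zero φ p (φ ≫ p) rfl z hd
  rw [hm, hn, ENat.toNat_natCast, ENat.toNat_natCast] at this
  subst this
  rw [Groth.VarietyBC.localDim_eq_height_add (k := k), Groth.VarietyBC.localDim_eq_height_add (k := k),
    hm, hn, ringKrullDim_stalk_eq_coheight, ringKrullDim_stalk_eq_coheight]
  norm_cast
  exact WithTop.add_left_inj (ENat.natCast_ne_top m)

/-- Over a field, at a point over a normal point: étale iff unramified of the same local dimension. -/
theorem exists_etale_iff_unramified_and_localDim_eq (p : Y ⟶ Spec (CommRingCat.of k)) (φ : X ⟶ Y)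
    [LocallyOfFiniteType p] [LocallyOfFiniteType φ] (z : X)
    (hdom : IsDomain (Y.presheaf.stalk (φ z)))
    (hic : IsIntegrallyClosed (Y.presheaf.stalk (φ z))) :
    (∃ U : X.Opens, z ∈ U ∧ Etale (U.ι ≫ φ)) ↔
      (∃ U : X.Opens, z ∈ U ∧ FormallyUnramified (U.ι ≫ φ)) ∧
        FlatMor.localDim X z = FlatMor.localDim Y (φ z) := by
  haveI : IsLocallyNoetherian Y := LocallyOfFiniteType.isLocallyNoetherian p
  haveI : IsLocallyNoetherian X := LocallyOfFiniteType.isLocallyNoetherian (φ ≫ p)
  haveI : LocallyOfFinitePresentation φ := inferInstance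
  rw [Groth.Agent.S2753.result φ z hdom (Groth.Agent.S9812.result _)]
  refine and_congr_right fun ⟨U, hzU, hU⟩ => ?_
  let u : U.toScheme := ⟨z, hzU⟩
  have hiso : IsIso (U.ι.stalkMap u) := (IsOpenImmersion.iff_isIso_stalkMap.mp inferInstance).2 _
  have hunr : (φ.stalkMap z).hom.FormallyUnramified := by
    have h := FormallyUnramified.stalkMap (U.ι ≫ φ) u
    rw [Scheme.Hom.stalkMap_comp] at h
    exact (RingHom.FormallyUnramified.respectsIso.cancel_right_isIso _ (U.ι.stalkMap u)).mp h
  have hess : (φ.stalkMap z).hom.EssFiniteType := LocallyOfFiniteType.stalkMap φ z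
  algebraize [(φ.stalkMap z).hom]
  haveI : IsLocalHom (algebraMap (Y.presheaf.stalk (φ z)) (X.presheaf.stalk z)) :=
    inferInstanceAs <| IsLocalHom (φ.stalkMap z).hom
  have hm := Algebra.FormallyUnramified.map_maximalIdeal
    (R := Y.presheaf.stalk (φ z)) (S := X.presheaf.stalk z)
  have hd : φ.residueDegree z ≠ 0 := by
    letI := (φ.residueFieldMap z).hom.toAlgebra
    haveI : Module.Finite (Y.residueField (φ z)) (X.residueField z) := by
      have h : Module.Finite (ResidueField (Y.presheaf.stalk (φ z)))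
          (ResidueField (X.presheaf.stalk z)) := inferInstance
      convert! h
      refine Module.ext' _ _ fun a m ↦ ?_
      obtain ⟨a, rfl⟩ := IsLocalRing.residue_surjective a
      obtain ⟨m, rfl⟩ := IsLocalRing.residue_surjective m
      rfl
    exact (Module.finrank_pos (R := Y.residueField (φ z)) (M := X.residueField z)).ne'
  rw [localDim_eq_iff_of_residueDegree_ne_zero p φ z hd]
  refine ⟨fun hinj => ?_, fun h => injective_of_ringKrullDim_eq hm h⟩
  obtain ⟨W, hzW, hW⟩ :=
    (Groth.Agent.S2753.result φ z hdom (Groth.Agent.S9812.result _)).2 ⟨⟨U, hzU, hU⟩, hinj⟩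
  have hiso' : IsIso (W.ι.stalkMap ⟨z, hzW⟩) :=
    (IsOpenImmersion.iff_isIso_stalkMap.mp inferInstance).2 _
  have hflat : (φ.stalkMap z).hom.Flat := by
    have h := Flat.stalkMap (W.ι ≫ φ) ⟨z, hzW⟩
    rw [Scheme.Hom.stalkMap_comp] at h
    exact (RingHom.Flat.respectsIso.cancel_right_isIso _ (W.ι.stalkMap ⟨z, hzW⟩)).mp h
  haveI : Module.Flat (Y.presheaf.stalk (φ z)) (X.presheaf.stalk z) := hflat
  exact ringKrullDim_eq_of_flat_of_map_maximalIdeal hm

end Groth.Syntomic
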