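import Groth.Agent.Misc6.RelFrobFlat
import Mathlib.RingTheory.Spectrum.Prime.FreeLocus
import Mathlib.RingTheory.Flat.EquationalCriterion
import Mathlib.RingTheory.Smooth.StandardSmoothCotangent
import Mathlib.RingTheory.Etale.Kaehler
import Mathlib

/-!
# The relative Frobenius of a smooth algebra is finite locally free of rank `p ^ r`
-/

set_option autoImplicit false
set_option linter.style.haveILetI false

universe u

open CategoryTheory CategoryTheory.Limits TensorProduct FrobAlg Groth.FrobLCI.RelFrob
open Groth.Misc6.RelFrobFlat

namespace Groth.Syntomic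

variable (p : ℕ) [Fact p.Prime] (A : Type u) [CommRing A] [CharP A p]

/-- The relative Frobenius commutes with etale base change. -/
theorem isPushout_relFrob_of_etale {P C : Type u} [CommRing P] [CommRing C] [Algebra A P]
    [Algebra A C] [CharP P p] [CharP C p] (φ : P →ₐ[A] C) (hφ : φ.toRingHom.Etale) :
    IsPushout (CommRingCat.ofHom (relFrob p A P)) (CommRingCat.ofHom (bcMap p A φ))
      (CommRingCat.ofHom φ.toRingHom) (CommRingCat.ofHom (relFrob p A C)) := by
  letI := φ.toRingHom.toAlgebra
  haveI : Algebra.Etale P C := hφ
  have hb := Groth.FrobLCI.RelFrobEtale.relFrob_bijective_of_etale p P C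
  let e : BaseChange p P C ≃+* C := RingEquiv.ofBijective _ hb
  let e' : Twist p P ≃+* P := (toTwist p P).symm
  have t := CommRingCat.isPushout_tensorProduct P C (Twist p P)
  have hout : IsPushout (CommRingCat.ofHom φ.toRingHom) (CommRingCat.ofHom (frobenius P p))
      (CommRingCat.ofHom (frobenius C p)) (CommRingCat.ofHom φ.toRingHom) := by
    refine t.of_iso (Iso.refl _) (Iso.refl _) e'.toCommRingCatIso e.toCommRingCatIso ?_ ?_ ?_ ?_
    · ext x
      rfl
    · ext x
      rfl
    · ext x
      change relFrob p P C (x ⊗ₜ 1) = x ^ p
      rw [relFrob_tmul, map_one, map_one, mul_one]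
    · ext x
      change relFrob p P C (1 ⊗ₜ x) = φ (untwist p P x)
      rw [relFrob_tmul, one_pow, one_mul]
      rfl
  refine IsPushout.of_left
    (h₁₁ := CommRingCat.ofHom (Algebra.TensorProduct.includeLeftRingHom : P →+* BaseChange p A P))
    ?_ ?_ (isPushout_bcMap p A φ).flip
  · convert! hout.flip using 1
    · ext x
      change relFrob p A P (x ⊗ₜ 1) = x ^ p
      rw [relFrob_tmul, map_one, map_one, mul_one]
    · ext x
      change relFrob p A C (x ⊗ₜ 1) = x ^ p
      rw [relFrob_tmul, map_one, map_one, mul_one]
  · exact CommRingCat.hom_ext (relFrob_natural p A φ).symm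

/-- The inclusion of the twisted base into the Frobenius twist has finite type. -/
theorem finiteType_base_baseChange (B : Type u) [CommRing B] [Algebra A B] [Algebra.FiniteType A B] :
    ((Algebra.TensorProduct.includeRight : Twist p A →ₐ[A] BaseChange p A B).toRingHom.comp
      (toTwist p A : A →+* Twist p A)).FiniteType := by
  have h1 : (algebraMap (Twist p A) (Twist p A ⊗[A] B)).FiniteType :=
    RingHom.finiteType_algebraMap.2 inferInstance
  have h2 := RingHom.FiniteType.comp_surjective
    (g := (Algebra.TensorProduct.comm A (Twist p A) B).toRingEquiv.toRingHom) h1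
    (Algebra.TensorProduct.comm A (Twist p A) B).surjective
  refine RingHom.FiniteType.comp ?_ (RingHom.FiniteType.of_surjective _ (toTwist p A).surjective)
  convert h2 using 1
  refine RingHom.ext fun t => ?_
  show (1 : B) ⊗ₜ[A] t = Algebra.TensorProduct.comm A (Twist p A) B (t ⊗ₜ[A] (1 : B))
  rw [Algebra.TensorProduct.comm_tmul]

theorem relFrob_comp_base (B : Type u) [CommRing B] [Algebra A B] [CharP B p] :
    (relFrob p A B).comp
      ((Algebra.TensorProduct.includeRight : Twist p A →ₐ[A] BaseChange p A B).toRingHom.comp
        (toTwist p A : A →+* Twist p A)) = algebraMap A B := by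
  refine RingHom.ext fun a => ?_
  show relFrob p A B ((1 : B) ⊗ₜ toTwist p A a) = algebraMap A B a
  rw [relFrob_tmul, one_pow, one_mul]
  rfl

/-- The relative Frobenius of an algebra of finite type is finite. -/
theorem finite_relFrob (B : Type u) [CommRing B] [Algebra A B] [CharP B p]
    [Algebra.FiniteType A B] : (relFrob p A B).Finite := by
  refine RingHom.IsIntegral.to_finite (fun b => ⟨Polynomial.X ^ p - Polynomial.C (b ⊗ₜ 1),
    Polynomial.monic_X_pow_sub_C _ (Fact.out : p.Prime).ne_zero, ?_⟩) ?_
  · rw [Polynomial.eval₂_sub, Polynomial.eval₂_X_pow, Polynomial.eval₂_C, relFrob_tmul, map_one,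
      map_one, mul_one, sub_self]
  · refine RingHom.FiniteType.of_comp_finiteType (f :=
      (Algebra.TensorProduct.includeRight : Twist p A →ₐ[A] BaseChange p A B).toRingHom.comp
        (toTwist p A : A →+* Twist p A)) ?_
    rw [relFrob_comp_base]
    exact RingHom.finiteType_algebraMap.2 inferInstance

/-- The relative Frobenius of a finitely presented algebra is finitely presented. -/
theorem finitePresentation_relFrob (B : Type u) [CommRing B] [Algebra A B] [CharP B p]
    [Algebra.FinitePresentation A B] : (relFrob p A B).FinitePresentation := by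
  refine RingHom.FinitePresentation.of_comp_finiteType _ ?_ (finiteType_base_baseChange p A B)
  rw [relFrob_comp_base]
  exact RingHom.finitePresentation_algebraMap.2 inferInstance

open MvPolynomial in
/-- Polynomial rings are free of rank `p ^ n` over polynomials in `p`-th powers. -/
theorem rankAtStalk_relFrob_mvPolynomial (n : ℕ)
    (q : PrimeSpectrum (BaseChange p A (MvPolynomial (Fin n) A))) :
    letI := (relFrob p A (MvPolynomial (Fin n) A)).toAlgebra
    Module.rankAtStalk (R := BaseChange p A (MvPolynomial (Fin n) A))
      (MvPolynomial (Fin n) A) q = p ^ n := by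
  classical
  letI := (relFrob p A (MvPolynomial (Fin n) A)).toAlgebra
  have : Nontrivial (BaseChange p A (MvPolynomial (Fin n) A)) := q.nontrivial
  have hp := (Fact.out : p.Prime)
  let E : (MvPolynomial (Fin n) A) →+* (MvPolynomial (Fin n) A) := (MvPolynomial.expand p (R := A) (σ := Fin n)).toRingHom
  let σ : Twist p A ≃+* A := (toTwist p A).symm
  let e : BaseChange p A (MvPolynomial (Fin n) A) ≃+* (MvPolynomial (Fin n) A) :=
    ((Algebra.TensorProduct.comm A (MvPolynomial (Fin n) A) (Twist p A)).toRingEquiv.trans
      (MvPolynomial.algebraTensorAlgEquiv A (Twist p A)).toRingEquiv).trans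
      (MvPolynomial.mapEquiv (Fin n) σ)
  have he : relFrob p A (MvPolynomial (Fin n) A) = E.comp e.toRingHom := by
    refine RingHom.ext fun x => ?_
    induction x using TensorProduct.induction_on with
    | zero => simp
    | tmul b t =>
      rw [relFrob_tmul]
      change _ = MvPolynomial.expand p (MvPolynomial.map (σ : Twist p A →+* A)
        (MvPolynomial.algebraTensorAlgEquiv A (Twist p A) (t ⊗ₜ b)))
      rw [MvPolynomial.algebraTensorAlgEquiv_tmul]
      induction b using MvPolynomial.induction_on with
      | C a =>
        simp only [MvPolynomial.map_C, Algebra.smul_def, MvPolynomial.algebraMap_eq, map_mul]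
        rw [← map_pow, MvPolynomial.expand_C, MvPolynomial.expand_C, ← map_mul, ← map_mul]
        congr 1
        rw [mul_comm]
        rfl
      | add b c hb hc =>
        rcases subsingleton_or_nontrivial (MvPolynomial (Fin n) A) with h | h
        · exact Subsingleton.elim _ _
        rw [add_pow_char, add_mul, hb, hc]
        simp only [map_add, smul_add]
      | mul_X b i hb =>
        rw [mul_pow, mul_right_comm, hb]
        simp only [map_mul, MvPolynomial.map_X, Algebra.smul_def, MvPolynomial.expand_X]
        ring
    | add x y hx hy => rw [map_add, map_add, hx, hy]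
  let toF : (Fin n → Fin p) → (Fin n →₀ ℕ) := fun r => Finsupp.equivFunOnFinite.symm fun i => (r i).1
  let f : ((Fin n → Fin p) → (MvPolynomial (Fin n) A)) → (MvPolynomial (Fin n) A) := fun g => ∑ r, E (g r) * monomial (toF r) 1
  have hcoeff : ∀ g (r : Fin n → Fin p) (q : Fin n →₀ ℕ),
      coeff (p • q + toF r) (f g) = coeff q (g r) := fun g r q =>
    coeff_sum_expand p hp.ne_zero g r q
  have hdec : ∀ d : Fin n →₀ ℕ, ∃ (q : Fin n →₀ ℕ) (r : Fin n → Fin p), d = p • q + toF r := fun d =>
    ⟨Finsupp.equivFunOnFinite.symm fun i => d i / p, fun i => ⟨d i % p, Nat.mod_lt _ hp.pos⟩, by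
      ext i
      simp [toF, Nat.div_add_mod]⟩
  have hbij : Function.Bijective f := by
    refine ⟨fun g g' h => ?_, fun x => ?_⟩
    · funext r
      ext q
      rw [← hcoeff g r q, h, hcoeff]
    · refine ⟨fun r => ∑ d ∈ x.support, if ∀ i, d i % p = (r i).1 then
        monomial (Finsupp.equivFunOnFinite.symm fun i => d i / p) (coeff d x) else 0, ?_⟩
      ext d
      obtain ⟨q, r, rfl⟩ := hdec d
      rw [hcoeff, coeff_sum]
      have hmod : ∀ i, (p • q + toF r) i % p = (r i).1 := fun i => by
        simp [toF, Nat.mul_add_mod, Nat.mod_eq_of_lt (r i).2]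
      rw [Finset.sum_eq_single (p • q + toF r)]
      · rw [if_pos hmod, coeff_monomial, if_pos]
        ext i
        simp [toF, Nat.mul_add_div hp.pos, Nat.div_eq_of_lt (r i).2]
      · intro d' _ hne
        split_ifs with h
        · rw [coeff_monomial, if_neg]
          intro hq
          refine hne ?_
          ext i
          have := congrArg (fun e => e i) hq
          simp only [Finsupp.equivFunOnFinite_symm_apply_apply] at this
          simp only [Finsupp.coe_add, Pi.add_apply, Finsupp.coe_smul, Pi.smul_apply, smul_eq_mul,
            toF, Finsupp.equivFunOnFinite_symm_apply_apply]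
          rw [← this, ← h i, Nat.div_add_mod]
        · rw [coeff_zero]
      · intro hd
        rw [notMem_support_iff.1 hd]
        simp
  let L : ((Fin n → Fin p) → BaseChange p A (MvPolynomial (Fin n) A)) →ₗ[BaseChange p A (MvPolynomial (Fin n) A)] (MvPolynomial (Fin n) A) :=
    { toFun := fun g => f fun r => e (g r)
      map_add' := fun g g' => by
        simp only [f, Pi.add_apply, map_add, add_mul, Finset.sum_add_distrib]
      map_smul' := fun c g => by
        show _ = relFrob p A (MvPolynomial (Fin n) A) c * _
        rw [he]
        simp only [f, Pi.smul_apply, smul_eq_mul, map_mul, mul_assoc, Finset.mul_sum]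
        rfl }
  have hL : Function.Bijective L :=
    hbij.comp ((Equiv.piCongrRight fun _ => e.toEquiv).bijective)
  rw [← Module.rankAtStalk_eq_of_equiv (LinearEquiv.ofBijective L hL),
    Module.rankAtStalk_eq_finrank_of_free]
  simp

/-- A pushout of rings along which the rank is computed. -/
theorem rankAtStalk_of_isPushout {R S R' S' : Type u} [CommRing R] [CommRing S] [CommRing R']
    [CommRing S'] (a : R →+* S) (b : R →+* R') (c : S →+* S') (d : R' →+* S')
    (h : IsPushout (CommRingCat.ofHom a) (CommRingCat.ofHom b) (CommRingCat.ofHom c)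
      (CommRingCat.ofHom d))
    (hflat : a.Flat) (hfin : a.Finite) (q : PrimeSpectrum R') :
    letI := a.toAlgebra
    letI := d.toAlgebra
    Module.rankAtStalk (R := R') S' q = Module.rankAtStalk (R := R) S (q.comap b) := by
  algebraize [a, b, c, d, c.comp a]
  have heq : c.comp a = d.comp b := congrArg CommRingCat.Hom.hom h.w
  haveI : IsScalarTower R R' S' := IsScalarTower.of_algebraMap_eq' (by simp only [RingHom.algebraMap_toAlgebra, heq])
  haveI hP : Algebra.IsPushout R R' S S' := CommRingCat.isPushout_iff_isPushout.1 h.flip
  exact Module.rankAtStalk_isBaseChange hP.out q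

/-- A prime of the Frobenius twist is met by the twist of a basic open not containing it. -/
theorem exists_lift_bcMap {B : Type u} [CommRing B] [Algebra A B] (t : B)
    (q : PrimeSpectrum (BaseChange p A B)) (ht : t ⊗ₜ[A] (1 : Twist p A) ∉ q.asIdeal) :
    ∃ q' : PrimeSpectrum (BaseChange p A (Localization.Away t)),
      q'.comap (bcMap p A (IsScalarTower.toAlgHom A B (Localization.Away t))) = q := by
  let κ := q.asIdeal.ResidueField
  let j : BaseChange p A B →ₐ[A] κ := IsScalarTower.toAlgHom A (BaseChange p A B) κ
  let ι' : B →ₐ[A] κ := j.comp Algebra.TensorProduct.includeLeft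
  have ht' : IsUnit (ι' t) := isUnit_iff_ne_zero.2 fun h =>
    ht (Ideal.algebraMap_residueField_eq_zero.1 h)
  let l : Localization.Away t →ₐ[A] κ := IsLocalization.Away.liftAlgHom t (f := ι') ht'
  let Q : BaseChange p A (Localization.Away t) →ₐ[A] κ := Algebra.TensorProduct.lift l
    (j.comp Algebra.TensorProduct.includeRight) (fun _ _ => Commute.all _ _)
  have hQ : Q.toRingHom.comp (bcMap p A (IsScalarTower.toAlgHom A B (Localization.Away t))) =
      algebraMap (BaseChange p A B) κ := by
    refine RingHom.ext fun x => ?_
    induction x using TensorProduct.induction_on with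
    | zero => simp
    | add x y hx hy => rw [map_add, map_add, hx, hy]
    | tmul b t' =>
      have e1 : l (algebraMap B (Localization.Away t) b) = ι' b :=
        IsLocalization.Away.lift_eq t ht' b
      show l (algebraMap B (Localization.Away t) b) * j ((1 : B) ⊗ₜ t') = j (b ⊗ₜ t')
      rw [e1]
      show j (b ⊗ₜ 1) * _ = _
      rw [← map_mul, Algebra.TensorProduct.tmul_mul_tmul, mul_one, one_mul]
  refine ⟨PrimeSpectrum.comap Q.toRingHom ⊥, PrimeSpectrum.ext ?_⟩
  show (Ideal.comap Q.toRingHom (⊥ : PrimeSpectrum κ).asIdeal).comap _ = q.asIdeal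
  rw [Ideal.comap_comap, hQ]
  exact Ideal.ker_algebraMap_residueField q.asIdeal

/-- The relative Frobenius of an algebra etale over a polynomial ring in `n` variables has rank `p ^ n`. -/
theorem rankAtStalk_relFrob_of_etale_mvPolynomial (C : Type u) [CommRing C] [Algebra A C] [CharP C p]
    [Nontrivial C] (n : ℕ) (g : MvPolynomial (Fin n) A →ₐ[A] C) (hg : g.toRingHom.Etale)
    (q : PrimeSpectrum (BaseChange p A C)) :
    letI := (relFrob p A C).toAlgebra
    Module.rankAtStalk (R := BaseChange p A C) C q = p ^ n := by
  have : Nontrivial A := RingHom.domain_nontrivial (algebraMap A C)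
  rw [rankAtStalk_of_isPushout _ _ _ _ (isPushout_relFrob_of_etale p A g hg)
    (flat_mvPolynomial p A n) (finite_relFrob p A _) q, rankAtStalk_relFrob_mvPolynomial]

/-- The relative dimension of a standard smooth localisation. -/
theorem dimension_eq_of_rankAtStalk_kaehler (B : Type u) [CommRing B] [Algebra A B] (t : B)
    [Nontrivial (Localization.Away t)] (n r : ℕ)
    [Algebra.IsStandardSmoothOfRelativeDimension n A (Localization.Away t)]
    [Module.Finite B Ω[B⁄A]] [Module.Flat B Ω[B⁄A]]
    (hr : ∀ q : PrimeSpectrum B, Module.rankAtStalk (R := B) Ω[B⁄A] q = r) : n = r := by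
  have : Algebra.IsStandardSmooth A (Localization.Away t) :=
    Algebra.IsStandardSmoothOfRelativeDimension.isStandardSmooth n
  obtain ⟨m⟩ : Nonempty (PrimeSpectrum (Localization.Away t)) := inferInstance
  have h2 : Module.finrank (Localization.Away t) Ω[Localization.Away t⁄A] = n :=
    Module.finrank_eq_of_rank_eq
      (Algebra.IsStandardSmoothOfRelativeDimension.rank_kaehlerDifferential n)
  haveI : Algebra.FormallyEtale B (Localization.Away t) :=
    Algebra.FormallyEtale.of_isLocalization (Submonoid.powers t)
  have h3 : Module.rankAtStalk (R := Localization.Away t) Ω[Localization.Away t⁄A] m = r := by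
    rw [← Module.rankAtStalk_eq_of_equiv
      (KaehlerDifferential.tensorKaehlerEquivOfFormallyEtale A B (Localization.Away t)),
      Module.rankAtStalk_baseChange]
    exact hr _
  rw [Module.rankAtStalk_eq_finrank_of_free] at h3
  exact h2.symm.trans h3

/-- The relative Frobenius of a smooth algebra of relative dimension `r` has rank `p ^ r`. -/
theorem rankAtStalk_relFrob_of_smooth (B : Type u) [CommRing B] [Algebra A B] [CharP B p]
    [Algebra.Smooth A B] (r : ℕ)
    (hr : ∀ q : PrimeSpectrum B, Module.rankAtStalk (R := B) (KaehlerDifferential A B) q = r)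
    (q : PrimeSpectrum (BaseChange p A B)) :
    letI := (relFrob p A B).toAlgebra
    Module.rankAtStalk (R := BaseChange p A B) B q = p ^ r := by
  obtain ⟨s, hs, hstd⟩ := Algebra.Smooth.exists_span_eq_top_isStandardSmooth A B
  obtain ⟨t, hts, ht⟩ : ∃ t ∈ s, t ⊗ₜ[A] (1 : Twist p A) ∉ q.asIdeal := by
    by_contra hne
    simp only [not_exists, not_and, not_not] at hne
    have : Ideal.span s ≤ q.asIdeal.comap
        (Algebra.TensorProduct.includeLeftRingHom : B →+* BaseChange p A B) :=
      Ideal.span_le.2 hne
    rw [hs, top_le_iff, Ideal.comap_eq_top_iff] at this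
    exact q.isPrime.ne_top this
  obtain ⟨q', hq'⟩ := exists_lift_bcMap p A t q ht
  let φ : B →ₐ[A] Localization.Away t := IsScalarTower.toAlgHom A B (Localization.Away t)
  have : Nontrivial (BaseChange p A (Localization.Away t)) := q'.nontrivial
  have : Nontrivial (Localization.Away t) := by
    by_contra hn
    have := not_nontrivial_iff_subsingleton.1 hn
    exact not_subsingleton (BaseChange p A (Localization.Away t)) inferInstance
  haveI : CharP (Localization.Away t) p := (CharP.charP_iff_prime_eq_zero Fact.out).mpr (by
    rw [← map_natCast (algebraMap B (Localization.Away t)), CharP.cast_eq_zero, map_zero])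
  have key := rankAtStalk_of_isPushout _ _ _ _
    (isPushout_relFrob_of_etale p A φ (RingHom.etale_algebraMap.2
      (Algebra.Etale.of_isLocalizationAway (R := B) t)))
    (flat_of_smooth p A B) (finite_relFrob p A B) q'
  rw [hq'] at key
  haveI : Algebra.IsStandardSmooth A (Localization.Away t) := hstd t hts
  obtain ⟨ι₀, σ₀, _, _, ⟨P⟩⟩ := Algebra.IsStandardSmooth.out (R := A) (S := Localization.Away t)
  haveI : Algebra.IsStandardSmoothOfRelativeDimension P.dimension A (Localization.Away t) :=
    ⟨⟨_, _, _, inferInstance, P, rfl⟩⟩
  obtain ⟨g, hg⟩ := Algebra.IsStandardSmoothOfRelativeDimension.exists_etale_mvPolynomial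
    P.dimension A (Localization.Away t)
  exact key.symm.trans ((rankAtStalk_relFrob_of_etale_mvPolynomial p A _ _ g hg q').trans
    (congrArg (p ^ ·) (dimension_eq_of_rankAtStalk_kaehler A B t P.dimension r hr)))

/-- The relative Frobenius of a smooth algebra makes it a finite projective module. -/
theorem finite_projective_relFrob (B : Type u) [CommRing B] [Algebra A B] [CharP B p]
    [Algebra.Smooth A B] :
    letI := (relFrob p A B).toAlgebra
    Module.Finite (BaseChange p A B) B ∧ Module.Projective (BaseChange p A B) B := by
  letI := (relFrob p A B).toAlgebra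
  haveI h1 : Module.Finite (BaseChange p A B) B := finite_relFrob p A B
  haveI h2 : Algebra.FinitePresentation (BaseChange p A B) B := finitePresentation_relFrob p A B
  haveI h3 : Module.Flat (BaseChange p A B) B := flat_of_smooth p A B
  haveI : Module.FinitePresentation (BaseChange p A B) B :=
    Module.FinitePresentation.of_finite_of_finitePresentation _ _
  exact ⟨h1, Module.Flat.projective_of_finitePresentation⟩

end Groth.Syntomic
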