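import Mathlib

/-!
# Etale maps to affine space from etale polynomial algebras
-/

set_option autoImplicit false

universe u

open CategoryTheory AlgebraicGeometry

namespace Groth.Syntomic

/-- Changing variables and coefficients along isomorphisms keeps etaleness. -/
theorem etale_eval₂Hom_of_aeval {A A' T : Type u} [CommRing A] [CommRing A'] [CommRing T] [Algebra A T]
    {τ : Type} (e : A' ≃+* A) (w : τ → T) (h : (MvPolynomial.aeval (R := A) w).toRingHom.Etale)
    (φ : A' →+* T) (hφ : ∀ a, φ a = algebraMap A T (e a)) :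
    (MvPolynomial.eval₂Hom φ fun j : ULift.{u} τ => w j.down).Etale := by
  let σ : MvPolynomial (ULift.{u} τ) A' ≃+* MvPolynomial τ A :=
    (MvPolynomial.mapEquiv _ e).trans (MvPolynomial.renameEquiv A Equiv.ulift).toRingEquiv
  have key : (MvPolynomial.eval₂Hom φ fun j : ULift.{u} τ => w j.down) =
      (MvPolynomial.aeval (R := A) w).toRingHom.comp σ.toRingHom := by
    refine MvPolynomial.ringHom_ext (fun a => ?_) fun j => ?_
    · show MvPolynomial.eval₂Hom φ _ (MvPolynomial.C a) = MvPolynomial.aeval (R := A) w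
        (MvPolynomial.rename Equiv.ulift (MvPolynomial.map (e : A' →+* A) (MvPolynomial.C a)))
      rw [MvPolynomial.map_C, MvPolynomial.rename_C, MvPolynomial.aeval_C, MvPolynomial.eval₂Hom_C, hφ]
      rfl
    · show MvPolynomial.eval₂Hom φ _ (MvPolynomial.X j) = MvPolynomial.aeval (R := A) w
        (MvPolynomial.rename Equiv.ulift (MvPolynomial.map (e : A' →+* A) (MvPolynomial.X j)))
      rw [MvPolynomial.map_X, MvPolynomial.rename_X, MvPolynomial.aeval_X, MvPolynomial.eval₂Hom_X']
      rfl
  rw [key]
  exact RingHom.Etale.respectsIso.2 _ σ h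

/-- A map of affine schemes into affine space is etale if the polynomial algebra map is. -/
theorem etale_homOfVector {U W : Scheme.{u}} [IsAffine U] [IsAffine W] (p : U ⟶ W) {σ : Type u}
    (v : σ → Γ(U, ⊤)) (h : (MvPolynomial.eval₂Hom p.appTop.hom v).Etale) :
    Etale (AffineSpace.homOfVector p v) := by
  set χ := MvPolynomial.eval₂Hom p.appTop.hom v with hχ
  have hπ : AffineSpace.homOfVector p v = U.isoSpec.hom ≫
      (Spec.map (CommRingCat.ofHom χ) ≫ (AffineSpace.isoOfIsAffine σ W).inv) := by
    apply AffineSpace.hom_ext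
    · have hC : CommRingCat.ofHom MvPolynomial.C ≫ CommRingCat.ofHom χ = p.appTop :=
        CommRingCat.hom_ext (MvPolynomial.eval₂Hom_comp_C _ _)
      rw [AffineSpace.homOfVector_over, Category.assoc, Category.assoc, AffineSpace.isoOfIsAffine_inv_over,
        ← Spec.map_comp_assoc]
      erw [hC]
      rw [Scheme.isoSpec_hom_naturality_assoc, Iso.hom_inv_id, Category.comp_id]
    · intro j
      rw [AffineSpace.homOfVector_appTop_coord, Scheme.Hom.comp_appTop, Scheme.Hom.comp_appTop,
        CommRingCat.comp_apply, CommRingCat.comp_apply, AffineSpace.isoOfIsAffine_inv_appTop_coord]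
      erw [← CommRingCat.comp_apply (Scheme.ΓSpecIso _).inv, ← Scheme.ΓSpecIso_inv_naturality,
        CommRingCat.comp_apply, Scheme.isoSpec_hom, Scheme.toSpecΓ_appTop]
      show v j = _
      rw [CommRingCat.comp_apply]
      erw [CategoryTheory.Iso.inv_hom_id_apply]
      exact (MvPolynomial.eval₂Hom_X' _ _ j).symm
  rw [hπ]
  haveI : Etale (Spec.map (CommRingCat.ofHom χ)) := (HasRingHomProperty.Spec_iff (P := @Etale)).2 h
  refine MorphismProperty.comp_mem @Etale _ _ ?_ (MorphismProperty.comp_mem @Etale _ _ this ?_) <;>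
    infer_instance

end Groth.Syntomic
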