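import Groth.Prelude.Def_Frob
import Groth.Agent.Misc6.RelFrobFlat
import Groth.Agent.Syntomic.Avramov
import Groth.Agent.PropsBasic2.Misc

/-!
# The relative Frobenius of a smooth morphism is syntomic
-/

set_option autoImplicit false
set_option linter.style.haveILetI false

universe u

open AlgebraicGeometry CategoryTheory Limits

namespace Groth.Syntomic

variable (p : ℕ) [Fact p.Prime]

/-- The absolute Frobenius of an affine scheme. -/
theorem frob_Spec (A : Type u) [CommRing A] [CharP A p] :
    FrobSch.frob (Spec (CommRingCat.of A)) p = Spec.map (CommRingCat.ofHom (frobenius A p)) := by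
  refine ext_of_isAffine ?_
  rw [← cancel_epi (Scheme.ΓSpecIso (CommRingCat.of A)).inv, ← Scheme.ΓSpecIso_inv_naturality]
  ext a
  show ((Scheme.ΓSpecIso (CommRingCat.of A)).inv a) ^ p =
    (Scheme.ΓSpecIso (CommRingCat.of A)).inv (frobenius A p a)
  rw [frobenius_def, map_pow]

open TensorProduct in
theorem relFrob_tmul (A : Type u) [CommRing A] [CharP A p] (B : Type u) [CommRing B] [Algebra A B]
    [CharP B p] :
    (FrobAlg.relFrob p A B).comp Algebra.TensorProduct.includeLeftRingHom = frobenius B p ∧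
      (FrobAlg.relFrob p A B).comp (Algebra.TensorProduct.includeRight (R := A)).toRingHom =
        (algebraMap A B).comp ((FrobAlg.toTwist p A).symm : FrobAlg.Twist p A →+* A) := by
  constructor <;> ext b <;>
    simp [FrobAlg.relFrob, FrobAlg.frobHom, FrobAlg.inclHom] <;> rfl

variable {S X : Scheme.{u}} [FrobSch.IsCharP S p] (f : X ⟶ S)

/-- The relative Frobenius of a smooth morphism is flat. -/
theorem flat_relFrob [Smooth f] : Flat (FrobSch.relFrob f p) := by
  have : FrobSch.IsCharP X p := FrobSch.IsCharP.of_hom f p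
  choose V hV hfV _ using fun x : X => exists_isAffineOpen_mem_and_subset (x := f x) (U := ⊤) trivial
  choose U hU hxU hUV using fun x : X => exists_isAffineOpen_mem_and_subset (x := x) (U := f ⁻¹ᵁ V x) (hfV x)
  rw [IsZariskiLocalAtSource.iff_of_openCover (P := @Flat)
    (X.openCoverOfIsOpenCover U (eq_top_iff.mpr fun x _ =>
      TopologicalSpace.Opens.mem_iSup.mpr ⟨x, hxU x⟩))]
  intro x
  show Flat ((U x).ι ≫ FrobSch.relFrob f p)
  suffices h : Flat ((hU x).fromSpec ≫ FrobSch.relFrob f p) by
    have : (U x).ι = (hU x).isoSpec.hom ≫ (hU x).fromSpec := by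
      rw [← IsAffineOpen.isoSpec_inv_ι, Iso.hom_inv_id_assoc]
    rw [this, Category.assoc]
    infer_instance
  let A : Type u := Γ(S, V x)
  let B : Type u := Γ(X, U x)
  have : Nonempty (V x) := ⟨⟨f x, hfV x⟩⟩
  have : Nonempty (U x) := ⟨⟨x, hxU x⟩⟩
  have : CharP A p := (CharP.charP_iff_prime_eq_zero Fact.out).2 (FrobSch.natCast_eq_zero_app S p _)
  have : CharP B p := (CharP.charP_iff_prime_eq_zero Fact.out).2 (FrobSch.natCast_eq_zero_app X p _)
  letI : Algebra A B := (f.appLE (V x) (U x) (hUV x)).hom.toAlgebra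
  have : Algebra.Smooth A B :=
    RingHom.smooth_algebraMap.mp (HasRingHomProperty.appLE (P := @Smooth) f ‹_› ⟨_, hV x⟩ ⟨_, hU x⟩ (hUV x))
  let u : Spec (CommRingCat.of B) ⟶ X := (hU x).fromSpec
  let v : Spec (CommRingCat.of A) ⟶ S := (hV x).fromSpec
  let a : Spec (CommRingCat.of B) ⟶ Spec (CommRingCat.of A) := Spec.map (CommRingCat.ofHom (algebraMap A B))
  let b : Spec (CommRingCat.of (FrobAlg.Twist p A)) ⟶ Spec (CommRingCat.of A) :=
    Spec.map (CommRingCat.ofHom (algebraMap A (FrobAlg.Twist p A)))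
  let v' : Spec (CommRingCat.of (FrobAlg.Twist p A)) ⟶ S :=
    Spec.map (CommRingCat.ofHom (FrobAlg.toTwist p A : A →+* FrobAlg.Twist p A)) ≫ v
  have ha : a ≫ v = u ≫ f := (IsAffineOpen.SpecMap_appLE_fromSpec f (hV x) (hU x) (hUV x))
  have hb : b ≫ v = v' ≫ FrobSch.frob S p := by
    rw [Category.assoc, ← FrobSch.frob_comp p v, frob_Spec, ← Spec.map_comp_assoc]
    rfl
  have hv' : IsOpenImmersion v' := by
    have : IsIso (CommRingCat.ofHom (FrobAlg.toTwist p A : A →+* FrobAlg.Twist p A)) :=
      (FrobAlg.toTwist p A).toCommRingCatIso.isIso_hom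
    exact inferInstanceAs (IsOpenImmersion (Spec.map _ ≫ (hV x).fromSpec))
  let e := (pullbackIsPullbackOfCompMono a b v).conePointUniqueUpToIso (pullback.isLimit (a ≫ v) (b ≫ v))
  have he1 : e.hom ≫ pullback.fst _ _ = pullback.fst a b :=
    IsLimit.conePointUniqueUpToIso_hom_comp _ _ WalkingCospan.left
  have he2 : e.hom ≫ pullback.snd _ _ = pullback.snd a b :=
    IsLimit.conePointUniqueUpToIso_hom_comp _ _ WalkingCospan.right
  let m := pullback.map (a ≫ v) (b ≫ v) f (FrobSch.frob S p) u v' (𝟙 _)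
    ((Category.comp_id _).trans ha) ((Category.comp_id _).trans hb)
  have hm : IsOpenImmersion m :=
    MorphismProperty.pullbackMap (P := @IsOpenImmersion) (inferInstanceAs (IsOpenImmersion (hU x).fromSpec))
      hv' ha hb
  let F := Spec.map (CommRingCat.ofHom (FrobAlg.relFrob p A B))
  let j := (pullbackSpecIso A B (FrobAlg.Twist p A)).inv ≫ e.hom ≫ m
  have key : (hU x).fromSpec ≫ FrobSch.relFrob f p = F ≫ j := by
    obtain ⟨h1, h2⟩ := relFrob_tmul p A B
    refine pullback.hom_ext ?_ ?_
    · rw [Category.assoc, FrobSch.relFrob_fst]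
      simp only [j, m, Category.assoc, pullback.lift_fst]
      refine Eq.trans ?_ (congrArg (fun t => F ≫ (pullbackSpecIso A B (FrobAlg.Twist p A)).inv ≫ t)
        ((congrArg (· ≫ u) he1).symm.trans (Category.assoc _ _ _)))
      dsimp only [a, b, F]
      refine Eq.trans ?_ (congrArg (fun t => Spec.map (CommRingCat.ofHom (FrobAlg.relFrob p A B)) ≫ t)
        (pullbackSpecIso_inv_fst_assoc A B (FrobAlg.Twist p A) u)).symm
      rw [← Spec.map_comp_assoc, ← CommRingCat.ofHom_comp,
        h1, ← frob_Spec, FrobSch.frob_comp]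
    · rw [Category.assoc, FrobSch.relFrob_snd]
      simp only [j, m, Category.assoc, pullback.lift_snd]
      refine Eq.trans ?_ (congrArg (fun t => F ≫ (pullbackSpecIso A B (FrobAlg.Twist p A)).inv ≫ t)
        ((congrArg (· ≫ v') he2).symm.trans (Category.assoc _ _ _)))
      dsimp only [a, b, F]
      refine Eq.trans ?_ (congrArg (fun t => Spec.map (CommRingCat.ofHom (FrobAlg.relFrob p A B)) ≫ t)
        (pullbackSpecIso_inv_snd_assoc A B (FrobAlg.Twist p A) v')).symm
      rw [← Spec.map_comp_assoc, ← CommRingCat.ofHom_comp]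
      refine Eq.trans ?_ (congrArg (fun r => Spec.map (CommRingCat.ofHom r) ≫ v') h2).symm
      show _ = Spec.map _ ≫ Spec.map _ ≫ v
      rw [← Spec.map_comp_assoc, ← CommRingCat.ofHom_comp]
      refine ha.symm.trans ?_
      congr 1
  rw [key]
  have : Flat F := (HasRingHomProperty.Spec_iff (P := @Flat)).2 (Groth.Misc6.RelFrobFlat.flat_of_smooth p A B)
  infer_instance

/-- The relative Frobenius of a smooth morphism is syntomic. -/
theorem isSyntomicMor_relFrob [Smooth f] : Synt.IsSyntomicMor (FrobSch.relFrob f p) := by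
  have := flat_relFrob p f
  have : LocallyOfFinitePresentation (FrobSch.relFrob f p ≫ pullback.snd f (FrobSch.frob S p)) := by
    rw [FrobSch.relFrob_snd]; infer_instance
  have := Groth.PropsBasic2.lfp_of_comp (FrobSch.relFrob f p) (pullback.snd f (FrobSch.frob S p))
  refine (isSyntomicMor_iff_fiberStalk _).2 ⟨inferInstance, inferInstance, fun x => ?_⟩
  refine ((isCompleteIntersection_fiberStalk_comp_iff (FrobSch.relFrob f p)
    (pullback.snd f (FrobSch.frob S p)) x).1 ?_).2
  rw [FrobSch.relFrob_snd]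
  exact ((isSyntomicMor_iff_fiberStalk f).1 (isSyntomicMor_of_smooth f)).2.2 x

end Groth.Syntomic
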