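import Groth.Agent.Calg5.RelGCIFlat
import Mathlib.RingTheory.LocalProperties.FinitePresentation
import Mathlib.RingTheory.Flat.EquationalCriterion
import Mathlib.Algebra.Module.LocalizedModule.IsLocalization
import Mathlib.RingTheory.Localization.Ideal
import Mathlib.RingTheory.Ideal.Cotangent

/-!
# Conormal modules of Koszul-regular ideals

The conormal module of a Koszul-regular ideal is finite projective; it commutes with localization.
-/

set_option autoImplicit false
set_option linter.style.haveILetI false

universe u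

namespace Groth.Syntomic

variable {A : Type u} [CommRing A] (J : Ideal A)

/-- The map of conormal modules induced by a ring map. -/
def cotMap (A' : Type u) [CommRing A'] [Algebra A A'] :
    J.Cotangent →ₗ[A] (J.map (algebraMap A A')).Cotangent :=
  Ideal.mapCotangent J (J.map (algebraMap A A')) (Algebra.ofId A A') Ideal.le_comap_map

theorem cotMap_toCotangent (A' : Type u) [CommRing A'] [Algebra A A'] (x : J) :
    cotMap J A' (J.toCotangent x) =
      (J.map (algebraMap A A')).toCotangent ⟨algebraMap A A' x, Ideal.mem_map_of_mem _ x.2⟩ := rfl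

/-- Conormal modules commute with localization. -/
theorem isLocalizedModule_cotMap (A' : Type u) [CommRing A'] [Algebra A A'] (M : Submonoid A)
    [IsLocalization M A'] : IsLocalizedModule M (cotMap J A') where
  map_units s := by
    rw [Module.End.isUnit_iff]
    obtain ⟨u, hu⟩ := IsLocalization.map_units A' s
    refine Function.bijective_iff_has_inverse.mpr ⟨fun z => (↑u⁻¹ : A') • z, fun z => ?_, fun z => ?_⟩
    · simp only [Module.algebraMap_end_apply, ← algebraMap_smul A' (s : A), ← hu, smul_smul, Units.inv_mul, one_smul]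
    · simp only [Module.algebraMap_end_apply, ← algebraMap_smul A' (s : A), ← hu, smul_smul, Units.mul_inv, one_smul]
  surj z := by
    obtain ⟨⟨y, hy⟩, rfl⟩ := Ideal.toCotangent_surjective _ z
    obtain ⟨⟨⟨a, ha⟩, s⟩, hs⟩ := (IsLocalization.mem_map_algebraMap_iff M A').mp hy
    refine ⟨⟨J.toCotangent ⟨a, ha⟩, s⟩, ?_⟩
    rw [cotMap_toCotangent, Submonoid.smul_def, ← algebraMap_smul A', ← map_smul]
    congr 1
    ext
    exact (mul_comm _ _).trans hs
  exists_of_eq {x₁ x₂} h := by
    obtain ⟨⟨a, ha⟩, rfl⟩ := J.toCotangent_surjective x₁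
    obtain ⟨⟨b, hb⟩, rfl⟩ := J.toCotangent_surjective x₂
    rw [cotMap_toCotangent, cotMap_toCotangent, Ideal.toCotangent_eq, ← Ideal.map_pow, ← map_sub] at h
    obtain ⟨⟨⟨c, hc⟩, s⟩, hs⟩ := (IsLocalization.mem_map_algebraMap_iff M A').mp h
    rw [← map_mul] at hs
    obtain ⟨t, ht⟩ := IsLocalization.exists_of_eq (M := M) hs
    refine ⟨t * s, ?_⟩
    rw [Submonoid.smul_def, Submonoid.smul_def, ← map_smul, ← map_smul, Ideal.toCotangent_eq]
    simp only [Submonoid.coe_mul, SetLike.val_smul, smul_eq_mul]
    rw [show (t : A) * s * a - (t : A) * s * b = (t : A) * ((a - b) * s) by ring, ht]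
    exact Ideal.mul_mem_left _ _ hc

/-- The conormal module of an ideal generated by a Koszul-regular sequence is finite free. -/
theorem free_cotangent_of_koszul {B : Type u} [CommRing B] (I : Ideal B) (l : List B)
    (hl : LCI.IsKoszulRegularSeq B l) (hI : I = Ideal.ofList l) :
    Module.Free (B ⧸ I) I.Cotangent ∧ Module.Finite (B ⧸ I) I.Cotangent := by
  obtain ⟨m, f, rfl⟩ : ∃ (m : ℕ) (f : Fin m → B), List.ofFn f = l :=
    ⟨l.length, l.get, List.ofFn_get l⟩
  rw [Groth.Calg5.RelGCI.ofList_ofFn] at hI
  subst hI
  let b := Module.Basis.mk (Groth.Calg5.RelGCI.linearIndependent_toCotangent f hl)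
    (Groth.Calg5.RelGCI.span_toCotangent f).ge
  exact ⟨Module.Free.of_basis b, Module.Finite.of_basis b⟩

/-- The conormal module of a Koszul-regular ideal is finite projective. -/
theorem finite_projective_cotangent (h : LCI.IsKoszulRegularIdeal J) :
    Module.Finite (A ⧸ J) J.Cotangent ∧ Module.Projective (A ⧸ J) J.Cotangent := by
  let s : Set (A ⧸ J) := {r | ∃ g, Ideal.Quotient.mk J g = r ∧ ∃ l : List (Localization.Away g),
    LCI.IsKoszulRegularSeq _ l ∧ J.map (algebraMap A (Localization.Away g)) = Ideal.ofList l}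
  have hs : Ideal.span s = ⊤ := by
    by_contra hne
    obtain ⟨m, hm, hle⟩ := Ideal.exists_le_maximal _ hne
    have hJ : J ≤ m.comap (Ideal.Quotient.mk J) := fun x hx => by
      rw [Ideal.mem_comap, Ideal.Quotient.eq_zero_iff_mem.mpr hx]
      exact zero_mem _
    obtain ⟨g, hg, l, hl, hlJ⟩ := h ⟨m.comap (Ideal.Quotient.mk J), inferInstance⟩ hJ
    exact hg (hle (Ideal.subset_span ⟨g, rfl, l, hl, hlJ⟩))
  choose g hgr l hl hlJ using fun r : s => r.2
  let Rp : s → Type u := fun r =>
    Localization.Away (g r) ⧸ J.map (algebraMap A (Localization.Away (g r)))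
  let Mp : s → Type u := fun r => (J.map (algebraMap A (Localization.Away (g r)))).Cotangent
  have hloc : ∀ r : s, IsLocalization.Away r.1 (Rp r) := fun r => by
    have h1 : IsLocalization (Algebra.algebraMapSubmonoid (A ⧸ J) (Submonoid.powers (g r))) (Rp r) :=
      inferInstance
    rw [Algebra.algebraMapSubmonoid_powers, Ideal.Quotient.algebraMap_eq, hgr r] at h1
    exact h1
  letI : ∀ r : s, Module (A ⧸ J) (Mp r) := fun r =>
    Module.compHom _ (algebraMap (A ⧸ J) (Rp r))
  have : ∀ r : s, IsScalarTower (A ⧸ J) (Rp r) (Mp r) := fun r =>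
    IsScalarTower.of_algebraMap_smul fun _ _ => rfl
  have htA : ∀ r : s, IsScalarTower A (A ⧸ J) (Mp r) := fun r =>
    IsScalarTower.of_algebraMap_smul fun a z => by
      change algebraMap (A ⧸ J) (Rp r) (Ideal.Quotient.mk J a) • z = a • z
      rw [Ideal.Quotient.algebraMap_quotient_map_quotient]
      exact algebraMap_smul (Localization.Away (g r)) a z
  let φ : ∀ r : s, J.Cotangent →ₗ[A ⧸ J] Mp r := fun r =>
    LinearMap.extendScalarsOfSurjective Ideal.Quotient.mk_surjective (cotMap J (Localization.Away (g r)))
  have hφ : ∀ r : s, IsLocalizedModule (Submonoid.powers r.1) (φ r) := fun r => by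
    have : IsLocalizedModule (Submonoid.powers (g r)) ((φ r).restrictScalars A) :=
      isLocalizedModule_cotMap J (Localization.Away (g r)) (Submonoid.powers (g r))
    have h1 := IsLocalizedModule.of_restrictScalars (Submonoid.powers (g r)) (φ r)
    rwa [Algebra.algebraMapSubmonoid_powers, Ideal.Quotient.algebraMap_eq, hgr r] at h1
  have hfree : ∀ r : s, Module.Free (Rp r) (Mp r) ∧ Module.Finite (Rp r) (Mp r) := fun r =>
    free_cotangent_of_koszul _ (l r) (hl r) (hlJ r)
  have hfp : Module.FinitePresentation (A ⧸ J) J.Cotangent :=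
    Module.FinitePresentation.of_localizationSpan' s hs (Rₚ := Rp) φ fun r => by
      have := (hfree r).1
      have := (hfree r).2
      exact Module.finitePresentation_of_projective _ _
  have hflat : Module.Flat (A ⧸ J) J.Cotangent :=
    Module.flat_of_isLocalized_span (S := A ⧸ J) J.Cotangent s hs Mp φ fun r => by
      have := (hfree r).1
      have := IsLocalization.flat (Rp r) (Submonoid.powers r.1)
      exact Module.Flat.trans (A ⧸ J) (Rp r) (Mp r)
  exact ⟨inferInstance, Module.Flat.projective_of_finitePresentation⟩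

end Groth.Syntomic
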