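import Groth.Agent.Syntomic.Main
import Groth.Agent.CI.Locus
import Groth.Agent.KoszulLCI.Regular
import Mathlib.RingTheory.EssentialFiniteness
import Mathlib.RingTheory.RegularLocalRing.Polynomial

/-!
# Complete intersections over a field

For a finite type algebra over a field, the three notions "global complete intersection near `Q`",
"the local ring at `Q` is a complete intersection" and "local complete intersection near `Q`"
coincide.
-/

set_option autoImplicit false

universe u

open RingTheory.Sequence IsLocalRing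

namespace Groth.Syntomic

variable {k : Type u} [Field k] {n : ℕ} {T : Type u} [CommRing T] [Algebra k T]

/-- A point where the ideal is generated by a regular sequence has a neighbourhood which is a global
complete intersection. -/
theorem exists_isGlobalCI_nhd (φ : MvPolynomial (Fin n) k →ₐ[k] T) (hφ : Function.Surjective φ)
    (Q : Ideal T) [Q.IsPrime] (rs : List (Localization.AtPrime (Q.comap φ.toRingHom)))
    (hrs : IsRegular (Localization.AtPrime (Q.comap φ.toRingHom)) rs)
    (hI : Ideal.ofList rs = (RingHom.ker φ.toRingHom).map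
      (algebraMap _ (Localization.AtPrime (Q.comap φ.toRingHom)))) :
    ∃ g ∉ Q, Synt.IsGlobalCI k (Localization.Away g) := by
  set q := Q.comap φ.toRingHom
  let loc := algebraMap (MvPolynomial (Fin n) k) (Localization.AtPrime q)
  have hy : ∀ x ∈ rs, ∃ y ∈ RingHom.ker φ.toRingHom, Associated x (loc y) := fun x hx => by
    obtain ⟨⟨⟨y, hy⟩, s⟩, he⟩ := (IsLocalization.mem_map_algebraMap_iff q.primeCompl _).mp
      (hI.le (Ideal.subset_span hx))
    exact ⟨y, hy, (IsLocalization.map_units (Localization.AtPrime q) s).unit, he⟩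
  choose! y hyI hy using hy
  let f : List (MvPolynomial (Fin n) k) := rs.map y
  have hass : List.Forall₂ Associated rs (f.map loc) := by
    simp only [f, List.map_map]
    exact List.forall₂_map_right_iff.mpr (List.forall₂_same.mpr fun x hx => hy x hx)
  obtain ⟨t, ht, hreg⟩ := Groth.FrobLCI.RegularSpread.exists_away q f
    (Groth.FrobLCI.RegularSpread.isWeaklyRegular_of_forall₂ hass hrs.toIsWeaklyRegular)
  obtain ⟨h₁, hh₁, h₁I⟩ := Groth.KoszulLCI.exists_away_generators
    (IsNoetherian.noetherian (RingHom.ker φ.toRingHom)) q f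
    (by rw [Ideal.map_ofList, ← Groth.FrobLCI.RegularSpread.ofList_eq_of_forall₂ hass, hI])
  have hG : t * h₁ ∉ q := fun hm => (Ideal.IsPrime.mem_or_mem inferInstance hm).elim ht hh₁
  refine ⟨φ (t * h₁), hG, ?_⟩
  have hfI : Ideal.ofList f ≤ RingHom.ker φ.toRingHom := Ideal.span_le.mpr fun z hz => by
    obtain ⟨x, hx, rfl⟩ := List.mem_map.mp hz
    exact hyI x hx
  obtain ⟨F, ⟨e⟩, hFK⟩ := exists_away_presentation φ hφ (t * h₁) _
    (map_away_eq_ofList _ f hfI h₁ (t * h₁) (dvd_mul_left h₁ t) h₁I)
  refine Groth.Calg5.RelGCI.isGlobalCI_of_algEquiv e ?_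
  rcases subsingleton_or_nontrivial (Synt.RelGCIRing k (n + 1) _ F) with hs | hn
  · exact Or.inl hs
  have hne : Ideal.ofList (List.ofFn F) ≠ ⊤ := by
    rw [Groth.Calg5.RelGCI.ofList_ofFn]
    exact Ideal.Quotient.nontrivial_iff.mp hn
  obtain ⟨hc, hdim⟩ := dim_quotient_of_koszul _
    (hFK (Groth.KoszulLCI.isKoszulRegularSeq_of_isWeaklyRegular (hreg _ (dvd_mul_right t h₁)))) hne
  rw [List.length_ofFn] at hc hdim
  rw [Groth.Calg5.RelGCI.ofList_ofFn] at hdim
  exact Or.inr ⟨n + 1, _, hc, Ideal.Quotient.mkₐ k _, F, Ideal.Quotient.mkₐ_surjective k _,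
    Ideal.Quotient.mkₐ_ker k _, hdim⟩

/-- Where the algebra is a local complete intersection, the local ring is a complete intersection. -/
theorem isCompleteIntersection_of_isLCI_away [Algebra.FiniteType k T] (Q : Ideal T) [Q.IsPrime]
    {g : T} (hg : g ∉ Q) (h : LCI.IsLCI k (Localization.Away g)) :
    Pi1.IsCompleteIntersection (Localization.AtPrime Q) := by
  obtain ⟨n, φ, hφ⟩ := Algebra.FiniteType.iff_quotient_mvPolynomial''.mp
    (inferInstance : Algebra.FiniteType k T)
  obtain ⟨G, rfl⟩ := hφ g
  set q := Q.comap φ.toRingHom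
  let ι := algebraMap (MvPolynomial (Fin n) k) (Localization.Away G)
  have hK := Groth.KoszulLCI.isKoszulRegularIdeal_map_away φ hφ G h
  have hGq : G ∉ q := hg
  let m := q.map ι
  have hdisj : Disjoint (Submonoid.powers G : Set (MvPolynomial (Fin n) k)) q := by
    rw [Set.disjoint_left]
    rintro _ ⟨j, rfl⟩ hj
    exact hGq (Ideal.IsPrime.mem_of_pow_mem inferInstance j hj)
  have hm : m.IsPrime := IsLocalization.isPrime_of_isPrime_disjoint _ _ q inferInstance hdisj
  have hmq : m.comap ι = q := IsLocalization.under_map_of_isPrime_disjoint _ _ inferInstance hdisj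
  have hIq : RingHom.ker φ.toRingHom ≤ q := Ideal.ker_le_comap _
  obtain ⟨g', hg', r, hr⟩ := Groth.KoszulLCI.locReg_of_isKoszulRegularIdeal hK m (Ideal.map_mono hIq)
  have hloc : IsLocalization.AtPrime (Localization.AtPrime m) (m.comap ι) :=
    IsLocalization.isLocalization_isLocalization_atPrime_isLocalization (Submonoid.powers G) _ m
  have hcq : (m.comap ι).primeCompl = q.primeCompl := by
    ext x; exact not_congr (by rw [hmq])
  have : IsLocalization q.primeCompl (Localization.AtPrime m) := hcq ▸ hloc
  let e := IsLocalization.algEquiv q.primeCompl (Localization.AtPrime m) (Localization.AtPrime q)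
  obtain ⟨l, hl, hlreg, hlI⟩ := (hr m hg').map e.toAlgHom.toRingHom
    (RingHom.Flat.of_bijective e.bijective)
  rw [Ideal.map_map, Ideal.map_map] at hlI
  have he : e.toAlgHom.toRingHom.comp ((algebraMap (Localization.Away G) (Localization.AtPrime m)).comp ι) =
      algebraMap _ (Localization.AtPrime q) := by
    rw [← IsScalarTower.algebraMap_eq]
    exact RingHom.ext fun a => e.commutes a
  rw [RingHom.comp_assoc, he] at hlI
  refine (Groth.CI.isCompleteIntersection_atPrime_iff φ.toRingHom hφ Q).mpr ?_
  have hlmem : ∀ x ∈ l, x ∈ maximalIdeal (Localization.AtPrime q) := fun x hx =>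
    ((Ideal.map_mono hIq).trans Localization.AtPrime.map_eq_maximalIdeal.le)
      (hlI.le (Ideal.subset_span hx))
  refine ⟨l.reverse, (Groth.KoszulLCI.ofList_eq_of_perm l.reverse_perm).trans hlI,
    (IsLocalRing.isRegular_iff_isWeaklyRegular_of_subset_maximalIdeal
      fun x hx => hlmem x (List.mem_reverse.mp hx)).mpr ?_⟩
  exact Groth.ArtfunDeform.isWeaklyRegular_reverse_of_koszul l hlmem hlreg

/-- Global complete intersection near a point ⇔ the local ring is a complete intersection. -/
theorem exists_isGlobalCI_nhd_iff [Algebra.FiniteType k T] (Q : Ideal T) [Q.IsPrime] :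
    (∃ g ∉ Q, Synt.IsGlobalCI k (Localization.Away g)) ↔
      Pi1.IsCompleteIntersection (Localization.AtPrime Q) := by
  constructor
  · rintro ⟨g, hg, hG⟩
    have : Algebra.FiniteType k (Localization.Away g) :=
      (inferInstance : Algebra.FiniteType k T).trans inferInstance
    exact isCompleteIntersection_of_isLCI_away Q hg (isLCI_of_isGlobalCI hG)
  · intro h
    obtain ⟨n, φ, hφ⟩ := Algebra.FiniteType.iff_quotient_mvPolynomial''.mp
      (inferInstance : Algebra.FiniteType k T)
    obtain ⟨rs, hI, hrs⟩ := (Groth.CI.isCompleteIntersection_atPrime_iff φ.toRingHom hφ Q).mp h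
    exact exists_isGlobalCI_nhd φ hφ Q rs hrs hI

/-- Local complete intersections over a field are recognised on local rings. -/
theorem isLCIOver_iff_isCompleteIntersection [Algebra.FiniteType k T] :
    Synt.IsLCIOver k T ↔
      ∀ (Q : Ideal T) [Q.IsPrime], Pi1.IsCompleteIntersection (Localization.AtPrime Q) :=
  ⟨fun h Q hQ => (exists_isGlobalCI_nhd_iff Q).mp (h.2 ⟨Q, hQ⟩),
    fun h => ⟨inferInstance, fun P => (exists_isGlobalCI_nhd_iff P.asIdeal).mpr (h P.asIdeal)⟩⟩

/-- The two notions of local complete intersection over a field agree. -/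
theorem isLCIOver_iff_isLCI : Synt.IsLCIOver k T ↔ LCI.IsLCI k T := by
  refine ⟨isLCI_of_isLCIOver, fun h => ?_⟩
  have := h.1
  refine isLCIOver_iff_isCompleteIntersection.mpr fun Q _ =>
    isCompleteIntersection_of_isLCI_away (k := k) Q (g := 1) (fun h1 => ‹Q.IsPrime›.ne_top
      ((Ideal.eq_top_iff_one Q).mpr h1)) ?_
  exact Groth.KoszulLCI.isLCI_trans h (Groth.KoszulLCI.isLCI_away (S := Localization.Away (1 : T)) 1)

/-- A complete intersection over `k` is a complete intersection. -/
theorem isCompleteIntersection_of_isCIOver {S : Type u} [CommRing S] [IsLocalRing S] [Algebra k S]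
    (h : Synt.IsCIOver k S) : Pi1.IsCompleteIntersection S := by
  obtain ⟨R, _, _, _, -, rs, hmem, hrs, ⟨e⟩⟩ := h
  have : IsLocalRing (R ⧸ Ideal.ofList rs) := e.toRingEquiv.isLocalRing
  exact Groth.CI.isCompleteIntersection_of_ringEquiv e.symm.toRingEquiv
    ((Groth.CI.isCompleteIntersection_quotient_iff (Ideal.ofList rs) (fun h => (maximalIdeal.isMaximal R).ne_top
      (top_le_iff.mp (h ▸ Ideal.span_le.mpr hmem)))).mpr ⟨rs, rfl, hrs⟩)

/-- A complete intersection local ring at a point of a finite type algebra is one over `k`. -/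
theorem isCIOver_atPrime [Algebra.FiniteType k T] (Q : Ideal T) [Q.IsPrime]
    (h : Pi1.IsCompleteIntersection (Localization.AtPrime Q)) :
    Synt.IsCIOver k (Localization.AtPrime Q) := by
  obtain ⟨n, φ, hφ⟩ := Algebra.FiniteType.iff_quotient_mvPolynomial''.mp
    (inferInstance : Algebra.FiniteType k T)
  obtain ⟨rs, hI, hrs⟩ := (Groth.CI.isCompleteIntersection_atPrime_iff φ.toRingHom hφ Q).mp h
  let θ : Localization.AtPrime (Q.comap φ.toRingHom) →ₐ[k] Localization.AtPrime Q :=
    Localization.localAlgHom _ Q φ rfl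
  have hθ : Function.Surjective θ := Groth.KoszulLCI.surjective_localRingHom φ.toRingHom hφ Q
  have hker : RingHom.ker θ.toRingHom = Ideal.ofList rs := by
    rw [hI]
    exact Groth.KoszulLCI.ker_localRingHom_eq_map φ.toRingHom hφ Q
  refine ⟨Localization.AtPrime (Q.comap φ.toRingHom), inferInstance, inferInstance, inferInstance,
    Algebra.EssFiniteType.comp k (MvPolynomial (Fin n) k) _, rs, fun x hx => ?_, hrs, ⟨?_⟩⟩
  · exact (IsLocalRing.le_maximalIdeal (RingHom.ker_ne_top θ.toRingHom)) (hker ▸ Ideal.subset_span hx)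
  · exact ((Ideal.quotientEquivAlgOfEq k hker.symm).trans
      (Ideal.quotientKerAlgEquivOfSurjective hθ)).symm

/-- For a local algebra essentially of finite type the two notions of complete intersection agree. -/
theorem isCIOver_iff {S : Type u} [CommRing S] [IsLocalRing S] [Algebra k S]
    [Algebra.EssFiniteType k S] : Synt.IsCIOver k S ↔ Pi1.IsCompleteIntersection S := by
  refine ⟨isCompleteIntersection_of_isCIOver, fun h => ?_⟩
  let T₀ := Algebra.EssFiniteType.subalgebra k S
  let Q : Ideal T₀ := (maximalIdeal S).comap (algebraMap T₀ S)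
  have hQ : Algebra.EssFiniteType.submonoid k S = Q.primeCompl := by
    ext x
    exact (IsLocalRing.notMem_maximalIdeal (x := algebraMap T₀ S x)).symm
  have hl : IsLocalization Q.primeCompl S := hQ ▸ Algebra.EssFiniteType.isLocalization (R := k) (S := S)
  let e : Localization.AtPrime Q ≃ₐ[k] S :=
    (IsLocalization.algEquiv Q.primeCompl (Localization.AtPrime Q) S).restrictScalars k
  obtain ⟨R, i₁, i₂, i₃, hR, rs, hmem, hrs, ⟨e'⟩⟩ := isCIOver_atPrime (k := k) Q
    (Groth.CI.isCompleteIntersection_of_ringEquiv e.symm.toRingEquiv h)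
  exact ⟨R, i₁, i₂, i₃, hR, rs, hmem, hrs, ⟨e.symm.trans e'⟩⟩

end Groth.Syntomic
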