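import Groth.Agent.Syntomic.Main
import Groth.Agent.ArtfunDeform.CotT.KoszulReg
import Groth.Agent.FrobLCI.Vasconcelos

/-!
# From Koszul regular sequences to regular sequences in Noetherian rings
-/

set_option autoImplicit false

universe u

namespace Groth.Syntomic

open RingTheory.Sequence IsLocalRing

/-- The ideal of a nonempty Koszul regular sequence lies in no associated prime. -/
theorem not_ofList_le_associatedPrime {A : Type u} [CommRing A] [IsNoetherianRing A] (l : List A)
    (hl : l ≠ []) (h : LCI.IsKoszulRegularSeq A l) (P : Ideal A) (hP : P ∈ associatedPrimes A A) :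
    ¬ Ideal.ofList l ≤ P := fun hle => by
  obtain ⟨hPp, z, hz⟩ := (isAssociatedPrime_iff (I := P) (M := A)).1 hP
  have hz' : ∀ a, a ∈ P ↔ a * z = 0 := fun a => by
    rw [hz, Submodule.mem_colon_singleton, Submodule.mem_bot, smul_eq_mul]
  have hmem : ∀ x ∈ l.map (algebraMap A (Localization.AtPrime P)),
      x ∈ maximalIdeal (Localization.AtPrime P) := by
    intro x hx
    obtain ⟨a, ha, rfl⟩ := List.mem_map.1 hx
    exact (IsLocalization.AtPrime.to_map_mem_maximal_iff _ P a).2 (hle (Ideal.subset_span ha))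
  have hw := Groth.ArtfunDeform.isWeaklyRegular_reverse_of_koszul _ hmem
    (Groth.KoszulLCI.isKoszulRegularSeq_localization P h)
  obtain ⟨b, t, hbt⟩ := List.exists_cons_of_ne_nil (List.reverse_ne_nil_iff.2 hl)
  rw [← List.map_reverse, hbt, List.map_cons] at hw
  have hb : b ∈ P := hle (Ideal.subset_span (List.mem_reverse.1 (hbt ▸ List.mem_cons_self)))
  have h0 : algebraMap A (Localization.AtPrime P) z = 0 :=
    (isWeaklyRegular_cons_iff _ _ _).1 hw |>.1 <| by
      simp only [smul_eq_mul, mul_zero, ← map_mul, (hz' b).1 hb, map_zero]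
  obtain ⟨⟨s, hs⟩, hsz⟩ := (IsLocalization.map_eq_zero_iff P.primeCompl _ z).1 h0
  exact hs ((hz' s).2 hsz)

/-- The ideal of a Koszul regular sequence in a Noetherian ring is generated by a weakly regular
sequence. -/
theorem exists_isWeaklyRegular_ofList_eq : ∀ (k : ℕ) {A : Type u} [CommRing A] [IsNoetherianRing A]
    (l : List A), l.length = k → LCI.IsKoszulRegularSeq A l →
    ∃ l' : List A, IsWeaklyRegular A l' ∧ Ideal.ofList l' = Ideal.ofList l := by
  intro k
  induction k with
  | zero =>
    intro A _ _ l hk _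
    exact ⟨[], IsWeaklyRegular.nil A A, by rw [List.length_eq_zero_iff.1 hk]⟩
  | succ k ih =>
    intro A _ _ l hk h
    obtain ⟨a, rest, rfl⟩ := List.exists_cons_of_length_eq_add_one hk
    obtain ⟨z, hz, hzS⟩ := Groth.FrobLCI.Vasconcelos.exists_add_notMem
      (S := {P ∈ associatedPrimes A A | ¬ Ideal.ofList rest ≤ P})
      ((associatedPrimes.finite A A).subset fun P hP => hP.1) (fun P hP => hP.1.1) a
      (Ideal.ofList rest) fun P hP => hP.2
    have hS : ∀ P ∈ associatedPrimes A A, a + z ∉ P := fun P hP hmem => by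
      by_cases hr : Ideal.ofList rest ≤ P
      · refine not_ofList_le_associatedPrime (a :: rest) (List.cons_ne_nil _ _) h P hP ?_
        rw [Ideal.ofList_cons, sup_le_iff, Ideal.span_singleton_le_iff_mem]
        exact ⟨(Ideal.add_mem_iff_left P (hr hz)).1 hmem, hr⟩
      · exact hzS P ⟨hP, hr⟩ hmem
    have hnzd : a + z ∈ nonZeroDivisors A := by
      by_contra hn
      have h1 : a + z ∈ ((nonZeroDivisors A : Submonoid A) : Set A)ᶜ := hn
      rw [← biUnion_associatedPrimes_eq_compl_nonZeroDivisors A] at h1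
      obtain ⟨P, hP, hmem⟩ := Set.mem_iUnion₂.1 h1
      exact hS P hP hmem
    set x := a + z with hx
    have heq : Ideal.ofList (x :: rest) = Ideal.ofList (a :: rest) := by
      rw [Ideal.ofList_cons, Ideal.ofList_cons]
      refine le_antisymm (sup_le ?_ le_sup_right) (sup_le ?_ le_sup_right) <;>
        rw [Ideal.span_singleton_le_iff_mem]
      · exact Submodule.add_mem_sup (Ideal.mem_span_singleton_self a) hz
      · rw [show a = x + -z by rw [hx]; ring]
        exact Submodule.add_mem_sup (Ideal.mem_span_singleton_self x) (neg_mem hz)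
    have hk' : LCI.IsKoszulRegularSeq A (x :: rest) :=
      (Groth.KoszulLCI.isKoszulRegularSeq_cons_congr rest
        (show x - a ∈ Ideal.ofList rest by rw [hx, add_sub_cancel_left]; exact hz)).2 h
    set π := Ideal.Quotient.mk (Ideal.span {x}) with hπ
    have hq : LCI.IsKoszulRegularSeq (A ⧸ Ideal.span {x}) (rest.map π) :=
      (Groth.KoszulLCI.isKoszulRegularSeq_append_iff [x] rest
        (Groth.KoszulLCI.isKoszulRegularSeq_singleton hnzd) π Ideal.Quotient.mk_surjective
        (by rw [Ideal.mk_ker, Ideal.ofList_singleton])).1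
        ((Groth.KoszulLCI.isKoszulRegularSeq_perm (List.perm_append_singleton x rest).symm).1 hk')
    obtain ⟨L', hL', hLeq⟩ := ih (rest.map π) (by simpa using hk) hq
    obtain ⟨L, rfl⟩ : ∃ L, L' = L.map π :=
      (List.map_surjective_iff.2 Ideal.Quotient.mk_surjective L').imp fun _ h => h.symm
    refine ⟨x :: L, IsWeaklyRegular.cons (isRegular_iff_mem_nonZeroDivisors.2 hnzd).left ?_, ?_⟩
    · refine (LinearEquiv.isWeaklyRegular_congr (Submodule.quotEquivOfEq _ _ ?_) _).2
        ((isWeaklyRegular_map_algebraMap_iff (A ⧸ Ideal.span {x}) (A ⧸ Ideal.span {x}) L).1 hL')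
      rw [← Submodule.ideal_span_singleton_smul, smul_eq_mul, Ideal.mul_top]
    · rw [← heq, Ideal.ofList_cons, Ideal.ofList_cons]
      rw [← Ideal.map_ofList, ← Ideal.map_ofList] at hLeq
      have := congrArg (Ideal.comap π) hLeq
      rw [Ideal.comap_map_of_surjective _ Ideal.Quotient.mk_surjective,
        Ideal.comap_map_of_surjective _ Ideal.Quotient.mk_surjective, ← RingHom.ker_eq_comap_bot,
        Ideal.mk_ker] at this
      rw [sup_comm, this, sup_comm]

/-- Locally, a syntomic algebra over a Noetherian ring is cut out by a regular sequence. -/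
theorem exists_regularSeq_nhd {A B : Type u} [CommRing A] [IsNoetherianRing A] [CommRing B]
    [Algebra A B] (h : Synt.IsSyntomic A B) (q : Ideal B) [q.IsPrime] :
    ∃ g : B, g ∉ q ∧ ∃ (n d : ℕ) (P : Fin d → MvPolynomial (Fin n) A),
      IsRegular (MvPolynomial (Fin n) A) (List.ofFn P) ∧
      Nonempty (Localization.Away g ≃ₐ[A] (MvPolynomial (Fin n) A ⧸ Ideal.ofList (List.ofFn P))) := by
  obtain ⟨t, ht, n, c, F, hF, ⟨e⟩⟩ := isLocRelGCI_of_isSyntomic h q inferInstance
  obtain ⟨l', hl', heq⟩ := exists_isWeaklyRegular_ofList_eq _ (List.ofFn F) rfl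
    (Groth.Calg5.RelGCI.isKoszulRegularSeq_of_isRelGCI hF)
  rw [Groth.Calg5.RelGCI.ofList_ofFn] at heq
  refine ⟨t, ht, n, l'.length, l'.get, ?_, ⟨e.symm.trans (Ideal.quotientEquivAlgOfEq A ?_)⟩⟩
  · rw [List.ofFn_get]
    refine ⟨hl', fun htop => ?_⟩
    rw [smul_eq_mul, Ideal.mul_top, heq] at htop
    have : Nontrivial (Localization.Away t) := not_subsingleton_iff_nontrivial.1 fun hs => by
      obtain ⟨m, hm⟩ := (IsLocalization.subsingleton_iff (S := Localization.Away t)
        (M := Submonoid.powers t)).1 hs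
      exact ht (Ideal.IsPrime.mem_of_pow_mem inferInstance m (by simp only at hm; rw [hm]; exact zero_mem q))
    have : Subsingleton (Synt.RelGCIRing A n c F) := Ideal.Quotient.subsingleton_iff.2 htop.symm
    exact not_subsingleton _ e.symm.toEquiv.subsingleton
  · rw [List.ofFn_get, heq]

end Groth.Syntomic
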