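import Groth.Agent.FibreDim.Smooth
import Groth.Agent.FibreDim.BaseChange
import Groth.Agent.EtaleAlgebra.SmoothTower
import Mathlib.AlgebraicGeometry.Morphisms.FormallyUnramified
import Mathlib.AlgebraicGeometry.Morphisms.FlatMono
import Mathlib

/-!
# Monomorphisms of smooth schemes preserving fibre dimensions are open immersions
-/

set_option autoImplicit false
set_option linter.style.haveILetI false

universe u

open AlgebraicGeometry CategoryTheory Limits TopologicalSpace

namespace Groth.Syntomic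

/-- The fibre dimension at a point of a standard smooth chart. -/
theorem fibreDimAt_of_isStandardSmooth {Y S : Scheme.{u}} (f : Y ⟶ S) {U : S.Opens}
    (hU : IsAffineOpen U) {V : Y.Opens} (hV : IsAffineOpen V) (e : V ≤ f ⁻¹ᵁ U) (n : ℕ)
    (hn : (f.appLE U V e).hom.IsStandardSmoothOfRelativeDimension n) (y : Y) (hy : y ∈ V) :
    FlatMor.fibreDimAt f y = n := by
  obtain ⟨q, rfl⟩ : y ∈ Set.range hV.fromSpec.base := hV.range_fromSpec.ge hy
  have : SmoothOfRelativeDimension n (Spec.map (f.appLE U V e)) :=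
    (HasRingHomProperty.Spec_iff (P := @SmoothOfRelativeDimension n)).2
      (RingHom.locally_of RingHom.isStandardSmoothOfRelativeDimension_respectsIso _ hn)
  rw [← Groth.FibreDim.fibreDimAt_openImmersion_comp hV.fromSpec f q,
    ← hU.SpecMap_appLE_fromSpec f hV e,
    Groth.FibreDim.fibreDimAt_comp_injective _ _ hU.fromSpec.isOpenEmbedding.injective,
    Groth.FibreDim.fibreDimAt_eq_of_smoothOfRelativeDimension n]

/-- An unramified map of standard smooth algebras of the same relative dimension is etale. -/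
theorem etale_of_formallyUnramified_standardSmooth (R A B : Type u) [CommRing R] [CommRing A]
    [CommRing B] [Algebra R A] [Algebra R B] [Algebra A B] [IsScalarTower R A B] (n : ℕ)
    [Nontrivial B] [Algebra.IsStandardSmoothOfRelativeDimension n R A]
    [Algebra.IsStandardSmoothOfRelativeDimension n R B] [Algebra.FormallyUnramified A B] :
    Algebra.Etale A B := by
  haveI : Algebra.IsStandardSmooth R A :=
    Algebra.IsStandardSmoothOfRelativeDimension.isStandardSmooth n
  haveI : Algebra.IsStandardSmooth R B :=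
    Algebra.IsStandardSmoothOfRelativeDimension.isStandardSmooth n
  have : Nontrivial A := RingHom.domain_nontrivial (algebraMap A B)
  have hsurj : Function.Surjective (KaehlerDifferential.mapBaseChange R A B) := fun x =>
    (KaehlerDifferential.exact_mapBaseChange_map R A B x).1 (Subsingleton.elim _ _)
  have hA : Module.finrank A Ω[A⁄R] = n := Module.finrank_eq_of_rank_eq
    (Algebra.IsStandardSmoothOfRelativeDimension.rank_kaehlerDifferential n)
  have hB : Module.finrank B Ω[B⁄R] = n := Module.finrank_eq_of_rank_eq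
    (Algebra.IsStandardSmoothOfRelativeDimension.rank_kaehlerDifferential n)
  have hBA : Module.finrank B (TensorProduct A B Ω[A⁄R]) = n :=
    (Module.finrank_baseChange).trans hA
  let e : Ω[B⁄R] ≃ₗ[B] TensorProduct A B Ω[A⁄R] :=
    LinearEquiv.ofFinrankEq _ _ (hB.trans hBA.symm)
  have hinj : Function.Injective (KaehlerDifferential.mapBaseChange R A B) := by
    have h1 := OrzechProperty.injective_of_surjective_endomorphism
      (e.toLinearMap ∘ₗ KaehlerDifferential.mapBaseChange R A B) (e.surjective.comp hsurj)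
    exact Function.Injective.of_comp h1
  have := (Groth.EtaleAlgebra.formallyEtale_iff_bijective R A B).2 ⟨hinj, hsurj⟩
  have : Algebra.FinitePresentation A B :=
    Algebra.FinitePresentation.of_restrict_scalars_finitePresentation R A B
  exact ⟨inferInstance, inferInstance⟩

/-- A monomorphism of smooth schemes over a base preserving the fibre dimensions is an open immersion. -/
theorem isOpenImmersion_of_mono_of_fibreDimAt_eq {X Y S : Scheme.{u}} (f : Y ⟶ S) (h : X ⟶ S)
    [Smooth f] [Smooth h] (g : X ⟶ Y) (w : g ≫ f = h) [Mono g]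
    (hd : ∀ x : X, FlatMor.fibreDimAt f (g.base x) = FlatMor.fibreDimAt h x) :
    IsOpenImmersion g := by
  have het : ∀ x : X, ∃ W : X.Opens, x ∈ W ∧ Etale (W.ι ≫ g) := by
    intro x
    obtain ⟨U, hU, V, hV, hgx, e, hsA⟩ := Smooth.exists_isStandardSmooth f (g x)
    obtain ⟨_, ⟨W₀, hW₀, rfl⟩, hxW₀, hWle⟩ :=
      X.isBasis_affineOpens.exists_subset_of_mem_open (show x ∈ g ⁻¹ᵁ V from hgx) (g ⁻¹ᵁ V).2
    have eW : W₀ ≤ h ⁻¹ᵁ U := fun z hz => by
      show h z ∈ U
      rw [← w, Scheme.Hom.comp_apply]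
      exact e (hWle hz)
    have hsm := HasRingHomProperty.appLE (P := @Smooth) h ‹_› ⟨U, hU⟩ ⟨W₀, hW₀⟩ eW
    letI := (h.appLE U W₀ eW).hom.toAlgebra
    haveI : Algebra.Smooth Γ(S, U) Γ(X, W₀) := hsm
    obtain ⟨s, hs, hstd⟩ := Algebra.Smooth.exists_span_eq_top_isStandardSmooth Γ(S, U) Γ(X, W₀)
    obtain ⟨t, hts, hxt⟩ : ∃ t ∈ s, x ∈ X.basicOpen t := by
      have hcov := (hW₀.iSup_basicOpen_eq_self_iff).2 hs
      have : x ∈ ⨆ i : s, X.basicOpen (i : Γ(X, W₀)) := hcov.ge hxW₀
      obtain ⟨⟨t, ht⟩, hxt⟩ := Opens.mem_iSup.1 this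
      exact ⟨t, ht, hxt⟩
    set W := X.basicOpen t
    have hW : IsAffineOpen W := hW₀.basicOpen t
    have hWV : W ≤ g ⁻¹ᵁ V := (X.basicOpen_le t).trans hWle
    have hWU : W ≤ h ⁻¹ᵁ U := (X.basicOpen_le t).trans eW
    letI := (f.appLE U V e).hom.toAlgebra
    letI := (h.appLE U W hWU).hom.toAlgebra
    letI := (g.appLE V W hWV).hom.toAlgebra
    haveI : IsScalarTower Γ(S, U) Γ(Y, V) Γ(X, W) := IsScalarTower.of_algebraMap_eq' (by
      show _ = ((f.appLE U V e) ≫ (g.appLE V W hWV)).hom
      rw [Scheme.Hom.appLE_comp_appLE]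
      simp only [w]
      rfl)
    letI := (X.presheaf.map (homOfLE (X.basicOpen_le t)).op).hom.toAlgebra
    haveI : IsScalarTower Γ(S, U) Γ(X, W₀) Γ(X, W) := IsScalarTower.of_algebraMap_eq' (by
      show _ = ((h.appLE U W₀ eW) ≫ X.presheaf.map _).hom
      rw [Scheme.Hom.appLE_map]
      rfl)
    haveI : IsLocalization.Away t Γ(X, W) := hW₀.isLocalization_basicOpen t
    haveI : Algebra.IsStandardSmooth Γ(S, U) Γ(Y, V) := hsA
    haveI : Algebra.IsStandardSmooth Γ(S, U) (Localization.Away t) := hstd t hts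
    haveI : Nonempty W := ⟨⟨x, hxt⟩⟩
    haveI : Nontrivial Γ(X, W) := inferInstance
    obtain ⟨ι₁, σ₁, _, _, ⟨P₁⟩⟩ := Algebra.IsStandardSmooth.out (R := Γ(S, U)) (S := Γ(Y, V))
    obtain ⟨ι₂, σ₂, _, _, ⟨P₂⟩⟩ := Algebra.IsStandardSmooth.out (R := Γ(S, U)) (S := Localization.Away t)
    haveI hA : Algebra.IsStandardSmoothOfRelativeDimension P₁.dimension Γ(S, U) Γ(Y, V) :=
      P₁.isStandardSmoothOfRelativeDimension rfl
    haveI hB : Algebra.IsStandardSmoothOfRelativeDimension P₂.dimension Γ(S, U) Γ(X, W) :=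
      (P₂.ofAlgEquiv ((IsLocalization.algEquiv (Submonoid.powers t) (Localization.Away t) Γ(X, W)).restrictScalars
        Γ(S, U))).isStandardSmoothOfRelativeDimension rfl
    have hdim : P₁.dimension = P₂.dimension := by
      have h1 := fibreDimAt_of_isStandardSmooth f hU hV e _ hA (g x) hgx
      have h2 := fibreDimAt_of_isStandardSmooth h hU hW hWU _ hB x hxt
      have h3 := h1.symm.trans ((hd x).trans h2)
      exact_mod_cast h3
    rw [← hdim] at hB
    haveI : Algebra.FormallyUnramified Γ(Y, V) Γ(X, W) :=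
      Scheme.Hom.formallyUnramified_appLE g hV hW hWV
    have hE := etale_of_formallyUnramified_standardSmooth Γ(S, U) Γ(Y, V) Γ(X, W) P₁.dimension
    refine ⟨W, hxt, ?_⟩
    have hSpec : Etale (Spec.map (g.appLE V W hWV)) :=
      (HasRingHomProperty.Spec_iff (P := @Etale)).2 hE
    have : Etale (hW.fromSpec ≫ g) := by
      rw [← hV.SpecMap_appLE_fromSpec g hW hWV]
      infer_instance
    rw [show W.ι = hW.isoSpec.hom ≫ hW.fromSpec by
      rw [← IsAffineOpen.isoSpec_inv_ι, Iso.hom_inv_id_assoc], Category.assoc]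
    infer_instance
  choose W hxW hW using het
  have : Etale g := (IsZariskiLocalAtSource.iff_of_openCover (P := @Etale)
    (X.openCoverOfIsOpenCover W (eq_top_iff.mpr fun x _ => Opens.mem_iSup.mpr ⟨x, hxW x⟩))).2 hW
  exact IsOpenImmersion.of_flat_of_mono g

/-- An open immersion preserves fibre dimensions. -/
theorem fibreDimAt_eq_of_isOpenImmersion {X Y S : Scheme.{u}} (f : Y ⟶ S) (g : X ⟶ Y)
    [IsOpenImmersion g] (x : X) : FlatMor.fibreDimAt f (g x) = FlatMor.fibreDimAt (g ≫ f) x :=
  (Groth.FibreDim.fibreDimAt_openImmersion_comp g f x).symm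

end Groth.Syntomic
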