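import Groth.Agent.Syntomic.QuasiSection
import Groth.Agent.KoszulLCI.FibrewiseRegular
import Groth.Agent.KoszulLCI.FlatOfH1Scheme
import Groth.Agent.KoszulLCI.SchemeBaseChange

/-!
# Quasi-regular sections and the smooth locus
-/

set_option autoImplicit false
set_option linter.style.haveILetI false

universe u

open CategoryTheory AlgebraicGeometry TopologicalSpace

namespace Groth.Syntomic.SectionScheme

variable {X S : Scheme.{u}} (f : X ⟶ S) [LocallyOfFinitePresentation f] (u : S ⟶ X) (hu : u ≫ f = 𝟙 S)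

include hu in
lemma isImmersion_restrict {T : Scheme.{u}} (j : T ⟶ S) [IsOpenImmersion j] : IsImmersion (j ≫ u) := by
  haveI : IsImmersion ((j ≫ u) ≫ f) := by rw [Category.assoc, hu, Category.comp_id]; infer_instance
  exact IsImmersion.of_comp _ f

include hu in
/-- Where the section lands in the smooth locus it is a quasi-regular immersion. -/
theorem isRegularImmersion_quasi_of_le {T : Scheme.{u}} (j : T ⟶ S) [IsOpenImmersion j]
    (hj : ∀ t, u.base (j.base t) ∈ f.smoothLocus) :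
    RegImm.IsRegularImmersion RegImm.Kind.quasi (j ≫ u) := by
  haveI := isImmersion_restrict f u hu j
  let W₁ := f.smoothLocus
  have hr : Set.range (j ≫ u) ⊆ Set.range W₁.ι := by
    rintro _ ⟨v, rfl⟩
    rw [Scheme.Opens.range_ι]
    exact hj v
  let i' := IsOpenImmersion.lift W₁.ι (j ≫ u) hr
  have hi' : i' ≫ W₁.ι = j ≫ u := IsOpenImmersion.lift_fac _ _ _
  haveI : Smooth (W₁.ι ≫ f) := by
    rw [← Scheme.Hom.smoothLocus_eq_top_iff, ← Scheme.Hom.preimage_smoothLocus_eq]
    exact top_le_iff.mp fun x _ => x.2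
  haveI : IsImmersion (i' ≫ W₁.ι) := hi' ▸ inferInstance
  haveI : IsImmersion i' := IsImmersion.of_comp i' W₁.ι
  have h1 : Groth.KoszulLCI.MorLCI (i' ≫ W₁.ι ≫ f) := by
    rw [← Category.assoc, hi', Category.assoc, hu, Category.comp_id]
    exact Groth.KoszulLCI.morLCI_of_smooth j
  have h2 := Groth.KoszulLCI.isRegularImmersion_of_morLCI i'
    (Groth.KoszulLCI.morLCI_of_comp_smooth i' (W₁.ι ≫ f) h1)
  have h3 : RegImm.IsRegularImmersion RegImm.Kind.koszul (j ≫ u) :=
    hi' ▸ Groth.KoszulLCI.isRegularImmersion_comp_openImmersion .koszul i' W₁.ι h2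
  refine ⟨h3.1, fun z => ?_⟩
  obtain ⟨U, hzU, hci, rs, hrs, hker⟩ := h3.2 z
  exact ⟨U, hzU, hci, rs, Groth.KoszulLCI.seq_quasi .koszul hrs, hker⟩

include hu in
/-- A quasi-regular section lands in the smooth locus. -/
theorem mem_smoothLocus_of_quasi {T : Scheme.{u}} (j : T ⟶ S) [IsOpenImmersion j] (t₀ : T) (s : S)
    (hs : j t₀ = s) (h : RegImm.IsRegularImmersionAt RegImm.Kind.quasi (j ≫ u) t₀) :
    u.base s ∈ f.smoothLocus := by
  have hfu : ∀ t : S, f (u t) = t := fun t => by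
    rw [← Scheme.Hom.comp_apply, hu]; rfl
  obtain ⟨U, W, e, hzU, hci, rs, hrs, hker⟩ := Groth.KoszulLCI.exists_chart f .quasi (j ≫ u) t₀ h
  have hzU' : u s ∈ U.1 := hs ▸ hzU
  have hsW : s ∈ W.1 := hfu s ▸ e hzU'
  obtain ⟨b, hb, hsb⟩ := W.2.exists_basicOpen_le ⟨s, show s ∈ u ⁻¹ᵁ U.1 ⊓ j.opensRange from ⟨hzU', t₀, hs⟩⟩ hsW
  let β := (f.appLE W.1 U.1 e).hom b
  have hβ : X.basicOpen β = U.1 ⊓ f ⁻¹ᵁ S.basicOpen b := Scheme.basicOpen_appLE f U.1 W.1 e b
  have hU' : IsAffineOpen (X.basicOpen β) := U.2.basicOpen β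
  have hW' : IsAffineOpen (S.basicOpen b) := W.2.basicOpen b
  have hpre : S.basicOpen b ≤ u ⁻¹ᵁ X.basicOpen β := fun t ht => by
    rw [hβ]
    exact ⟨(hb ht).1, show f (u t) ∈ S.basicOpen b by rw [hfu]; exact ht⟩
  have hpre' : u ⁻¹ᵁ X.basicOpen β ≤ S.basicOpen b := fun t ht => by
    rw [hβ] at ht
    have : f (u t) ∈ S.basicOpen b := ht.2
    rwa [hfu] at this
  have e' : X.basicOpen β ≤ f ⁻¹ᵁ S.basicOpen b := hβ ▸ inf_le_right
  letI := (f.appLE (S.basicOpen b) (X.basicOpen β) e').hom.toAlgebra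
  haveI : Algebra.FinitePresentation Γ(S, S.basicOpen b) Γ(X, X.basicOpen β) :=
    f.finitePresentation_appLE hW' hU' e'
  have hcomm : f.appLE (S.basicOpen b) (X.basicOpen β) e' ≫ u.appLE (X.basicOpen β) (S.basicOpen b) hpre =
      𝟙 _ := by
    rw [Scheme.Hom.appLE_comp_appLE]
    simp only [hu]
    rw [Scheme.Hom.appLE, Scheme.Hom.id_app]
    exact (Category.id_comp _).trans (S.presheaf.map_id _)
  let ε : Γ(X, X.basicOpen β) →ₐ[Γ(S, S.basicOpen b)] Γ(S, S.basicOpen b) :=
    { (u.appLE (X.basicOpen β) (S.basicOpen b) hpre).hom with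
      commutes' := fun r => congr($hcomm r) }
  let rs' := rs.map (X.presheaf.map (homOfLE (X.basicOpen_le β)).op).hom
  have hkerε : RingHom.ker ε = RingHom.ker ((j ≫ u).app (X.basicOpen β)).hom := by
    ext x
    have h1 : ((j ≫ u).app (X.basicOpen β)).hom x =
        (j.app (u ⁻¹ᵁ X.basicOpen β)).hom ((u.app (X.basicOpen β)).hom x) := rfl
    have h2 : ε x = (S.presheaf.map (homOfLE hpre).op).hom ((u.app (X.basicOpen β)).hom x) := rfl
    rw [RingHom.mem_ker, RingHom.mem_ker, h1, h2]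
    have hi1 : Function.Injective (S.presheaf.map (homOfLE hpre).op).hom := by
      haveI : IsIso (homOfLE hpre) := ⟨homOfLE hpre', Subsingleton.elim _ _, Subsingleton.elim _ _⟩
      exact (ConcreteCategory.bijective_of_isIso (S.presheaf.map (homOfLE hpre).op)).1
    haveI hIso : IsIso (j.app (u ⁻¹ᵁ X.basicOpen β)) := by
      exact j.isIso_app _ fun t ht => (hb (hpre' ht)).2
    rw [map_eq_zero_iff _ hi1]
    exact (map_eq_zero_iff _ (ConcreteCategory.bijective_of_isIso (j.app (u ⁻¹ᵁ X.basicOpen β))).1).symm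
  have hspan : RingHom.ker ε = Ideal.span (Set.range rs'.get) := by
    rw [hkerε, Groth.KoszulLCI.ker_app_basicOpen (j ≫ u) U.2 β, hker, Ideal.map_ofList]
    refine congrArg Ideal.span (Set.ext fun x => ?_)
    simp only [Set.mem_setOf_eq, Set.mem_range]
    exact List.mem_iff_get
  have hne : Ideal.ofList rs' ≠ ⊤ := by
    intro htop
    have h1 : RingHom.ker ε = ⊤ := by
      rw [hspan, ← htop]
      refine congrArg Ideal.span (Set.ext fun x => ?_)
      simp only [Set.mem_setOf_eq, Set.mem_range]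
      exact List.mem_iff_get.symm
    haveI : Nontrivial Γ(S, S.basicOpen b) := (S.presheaf.germ _ s hsb).hom.domain_nontrivial
    exact RingHom.ker_ne_top ε.toRingHom h1
  have hquasi : CAlgX.IsQuasiRegular rs'.get := by
    letI := (X.presheaf.map (homOfLE (X.basicOpen_le β)).op).hom.toAlgebra
    haveI := U.2.isLocalization_basicOpen β
    exact Groth.KoszulLCI.seq_map .quasi (algebraMap Γ(X, U.1) Γ(X, X.basicOpen β))
      (RingHom.flat_algebraMap_iff.mpr (IsLocalization.flat _ (Submonoid.powers β))) hrs hne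
  have hus : u s ∈ X.basicOpen β := hpre hsb
  have hq : RingHom.ker ε ≤ (hU'.primeIdealOf ⟨u s, hus⟩).asIdeal := by
    rw [hkerε]
    subst hs
    exact Groth.KoszulLCI.ker_app_le_primeIdealOf (j ≫ u) hU' t₀ hus
  rw [Scheme.Hom.mem_smoothLocus, formallySmooth_stalkMap_iff (S.basicOpen b) hW' (X.basicOpen β) hU' e' hus]
  exact Groth.Syntomic.QuasiSection.isSmoothAt_of_quasiRegular_section ε rs'.get hspan hquasi
    (hU'.primeIdealOf ⟨u s, hus⟩).asIdeal hq

end Groth.Syntomic.SectionScheme
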