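import Groth.Agent.Syntomic.CIFibre
import Groth.Agent.Syntomic.Scheme
import Groth.Agent.Calg4.RegularAscent
import Groth.Agent.Calg1.SerreConditions
import Groth.Agent.Ega4Algebra2.SkFlat
import Groth.Agent.Ega4Algebra2.CMUnmixed
import Groth.Agent.FlatMor2.NoethFibre
import Groth.Agent.S2086
import Groth.Agent.S9249

/-!
# Cohen–Macaulayness and Serre's conditions are syntomic local
-/

set_option autoImplicit false
set_option linter.style.haveILetI false

universe u

open AlgebraicGeometry CategoryTheory Limits IsLocalRing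

namespace Groth.Syntomic

open Groth.Ega4b (SkLoc)

/-- Complete intersections are Cohen–Macaulay. -/
theorem isCM_of_isCompleteIntersection {A : Type u} [CommRing A] [IsLocalRing A] [IsNoetherianRing A]
    (h : Pi1.IsCompleteIntersection A) : LocCoh.IsCohenMacaulayLocalRing A := by
  obtain ⟨C, _, _, rs, hmem, hreg, ⟨e⟩⟩ := h
  rw [Groth.Agent.S9249.result A]
  let I : Ideal C := Ideal.ofList rs
  have hI : I ≠ ⊤ := fun hh => (maximalIdeal.isMaximal C).ne_top
    (top_le_iff.mp (hh ▸ Ideal.span_le.mpr hmem))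
  have : Nontrivial (C ⧸ I) := Ideal.Quotient.nontrivial_iff.mpr hI
  have : IsLocalRing (C ⧸ I) := IsLocalRing.of_surjective' _ Ideal.Quotient.mk_surjective
  have h1 := Groth.Ega4b.isCM_quotient_ofList rs C
    (Groth.Calg6.isCohenMacaulayModule_of_isRegularLocalRing C) hmem hreg.toIsWeaklyRegular
  rw [Groth.Ega4b.isCM_congr (Submodule.quotEquivOfEq _ I (by rw [smul_eq_mul, Ideal.mul_top])),
    LocCoh.IsCohenMacaulayModule,
    Groth.Ega4b.depth_eq_of_surjective_algebraMap (A := C) (B := C ⧸ I) Ideal.Quotient.mk_surjective,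
    Module.supportDim_quotient_eq_ringKrullDim] at h1
  exact Groth.Ega4b.isCohenMacaulayLocalRing_of_ringEquiv e.symm
    ((Groth.Calg4.isCohenMacaulayLocalRing_iff_dim_eq (C ⧸ I)).mpr h1)

theorem skLoc_of_isCM {A : Type u} [CommRing A] (h : LocCoh.IsCohenMacaulayLocalRing A) (k : ℕ) :
    haveI := h.toIsLocalRing
    SkLoc k A := by
  haveI := h.toIsLocalRing
  haveI := h
  have : IsNoetherianRing A := inferInstance
  have h1 := (Groth.Calg4.isCohenMacaulayLocalRing_iff_dim_eq A).mp h
  exact (min_le_right _ _).trans h1.le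

theorem isCM_of_forall_skLoc {A : Type u} [CommRing A] [IsLocalRing A] [IsNoetherianRing A]
    (h : ∀ k, SkLoc k A) : LocCoh.IsCohenMacaulayLocalRing A := by
  rw [Groth.Calg4.isCohenMacaulayLocalRing_iff_dim_eq]
  refine le_antisymm ?_ (Groth.Calg4.depth_le_ringKrullDim A)
  obtain ⟨d, hd⟩ : ∃ d : ℕ, ringKrullDim A = d := by
    obtain ⟨d, hd⟩ := WithBot.ne_bot_iff_exists.1 (ringKrullDim_ne_bot (R := A))
    have hlt := ringKrullDim_lt_top (R := A)
    rw [← hd] at hlt
    obtain ⟨n, rfl⟩ := ENat.ne_top_iff_exists.1 (show d ≠ ⊤ from fun h' => by simp [h'] at hlt)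
    exact ⟨n, hd.symm.trans rfl⟩
  have := h d
  rwa [SkLoc, hd, min_self, ← hd] at this

section Ring

variable {A B : Type u} [CommRing A] [CommRing B] [Algebra A B]

/-- `(S_k)` ascends along syntomic maps. -/
theorem hasSk_of_isSyntomic [IsNoetherianRing A] (h : Synt.IsSyntomic A B) (k : ℕ)
    (hA : LocCoh.HasSk k A A) : LocCoh.HasSk k B B := by
  have := h.1
  have := h.2.1
  have : IsNoetherianRing B := Algebra.FiniteType.isNoetherianRing A B
  refine Groth.Agent.S2086.result k hA fun p _ => ?_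
  rw [Groth.Ega4b.hasSk_fiber_iff]
  intro r _ _
  letI := Groth.Ega4b.fibLocRing_isLocalRing A B r
  exact skLoc_of_isCM (isCM_of_isCompleteIntersection ((isSyntomic_iff_fibresCI.mp h).2.2 r)) k

/-- `(S_k)` descends along flat maps at the primes in the image. -/
theorem skLoc_atPrime_of_flat [IsNoetherianRing A] [IsNoetherianRing B] [Module.Flat A B] (k : ℕ)
    (hB : LocCoh.HasSk k B B) (r : Ideal B) [r.IsPrime] (p : Ideal A) [p.IsPrime]
    (hrp : r.comap (algebraMap A B) = p) : SkLoc k (Localization.AtPrime p) := by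
  obtain ⟨Q, hQ, hQr⟩ := Ideal.exists_minimalPrimes_le
    (show p.map (algebraMap A B) ≤ r from Ideal.map_le_iff_le_comap.mpr hrp.ge)
  have hQp : Q.IsPrime := hQ.1.1
  have hcomap : Q.comap (algebraMap A B) = p :=
    le_antisymm ((Ideal.comap_mono hQr).trans hrp.le) (Ideal.map_le_iff_le_comap.mp hQ.1.2)
  let θ : Localization.AtPrime p →+* Localization.AtPrime Q :=
    Localization.localRingHom p Q (algebraMap A B) hcomap.symm
  letI := θ.toAlgebra
  have : IsScalarTower A (Localization.AtPrime p) (Localization.AtPrime Q) :=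
    IsScalarTower.of_algebraMap_eq fun a => by
      rw [RingHom.algebraMap_toAlgebra, Localization.localRingHom_to_map]
      exact IsScalarTower.algebraMap_apply A B _ a
  have : Module.Flat A (Localization.AtPrime Q) := Module.Flat.trans A B _
  have : Module.Flat (Localization.AtPrime p) (Localization.AtPrime Q) :=
    (Module.flat_iff_of_isLocalization (Localization.AtPrime p) p.primeCompl _).mpr inferInstance
  have : IsLocalHom (algebraMap (Localization.AtPrime p) (Localization.AtPrime Q)) :=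
    Localization.isLocalHom_localRingHom p Q (algebraMap A B) hcomap.symm
  let J := (maximalIdeal (Localization.AtPrime p)).map
    (algebraMap (Localization.AtPrime p) (Localization.AtPrime Q))
  have hJ : J = (p.map (algebraMap A B)).map (algebraMap B (Localization.AtPrime Q)) := by
    simp only [J]
    rw [← Localization.AtPrime.map_eq_maximalIdeal, Ideal.map_map, Ideal.map_map,
      ← IsScalarTower.algebraMap_eq, ← IsScalarTower.algebraMap_eq]
  have hrad : ∀ P : Ideal (Localization.AtPrime Q), P.IsPrime → J ≤ P → P = maximalIdeal _ := fun P hP hJP => by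
    have h1 : P.comap (algebraMap B (Localization.AtPrime Q)) ≤ Q := fun b hb => by
      by_contra hbQ
      exact hP.ne_top (Ideal.eq_top_of_isUnit_mem _ hb
        (IsLocalization.map_units (Localization.AtPrime Q) (⟨b, hbQ⟩ : Q.primeCompl)))
    have h2 : Q ≤ P.comap (algebraMap B (Localization.AtPrime Q)) :=
      hQ.2 ⟨Ideal.IsPrime.comap _, Ideal.map_le_iff_le_comap.mp (hJ ▸ hJP)⟩ h1
    refine le_antisymm (IsLocalRing.le_maximalIdeal hP.ne_top) ?_
    rw [← Localization.AtPrime.map_eq_maximalIdeal, Ideal.map_le_iff_le_comap]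
    exact h2
  have hle : J ≤ maximalIdeal _ :=
    ((local_hom_TFAE (algebraMap (Localization.AtPrime p) (Localization.AtPrime Q))).out 0 2 rfl rfl).mp inferInstance
  have : Nontrivial (Localization.AtPrime Q ⧸ J) :=
    Ideal.Quotient.nontrivial_iff.mpr (ne_top_of_le_ne_top (maximalIdeal.isMaximal _).ne_top hle)
  have : IsLocalRing (Localization.AtPrime Q ⧸ J) := IsLocalRing.of_surjective' _ Ideal.Quotient.mk_surjective
  have : Ring.KrullDimLE 0 (Localization.AtPrime Q ⧸ J) := Ring.KrullDimLE.mk₀ fun P hP => by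
    have h3 := hrad _ (Ideal.IsPrime.comap (Ideal.Quotient.mk J)) fun x hx => by
      rw [Ideal.mem_comap, Ideal.Quotient.eq_zero_iff_mem.mpr hx]; exact P.zero_mem
    have : (P.comap (Ideal.Quotient.mk J)).IsMaximal := h3 ▸ maximalIdeal.isMaximal _
    exact Ideal.map_comap_of_surjective (Ideal.Quotient.mk J) Ideal.Quotient.mk_surjective P ▸
      (Ideal.map_eq_top_or_isMaximal_of_surjective _ Ideal.Quotient.mk_surjective this).resolve_left
        fun h4 => hP.ne_top (Ideal.map_comap_of_surjective (Ideal.Quotient.mk J) Ideal.Quotient.mk_surjective P ▸ h4)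
  have hdimF : ringKrullDim (Localization.AtPrime Q ⧸ J) = 0 :=
    le_antisymm (Ring.krullDimLE_iff.mp ‹_›) ringKrullDim_nonneg_of_nontrivial
  have hdepF : LocCoh.depth (Localization.AtPrime Q ⧸ J) (Localization.AtPrime Q ⧸ J) = 0 := by
    have := Groth.Calg4.depth_le_ringKrullDim (Localization.AtPrime Q ⧸ J)
    rw [hdimF] at this
    exact le_antisymm (WithBot.coe_le_coe.mp this) bot_le
  have hQk := (Groth.Ega4b.hasSk_self_iff k B).mp hB Q
  rw [SkLoc, Groth.Calg4.ringKrullDim_eq_add_of_flat (Localization.AtPrime p) (Localization.AtPrime Q),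
    Groth.Ega4b.depth_eq_add_of_flat (Localization.AtPrime p) (Localization.AtPrime Q), hdimF, hdepF,
    add_zero, add_zero] at hQk
  exact hQk

end Ring

section Scheme

variable {X S : Scheme.{u}}

/-- `(S_k)` on an affine open, by the local rings. -/
theorem hasSk_affine_iff {V : S.Opens} (hV : IsAffineOpen V) (k : ℕ) :
    LocCoh.HasSk k Γ(S, V) Γ(S, V) ↔ ∀ s ∈ V, SkLoc k (S.presheaf.stalk s) := by
  rw [Groth.Ega4b.hasSk_self_iff]
  constructor
  · intro h s hs
    let := TopCat.Presheaf.algebra_section_stalk S.presheaf (⟨s, hs⟩ : V)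
    have := hV.isLocalization_stalk ⟨s, hs⟩
    let e : Localization.AtPrime (hV.primeIdealOf ⟨s, hs⟩).asIdeal ≃+* S.presheaf.stalk s :=
      (IsLocalization.algEquiv (hV.primeIdealOf ⟨s, hs⟩).asIdeal.primeCompl _ _).toRingEquiv
    exact (Groth.Ega4b.skLoc_of_ringEquiv e).mp (h _)
  · intro h Q _
    let y : PrimeSpectrum Γ(S, V) := ⟨Q, inferInstance⟩
    have hy : hV.fromSpec y ∈ V := hV.range_fromSpec.le ⟨y, rfl⟩
    let alg : Algebra Γ(S, V) (S.presheaf.stalk (hV.fromSpec y)) :=
      TopCat.Presheaf.algebra_section_stalk S.presheaf (⟨hV.fromSpec y, hy⟩ : V)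
    have : IsLocalization y.asIdeal.primeCompl (S.presheaf.stalk (hV.fromSpec y)) :=
      hV.isLocalization_stalk' y hy
    let e : Localization.AtPrime y.asIdeal ≃+* S.presheaf.stalk (hV.fromSpec y) :=
      (IsLocalization.algEquiv y.asIdeal.primeCompl _ _).toRingEquiv
    exact (Groth.Ega4b.skLoc_of_ringEquiv e).mpr (h _ hy)

/-- `(S_k)` of all local rings, by the inequalities at all points. -/
theorem hasSk_stalks_iff [IsLocallyNoetherian S] (k : ℕ) :
    (∀ s : S, LocCoh.HasSk k (S.presheaf.stalk s) (S.presheaf.stalk s)) ↔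
      ∀ s : S, SkLoc k (S.presheaf.stalk s) := by
  constructor
  · intro h s
    have h1 := (Groth.Ega4b.hasSk_self_iff k _).mp (h s) (maximalIdeal (S.presheaf.stalk s))
    let e : S.presheaf.stalk s ≃+* Localization.AtPrime (maximalIdeal (S.presheaf.stalk s)) :=
      (IsLocalization.atUnits (S.presheaf.stalk s) (maximalIdeal (S.presheaf.stalk s)).primeCompl
        (fun x hx => IsLocalRing.notMem_maximalIdeal.mp hx)).toRingEquiv
    exact (Groth.Ega4b.skLoc_of_ringEquiv e).mpr h1
  · intro h s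
    obtain ⟨V, hV, hs, -⟩ := exists_isAffineOpen_mem_and_subset (x := s) (U := ⊤) trivial
    have : IsNoetherianRing Γ(S, V) := IsLocallyNoetherian.component_noetherian ⟨V, hV⟩
    have h1 := (hasSk_affine_iff hV k).mpr fun t _ => h t
    let := TopCat.Presheaf.algebra_section_stalk S.presheaf (⟨s, hs⟩ : V)
    have := hV.isLocalization_stalk ⟨s, hs⟩
    have h2 := Groth.Calg1.hasSk_atPrime h1 (hV.primeIdealOf ⟨s, hs⟩).asIdeal
    let e : Localization.AtPrime (hV.primeIdealOf ⟨s, hs⟩).asIdeal ≃+* S.presheaf.stalk s :=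
      (IsLocalization.algEquiv (hV.primeIdealOf ⟨s, hs⟩).asIdeal.primeCompl _ _).toRingEquiv
    rw [Groth.Ega4b.hasSk_self_iff] at h2 ⊢
    intro Q _
    exact (Groth.Ega4b.skLoc_of_ringEquiv (IsLocalization.ringEquivOfRingEquiv
      (M := (Q.comap e.toRingHom).primeCompl) (T := Q.primeCompl)
      (Localization.AtPrime (Q.comap e.toRingHom)) (Localization.AtPrime Q) e
      (by
        ext z
        constructor
        · rintro ⟨w, hw, rfl⟩
          exact hw
        · intro hz
          exact ⟨e.symm z, fun h' => hz (by simpa using h'), e.apply_symm_apply z⟩))).mp (h2 _)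

variable (f : X ⟶ S)

/-- `(S_k)` ascends along syntomic morphisms. -/
theorem skLoc_of_isSyntomicMor [IsLocallyNoetherian S] (hf : Synt.IsSyntomicMor f) (k : ℕ)
    (h : ∀ s : S, SkLoc k (S.presheaf.stalk s)) (x : X) : SkLoc k (X.presheaf.stalk x) := by
  obtain ⟨U, V, e, hx, hs⟩ := hf x
  letI := (f.appLE V.1 U.1 e).hom.toAlgebra
  have : IsNoetherianRing Γ(S, V.1) := IsLocallyNoetherian.component_noetherian V
  exact (hasSk_affine_iff U.2 k).mp
    (hasSk_of_isSyntomic hs k ((hasSk_affine_iff V.2 k).mpr fun t _ => h t)) x hx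

/-- `(S_k)` descends along flat morphisms. -/
theorem skLoc_of_flat [Flat f] [IsLocallyNoetherian X] [IsLocallyNoetherian S] (k : ℕ)
    (h : ∀ x : X, SkLoc k (X.presheaf.stalk x)) (x : X) : SkLoc k (S.presheaf.stalk (f x)) := by
  obtain ⟨V, hV, hfx, -⟩ := exists_isAffineOpen_mem_and_subset (x := f x) (U := ⊤) trivial
  obtain ⟨U, hU, hxU, hUV⟩ := exists_isAffineOpen_mem_and_subset (x := x) (U := f ⁻¹ᵁ V) hfx
  letI := (f.appLE V U hUV).hom.toAlgebra
  have : IsNoetherianRing Γ(S, V) := IsLocallyNoetherian.component_noetherian ⟨V, hV⟩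
  have : IsNoetherianRing Γ(X, U) := IsLocallyNoetherian.component_noetherian ⟨U, hU⟩
  have : Module.Flat Γ(S, V) Γ(X, U) :=
    HasRingHomProperty.appLE (P := @Flat) f ‹_› ⟨V, hV⟩ ⟨U, hU⟩ hUV
  have h1 := skLoc_atPrime_of_flat k ((hasSk_affine_iff hU k).mpr fun y _ => h y)
    (hU.primeIdealOf ⟨x, hxU⟩).asIdeal (hV.primeIdealOf ⟨f x, hUV hxU⟩).asIdeal
    (congrArg PrimeSpectrum.asIdeal (IsAffineOpen.comap_primeIdealOf_appLE V hV U hU hUV hxU))
  let := TopCat.Presheaf.algebra_section_stalk S.presheaf (⟨f x, hUV hxU⟩ : V)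
  have := hV.isLocalization_stalk ⟨f x, hUV hxU⟩
  let e : Localization.AtPrime (hV.primeIdealOf ⟨f x, hUV hxU⟩).asIdeal ≃+* S.presheaf.stalk (f x) :=
    (IsLocalization.algEquiv (hV.primeIdealOf ⟨f x, hUV hxU⟩).asIdeal.primeCompl _ _).toRingEquiv
  exact (Groth.Ega4b.skLoc_of_ringEquiv e).mp h1

/-- Local Noetherianity descends along jointly surjective syntomic families. -/
theorem isLocallyNoetherian_of_family {ι : Type u} {X : ι → Scheme.{u}} (f : ∀ i, X i ⟶ S)
    (hsurj : ∀ s : S, ∃ i, s ∈ Set.range (f i).base) (hsyn : ∀ i, Synt.IsSyntomicMor (f i))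
    (hN : ∀ i, IsLocallyNoetherian (X i)) : IsLocallyNoetherian S := by
  have h1 : ∀ i, Flat (f i) := fun i => flat_of_isSyntomicMor (hsyn i)
  have h2 : ∀ i, LocallyOfFinitePresentation (f i) := fun i =>
    locallyOfFinitePresentation_of_isSyntomicMor (hsyn i)
  let W : ι → S.Opens := fun i => ⟨Set.range (f i), (f i).isOpenMap.isOpen_range⟩
  let cv := S.openCoverOfIsOpenCover W (eq_top_iff.mpr fun s _ =>
    TopologicalSpace.Opens.mem_iSup.mpr (hsurj s))
  rw [isLocallyNoetherian_iff_openCover cv]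
  intro (i : ι)
  let g : X i ⟶ (W i : Scheme.{u}) := IsOpenImmersion.lift (W i).ι (f i) (by rw [Scheme.Opens.range_ι]; rfl)
  have hg : g ≫ (W i).ι = f i := IsOpenImmersion.lift_fac _ _ _
  have hsq : IsPullback (𝟙 _) g (f i) (W i).ι := IsPullback.of_horiz_isIso_mono ⟨by rw [Category.id_comp, hg]⟩
  have : Flat g := MorphismProperty.of_isPullback hsq (h1 i)
  have : LocallyOfFinitePresentation g := MorphismProperty.of_isPullback hsq (h2 i)
  have : Surjective g := ⟨fun w => by
    obtain ⟨y, hy⟩ := w.2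
    refine ⟨y, (W i).ι.isOpenEmbedding.injective ?_⟩
    rw [← Scheme.Hom.comp_apply, hg]
    exact hy⟩
  show IsLocallyNoetherian (W i : Scheme.{u})
  exact Groth.FlatMor2.isLocallyNoetherian_of_flat_surjective g

/-- Serre's conditions are syntomic local. -/
theorem skLocal_iff {ι : Type u} {X : ι → Scheme.{u}} (f : ∀ i, X i ⟶ S)
    (hsurj : ∀ s : S, ∃ i, s ∈ Set.range (f i).base) (hsyn : ∀ i, Synt.IsSyntomicMor (f i))
    (K : Set ℕ) :
    (IsLocallyNoetherian S ∧ ∀ k ∈ K, ∀ s : S, SkLoc k (S.presheaf.stalk s)) ↔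
      ∀ i, IsLocallyNoetherian (X i) ∧ ∀ k ∈ K, ∀ x : X i, SkLoc k ((X i).presheaf.stalk x) := by
  constructor
  · rintro ⟨hS, h⟩ i
    have := locallyOfFinitePresentation_of_isSyntomicMor (hsyn i)
    exact ⟨LocallyOfFiniteType.isLocallyNoetherian (f i), fun k hk x =>
      skLoc_of_isSyntomicMor (f i) (hsyn i) k (h k hk) x⟩
  · intro h
    have hS := isLocallyNoetherian_of_family f hsurj hsyn fun i => (h i).1
    refine ⟨hS, fun k hk s => ?_⟩
    obtain ⟨i, x, rfl⟩ := hsurj s
    have := (h i).1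
    have := flat_of_isSyntomicMor (hsyn i)
    exact skLoc_of_flat (f i) k ((h i).2 k hk) x

/-- Cohen–Macaulay at every point, by Serre's inequalities. -/
theorem forall_isCM_iff [IsLocallyNoetherian S] :
    (∀ s : S, LocCoh.IsCohenMacaulayLocalRing (S.presheaf.stalk s)) ↔
      ∀ k ∈ (Set.univ : Set ℕ), ∀ s : S, SkLoc k (S.presheaf.stalk s) :=
  ⟨fun h k _ s => skLoc_of_isCM (h s) k, fun h s => isCM_of_forall_skLoc fun k => h k trivial s⟩

end Scheme

end Groth.Syntomic
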