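import Groth.Agent.Syntomic.CIField

/-!
# Local rings essentially of finite type over a field, by presentations
-/

set_option autoImplicit false

universe u

open IsLocalRing

namespace Groth.Syntomic

variable (k : Type u) [Field k]

/-- A local algebra essentially of finite type is the local ring of a finite type algebra at a prime. -/
theorem exists_atPrime_equiv (S : Type u) [CommRing S] [IsLocalRing S] [Algebra k S]
    [Algebra.EssFiniteType k S] : ∃ (T : Type u) (_ : CommRing T) (_ : Algebra k T) (Q : Ideal T)
      (_ : Q.IsPrime), Algebra.FiniteType k T ∧ Nonempty (Localization.AtPrime Q ≃ₐ[k] S) := by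
  let T₀ := Algebra.EssFiniteType.subalgebra k S
  let Q : Ideal T₀ := (maximalIdeal S).comap (algebraMap T₀ S)
  have hQ : Algebra.EssFiniteType.submonoid k S = Q.primeCompl := by
    ext x
    exact (IsLocalRing.notMem_maximalIdeal (x := algebraMap T₀ S x)).symm
  have hl : IsLocalization Q.primeCompl S := hQ ▸ Algebra.EssFiniteType.isLocalization (R := k) (S := S)
  exact ⟨T₀, inferInstance, inferInstance, Q, inferInstance, inferInstance,
    ⟨(IsLocalization.algEquiv Q.primeCompl (Localization.AtPrime Q) S).restrictScalars k⟩⟩

/-- Presentations by regular local rings essentially of finite type. -/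
theorem exists_regular_presentation (S : Type u) [CommRing S] [IsLocalRing S] [Algebra k S]
    [Algebra.EssFiniteType k S] : ∃ (R : Type u) (_ : CommRing R) (_ : IsRegularLocalRing R)
      (_ : Algebra k R), Algebra.EssFiniteType k R ∧ ∃ π : R →ₐ[k] S, Function.Surjective π := by
  obtain ⟨T, _, _, Q, _, hT, ⟨e⟩⟩ := exists_atPrime_equiv k S
  obtain ⟨n, φ, hφ⟩ := Algebra.FiniteType.iff_quotient_mvPolynomial''.mp hT
  exact ⟨Localization.AtPrime (Q.comap φ.toRingHom), inferInstance, inferInstance, inferInstance,
    Algebra.EssFiniteType.comp k (MvPolynomial (Fin n) k) _,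
    e.toAlgHom.comp (Localization.localAlgHom _ Q φ rfl),
    e.surjective.comp (Groth.KoszulLCI.surjective_localRingHom φ.toRingHom hφ Q)⟩

/-- The local rings of a basic open. -/
theorem exists_atPrime_away_equiv {T : Type u} [CommRing T] [Algebra k T] (Q : Ideal T) [Q.IsPrime]
    {g : T} (hg : g ∉ Q) : ∃ (a : Ideal (Localization.Away g)) (_ : a.IsPrime),
      Nonempty (Localization.AtPrime Q ≃ₐ[k] Localization.AtPrime a) := by
  have hdisj : Disjoint (Submonoid.powers g : Set T) Q := by
    rw [Set.disjoint_left]
    rintro _ ⟨j, rfl⟩ hj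
    exact hg (‹Q.IsPrime›.mem_of_pow_mem j hj)
  let a := Q.map (algebraMap T (Localization.Away g))
  have ha : a.IsPrime := IsLocalization.isPrime_of_isPrime_disjoint _ _ Q ‹_› hdisj
  have hac : a.comap (algebraMap T (Localization.Away g)) = Q :=
    IsLocalization.under_map_of_isPrime_disjoint _ _ ‹_› hdisj
  have hloc : IsLocalization.AtPrime (Localization.AtPrime a) (a.comap (algebraMap T (Localization.Away g))) :=
    IsLocalization.isLocalization_isLocalization_atPrime_isLocalization (Submonoid.powers g) _ a
  have hcq : (a.comap (algebraMap T (Localization.Away g))).primeCompl = Q.primeCompl := by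
    ext x; exact not_congr (by rw [hac])
  have : IsLocalization Q.primeCompl (Localization.AtPrime a) := hcq ▸ hloc
  exact ⟨a, ha, ⟨(IsLocalization.algEquiv Q.primeCompl (Localization.AtPrime Q)
    (Localization.AtPrime a)).restrictScalars k⟩⟩

end Groth.Syntomic
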