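import Groth.Agent.Syntomic.FredSquare
import Groth.Agent.Ega41Rank.Rigid
import Groth.Agent.Ega41Sep.Separable
import Mathlib

/-!
# Kernels and cokernels of the cotangent comparison maps of a square of fields
-/

set_option autoImplicit false

universe u v

open TensorProduct KaehlerDifferential

namespace Groth.Syntomic.CotangentSquare

open Groth.Ega41Rank

/-- A prime field over which all fields are formally smooth. -/
theorem exists_base (k : Type u) [Field k] :
    ∃ (F : Type u) (_ : Field F) (_ : Algebra F k),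
      ∀ (K : Type u) [Field K] [Algebra F K], Algebra.FormallySmooth F K := by
  obtain h | ⟨p, hp, hpk⟩ := CharP.exists' k
  · letI : Algebra (ULift.{u} ℚ) k := ((algebraMap ℚ k).comp ULift.ringEquiv.toRingHom).toAlgebra
    haveI : CharZero (ULift.{u} ℚ) := charZero_of_injective_ringHom
      (f := (ULift.ringEquiv.symm.toRingHom : ℚ →+* ULift.{u} ℚ)) (RingEquiv.injective _)
    refine ⟨ULift.{u} ℚ, inferInstance, inferInstance, fun K _ _ => ?_⟩
    haveI : CharZero K := charZero_of_injective_algebraMap (algebraMap (ULift.{u} ℚ) K).injective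
    exact Groth.Ega41Sep.formallySmooth_charZero _ K
  · haveI := hp
    letI := Groth.Ega41Sep.zmodUAlgebra p k
    refine ⟨Groth.Ega41Sep.ZModU.{u} p, inferInstance, inferInstance, fun K _ _ => ?_⟩
    haveI : CharP (Groth.Ega41Sep.ZModU.{u} p) p := charP_of_injective_ringHom
      (f := (ULift.ringEquiv.symm.toRingHom : ZMod p →+* Groth.Ega41Sep.ZModU.{u} p)) (RingEquiv.injective _) p
    haveI : CharP K p := charP_of_injective_algebraMap (algebraMap (Groth.Ega41Sep.ZModU.{u} p) K).injective p
    exact Groth.Ega41Sep.formallySmooth_zmodU p K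

section Base

variable (F : Type u) [Field F] (hFS : ∀ (K : Type u) [Field K] [Algebra F K], Algebra.FormallySmooth F K)
include hFS

theorem rigid_base (M : Type u) [Field M] [Algebra F M] : Rigid F M := by
  intro K _ _ _ _ _ _ _ hs
  haveI := hFS K
  haveI := hFS M
  haveI : Algebra.FormallySmooth F (Polynomial K) := Algebra.FormallySmooth.comp F K (Polynomial K)
  exact kerCotangentToTensor_ne_zero (F := F) hs

theorem index_base (K L : Type u) [Field K] [Field L] [Algebra F K] [Algebra F L] [Algebra K L]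
    [IsScalarTower F K L] [Algebra.EssFiniteType K L] :
    IsFred (mapBaseChange F K L) ∧ (mapBaseChange F K L).index = -(Cardinal.toNat (Algebra.trdeg K L) : ℤ) := by
  obtain ⟨h, d, hd, -, he⟩ := index_essFiniteType F K L
  refine ⟨h, ?_⟩
  rw [he (fun M _ _ _ _ => rigid_base F hFS M), hd, Cardinal.toNat_natCast]

theorem δ_injective (K L : Type u) [Field K] [Field L] [Algebra F K] [Algebra F L] [Algebra K L]
    [IsScalarTower F K L] : Function.Injective (Algebra.H1Cotangent.δ F K L) := by
  haveI := hFS L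
  rw [injective_iff_map_eq_zero]
  intro x hx
  obtain ⟨y, rfl⟩ := (Algebra.H1Cotangent.exact_map_δ F K L x).mp hx
  rw [Subsingleton.elim y 0, map_zero]

end Base

section Natural

variable (F : Type*) (k k' K K' : Type u) [CommRing F] [CommRing k] [CommRing k'] [CommRing K] [CommRing K']
  [Algebra F k] [Algebra F k'] [Algebra F K] [Algebra F K'] [Algebra k k'] [Algebra k K] [Algebra k K']
  [Algebra k' K'] [Algebra K K'] [IsScalarTower F k k'] [IsScalarTower F k K] [IsScalarTower F k' K']
  [IsScalarTower k k' K'] [IsScalarTower k K K']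

/-- `K ⊗_k Ω_{k/F} → K' ⊗_{k'} Ω_{k'/F}`. -/
noncomputable def ι : K ⊗[k] Ω[k⁄F] →ₗ[K] K' ⊗[k'] Ω[k'⁄F] :=
  (((TensorProduct.mk k' K' Ω[k'⁄F] 1).restrictScalars k) ∘ₗ KaehlerDifferential.map F F k k').liftBaseChange K

theorem ι_tmul (a : K) (ω : Ω[k⁄F]) :
    ι F k k' K K' (a ⊗ₜ ω) = a • ((1 : K') ⊗ₜ[k'] KaehlerDifferential.map F F k k' ω) := rfl

/-- Naturality of the connecting map of the Jacobi–Zariski sequence. -/
theorem δ_natural (x : Algebra.H1Cotangent k K) :
    Algebra.H1Cotangent.δ F k' K' (Algebra.H1Cotangent.map k k' K K' x) =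
      ι F k k' K K' (Algebra.H1Cotangent.δ F k K x) := by
  let QL := Algebra.Generators.self k K
  let QM := Algebra.Generators.self k' K'
  let f : QL.Hom QM := Algebra.Generators.defaultHom QL QM
  have key : ∀ p : QL.Ring, Algebra.Generators.H1Cotangent.δAux F QM (f.toAlgHom p) =
      ι F k k' K K' (Algebra.Generators.H1Cotangent.δAux F QL p) := by
    intro p
    induction p using MvPolynomial.induction_on with
    | C s =>
      rw [Algebra.Generators.Hom.toAlgHom_C, Algebra.Generators.H1Cotangent.δAux_C,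
        Algebra.Generators.H1Cotangent.δAux_C, ι_tmul, one_smul, KaehlerDifferential.map_D]
    | add p q hp hq => simp only [map_add, hp, hq]
    | mul_X p i hp =>
      rw [map_mul, Algebra.Generators.Hom.toAlgHom_X, Algebra.Generators.H1Cotangent.δAux_mul,
        Algebra.Generators.H1Cotangent.δAux_mul, hp, map_add]
      have h0 : Algebra.Generators.H1Cotangent.δAux F QM (f.val i) = 0 := Algebra.Generators.H1Cotangent.δAux_X (R := F) QM _
      rw [h0, Algebra.Generators.H1Cotangent.δAux_X, smul_zero, smul_zero, map_zero, zero_add, zero_add,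
        ← IsScalarTower.algebraMap_smul K' (f.val i) (ι F k k' K K' (Algebra.Generators.H1Cotangent.δAux F QL p)),
        ← IsScalarTower.algebraMap_smul (R := QL.Ring) K (MvPolynomial.X i) (Algebra.Generators.H1Cotangent.δAux F QL p), map_smul,
        Algebra.Generators.algebraMap_apply, Algebra.Generators.algebraMap_apply,
        Algebra.Generators.Hom.aeval_val, MvPolynomial.aeval_X, IsScalarTower.algebraMap_smul]
  obtain ⟨x, hx⟩ := x
  obtain ⟨⟨y, hy⟩, rfl⟩ := Algebra.Extension.Cotangent.mk_surjective x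
  change Algebra.Generators.H1Cotangent.δ QM (Algebra.Generators.self F k')
      (Algebra.Extension.H1Cotangent.map f.toExtensionHom ⟨Algebra.Extension.Cotangent.mk ⟨y, hy⟩, hx⟩) =
    ι F k k' K K' (Algebra.Generators.H1Cotangent.δ QL (Algebra.Generators.self F k)
      ⟨Algebra.Extension.Cotangent.mk ⟨y, hy⟩, hx⟩)
  change Algebra.Generators.H1Cotangent.δ _ _ ⟨_, _⟩ = _
  simp only [LinearMap.domRestrict_apply, Algebra.Extension.Cotangent.map_mk,
    Algebra.Generators.H1Cotangent.δ_eq_δAux]
  exact key y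

end Natural

theorem isFred_conj {L A B C D : Type*} [Field L] [AddCommGroup A] [Module L A] [AddCommGroup B] [Module L B]
    [AddCommGroup C] [Module L C] [AddCommGroup D] [Module L D] {f : A →ₗ[L] B} {g : C →ₗ[L] D}
    (e₁ : A ≃ₗ[L] C) (e₂ : B ≃ₗ[L] D) (h : g ∘ₗ e₁.toLinearMap = e₂.toLinearMap ∘ₗ f) (hg : IsFred g) :
    IsFred f ∧ f.index = g.index := by
  have e : f = e₂.symm.toLinearMap ∘ₗ (g ∘ₗ e₁.toLinearMap) := by
    rw [h]; ext z; simp
  obtain ⟨h1, h1'⟩ := (IsFred.of_equiv e₁).comp hg
  obtain ⟨h2, h2'⟩ := h1.comp (IsFred.of_equiv e₂.symm)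
  rw [← e] at h2 h2'
  refine ⟨h2, ?_⟩
  rw [h2', h1', LinearEquiv.index_eq_zero, LinearEquiv.index_eq_zero, zero_add, add_zero]

variable {k k' K K' : Type u} [Field k] [Field k'] [Field K] [Field K'] [Algebra k k'] [Algebra k K] [Algebra k K']
  [Algebra k' K'] [Algebra K K'] [IsScalarTower k k' K'] [IsScalarTower k K K']
  [Algebra.EssFiniteType k k'] [Algebra.EssFiniteType K K']

open LinearMap in
/-- Cartier equality for a square of fields. -/
theorem main :
    IsFred ((KaehlerDifferential.map k k' K K').liftBaseChange K') ∧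
      IsFred ((Algebra.H1Cotangent.map k k' K K').liftBaseChange K') ∧
      ((KaehlerDifferential.map k k' K K').liftBaseChange K').index -
        ((Algebra.H1Cotangent.map k k' K K').liftBaseChange K').index =
      (Cardinal.toNat (Algebra.trdeg k k') : ℤ) - Cardinal.toNat (Algebra.trdeg K K') := by
  obtain ⟨F, _, _, hFS⟩ := exists_base k
  letI : Algebra F k' := ((algebraMap k k').comp (algebraMap F k)).toAlgebra
  letI : Algebra F K := ((algebraMap k K).comp (algebraMap F k)).toAlgebra
  letI : Algebra F K' := ((algebraMap k K').comp (algebraMap F k)).toAlgebra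
  haveI : IsScalarTower F k k' := IsScalarTower.of_algebraMap_eq' rfl
  haveI : IsScalarTower F k K := IsScalarTower.of_algebraMap_eq' rfl
  haveI : IsScalarTower F k K' := IsScalarTower.of_algebraMap_eq' rfl
  haveI : IsScalarTower F k' K' := IsScalarTower.of_algebraMap_eq fun x =>
    IsScalarTower.algebraMap_apply k k' K' (algebraMap F k x)
  haveI : IsScalarTower F K K' := IsScalarTower.of_algebraMap_eq fun x =>
    IsScalarTower.algebraMap_apply k K K' (algebraMap F k x)
  obtain ⟨hk, hk'⟩ := index_base F hFS k k'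
  obtain ⟨hK, hK'⟩ := index_base F hFS K K'
  let v : K' ⊗[K] (K ⊗[k] Ω[k⁄F]) →ₗ[K'] K' ⊗[K] Ω[K⁄F] := (mapBaseChange F k K).baseChange K'
  let w := mapBaseChange F k' K'
  let u₁ : K' ⊗[K] (K ⊗[k] Ω[k⁄F]) →ₗ[K'] K' ⊗[k'] Ω[k'⁄F] := (ι F k k' K K').liftBaseChange K'
  let u₂ := mapBaseChange F K K'
  have hcomm : u₂ ∘ₗ v = w ∘ₗ u₁ := by
    refine TensorProduct.AlgebraTensorModule.curry_injective
      (LinearMap.ext_ring (LinearMap.ext fun z => ?_))
    show u₂ (v (1 ⊗ₜ z)) = w (u₁ (1 ⊗ₜ z))
    simp only [v, u₁, LinearMap.baseChange_tmul, LinearMap.liftBaseChange_tmul, one_smul]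
    induction z using TensorProduct.induction_on with
    | zero => simp
    | add a b ha hb => simp only [map_add, tmul_add, ha, hb]
    | tmul a ω =>
      show mapBaseChange F K K' (1 ⊗ₜ[K] mapBaseChange F k K (a ⊗ₜ ω)) = w (ι F k k' K K' (a ⊗ₜ ω))
      rw [mapBaseChange_tmul, one_smul, mapBaseChange_tmul, ι_tmul,
        map_smul (KaehlerDifferential.map F F K K'), ← algebraMap_smul K' a,
        ← algebraMap_smul K' a ((1 : K') ⊗ₜ[k'] _), map_smul w]
      show _ = _ • mapBaseChange F k' K' ((1 : K') ⊗ₜ[k'] KaehlerDifferential.map F F k k' ω)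
      rw [mapBaseChange_tmul, one_smul]
      congr 1
      have hω : ω ∈ Submodule.span k (Set.range (D F k)) := by
        rw [KaehlerDifferential.span_range_derivation]; trivial
      induction hω using Submodule.span_induction with
      | mem y hy =>
        obtain ⟨b, rfl⟩ := hy
        simp [map_D, ← IsScalarTower.algebraMap_apply]
      | zero => simp
      | add a b _ _ ha hb => simp only [map_add, ha, hb]
      | smul r a _ ha =>
        rw [map_smul (KaehlerDifferential.map F F k K), map_smul (KaehlerDifferential.map F F k k'),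
          LinearMap.map_smul_of_tower, LinearMap.map_smul_of_tower, ha]
  have hu₁ : IsFred u₁ ∧ u₁.index = -(Cardinal.toNat (Algebra.trdeg k k') : ℤ) := by
    obtain ⟨hb, hb'⟩ := isFred_baseChange K' hk
    let e : K' ⊗[K] (K ⊗[k] Ω[k⁄F]) ≃ₗ[K'] K' ⊗[k'] (k' ⊗[k] Ω[k⁄F]) :=
      (AlgebraTensorModule.cancelBaseChange k K K' K' Ω[k⁄F]).trans
        (AlgebraTensorModule.cancelBaseChange k k' K' K' Ω[k⁄F]).symm
    have he : (mapBaseChange F k k').baseChange K' ∘ₗ e.toLinearMap = u₁ := by
      refine TensorProduct.AlgebraTensorModule.curry_injective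
        (LinearMap.ext_ring (LinearMap.ext fun z => ?_))
      show (mapBaseChange F k k').baseChange K' (e (1 ⊗ₜ z)) = u₁ (1 ⊗ₜ z)
      simp only [u₁, LinearMap.liftBaseChange_tmul, one_smul]
      induction z using TensorProduct.induction_on with
      | zero => simp
      | add a b ha hb => simp only [map_add, tmul_add, ha, hb]
      | tmul a ω => simp [e, ι_tmul, mapBaseChange_tmul, TensorProduct.smul_tmul', Algebra.smul_def]
    obtain ⟨hc, hc'⟩ := (IsFred.of_equiv e).comp hb
    rw [he] at hc hc'
    exact ⟨hc, by rw [hc', LinearEquiv.index_eq_zero, hb', hk', add_zero]⟩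
  obtain ⟨hβ, hα, hidx⟩ := Groth.Syntomic.FredSquare.isFred_square u₁ u₂ v w hcomm hu₁.1 hK
  -- kernels
  let δb : K' ⊗[K] Algebra.H1Cotangent k K →ₗ[K'] K' ⊗[K] (K ⊗[k] Ω[k⁄F]) :=
    (Algebra.H1Cotangent.δ F k K).baseChange K'
  have hδb : Function.Injective δb :=
    Module.Flat.lTensor_preserves_injective_linearMap (M := K') _ (δ_injective F hFS k K)
  have hδbv : Function.Exact δb v :=
    Module.Flat.lTensor_exact K' (Algebra.H1Cotangent.exact_δ_mapBaseChange F k K)
  let ev : (K' ⊗[K] Algebra.H1Cotangent k K) ≃ₗ[K'] LinearMap.ker v :=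
    (LinearEquiv.ofInjective δb hδb).trans (LinearEquiv.ofEq _ _ hδbv.linearMap_ker_eq.symm)
  let ew : Algebra.H1Cotangent k' K' ≃ₗ[K'] LinearMap.ker w :=
    (LinearEquiv.ofInjective _ (δ_injective F hFS k' K')).trans
      (LinearEquiv.ofEq _ _ (Algebra.H1Cotangent.exact_δ_mapBaseChange F k' K').linearMap_ker_eq.symm)
  have hnat : ∀ z, u₁ (δb z) = Algebra.H1Cotangent.δ F k' K'
      ((Algebra.H1Cotangent.map k k' K K').liftBaseChange K' z) := fun z => by
    induction z using TensorProduct.induction_on with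
    | zero => simp
    | add a b ha hb => simp only [map_add, ha, hb]
    | tmul c y =>
      simp only [u₁, δb, LinearMap.baseChange_tmul, LinearMap.liftBaseChange_tmul, map_smul, δ_natural]
  obtain ⟨hβ', hβi⟩ := isFred_conj (f := (Algebra.H1Cotangent.map k k' K K').liftBaseChange K') ev ew
    (LinearMap.ext fun z => Subtype.ext (hnat z)) hβ
  -- cokernels
  let g : K' ⊗[K] Ω[K⁄F] →ₗ[K'] K' ⊗[K] Ω[K⁄k] := (KaehlerDifferential.map F k K K).baseChange K'
  have hg : Function.Surjective g := LinearMap.lTensor_surjective K' (KaehlerDifferential.map_surjective F k K)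
  have hvg : Function.Exact v g :=
    lTensor_exact K' (exact_mapBaseChange_map F k K) (KaehlerDifferential.map_surjective F k K)
  let ecv : ((K' ⊗[K] Ω[K⁄F]) ⧸ LinearMap.range v) ≃ₗ[K'] K' ⊗[K] Ω[K⁄k] :=
    (Submodule.quotEquivOfEq _ _ hvg.linearMap_ker_eq.symm).trans (g.quotKerEquivOfSurjective hg)
  let ecw : (Ω[K'⁄F] ⧸ LinearMap.range w) ≃ₗ[K'] Ω[K'⁄k'] := cokerEquiv F k' K'
  have hnat' : ∀ z, KaehlerDifferential.map F k' K' K' (u₂ z) =
      (KaehlerDifferential.map k k' K K').liftBaseChange K' (g z) := fun z => by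
    induction z using TensorProduct.induction_on with
    | zero => simp
    | add a b ha hb => simp only [map_add, ha, hb]
    | tmul c ω =>
      simp only [u₂, g, LinearMap.baseChange_tmul, LinearMap.liftBaseChange_tmul, mapBaseChange_tmul, map_smul]
      congr 1
      have hω : ω ∈ Submodule.span K (Set.range (D F K)) := by
        rw [KaehlerDifferential.span_range_derivation]; trivial
      induction hω using Submodule.span_induction with
      | mem y hy =>
        obtain ⟨b, rfl⟩ := hy
        simp [map_D]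
      | zero => simp
      | add a b _ _ ha hb => simp only [map_add, ha, hb]
      | smul r a _ ha => simp only [map_smul, LinearMap.map_smul_of_tower, ha]
  obtain ⟨hα', hαi⟩ := isFred_conj (f := (KaehlerDifferential.map k k' K K').liftBaseChange K')
    ecv.symm ecw.symm (by
      refine LinearMap.ext fun z => ?_
      obtain ⟨z, rfl⟩ := ecv.surjective z
      obtain ⟨z, rfl⟩ := Submodule.Quotient.mk_surjective _ z
      refine ecw.injective ?_
      rw [LinearMap.comp_apply, LinearMap.comp_apply, LinearEquiv.coe_coe, LinearEquiv.coe_coe,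
        LinearEquiv.apply_symm_apply, LinearEquiv.symm_apply_apply]
      exact hnat' z) hα
  refine ⟨hα', hβ', ?_⟩
  rw [hαi, hβi, hidx, hK', hu₁.2]
  ring

end Groth.Syntomic.CotangentSquare
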