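import Groth.Agent.Syntomic.Scheme
import Groth.Agent.Syntomic.Nhd
import Groth.Agent.Calg5.RelGCIField
import Groth.Agent.Calg5.RelGCI
import Groth.Agent.FibreDim.Smooth
import Groth.Agent.FibreDim.BaseChange

/-!
# The fibre dimension of a syntomic morphism is locally constant
-/

set_option autoImplicit false
set_option linter.style.haveILetI false

universe u

open AlgebraicGeometry CategoryTheory Limits TopologicalSpace Topology

namespace Groth.Syntomic

/-- An affine subscheme of affine `n`-space cut out by `c` equations and of dimension `n - c` has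
local dimension `n - c` everywhere. -/
theorem localDim_eq_of_ringKrullDim {k : Type u} [Field k] {n c : ℕ} (hc : c ≤ n)
    (G : Fin c → MvPolynomial (Fin n) k)
    (hdim : ringKrullDim (MvPolynomial (Fin n) k ⧸ Ideal.span (Set.range G)) = ((n - c : ℕ) : WithBot ℕ∞))
    (q : PrimeSpectrum (MvPolynomial (Fin n) k ⧸ Ideal.span (Set.range G))) :
    FlatMor.localDim (PrimeSpectrum (MvPolynomial (Fin n) k ⧸ Ideal.span (Set.range G))) q =
      ((n - c : ℕ) : WithBot ℕ∞) := by
  refine le_antisymm ((Groth.SpectralTopology.localDim_le_dim q).trans_eq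
    ((PrimeSpectrum.topologicalKrullDim_eq_ringKrullDim _).trans hdim)) ?_
  obtain ⟨P, hP, hPq⟩ := Ideal.exists_minimalPrimes_le
    (show Ideal.span (Set.range G) ≤ q.asIdeal.comap (Ideal.Quotient.mk _) from fun x hx => by
      rw [Ideal.mem_comap, Ideal.Quotient.eq_zero_iff_mem.mpr hx]; exact zero_mem _)
  have : P.IsPrime := hP.1.1
  have hht : P.height ≤ c := by
    refine (Ideal.height_le_card_of_mem_minimalPrimes_span (Set.finite_range G) hP).trans ?_
    exact_mod_cast (Set.image_univ (f := G) ▸ Set.ncard_image_le (Set.finite_univ)).trans (by simp)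
  have hker : RingHom.ker (Ideal.Quotient.mk (Ideal.span (Set.range G))) ≤ P := by rw [Ideal.mk_ker]; exact hP.1.2
  let P' : PrimeSpectrum (MvPolynomial (Fin n) k ⧸ Ideal.span (Set.range G)) :=
    ⟨P.map (Ideal.Quotient.mk _), Ideal.map_isPrime_of_surjective Ideal.Quotient.mk_surjective hker⟩
  refine le_trans ?_ (Groth.FibreDim.ringKrullDim_quotient_le_localDim k q (p := P')
    (Ideal.map_le_iff_le_comap.mpr hPq))
  rw [ringKrullDim_eq_of_ringEquiv (DoubleQuot.quotQuotEquivQuotOfLE hP.1.2)]
  have h1 := Groth.Ega41Adic.height_add_ringKrullDim_quotient k (Fin n) P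
  rw [Nat.card_eq_fintype_card, Fintype.card_fin] at h1
  revert h1
  generalize ringKrullDim (MvPolynomial (Fin n) k ⧸ P) = d
  intro h1
  obtain ⟨e, he⟩ := ENat.ne_top_iff_exists.1 (hht.trans_lt (ENat.coe_lt_top c)).ne
  rw [← he] at h1 hht
  have he' : e ≤ c := by exact_mod_cast hht
  induction d with
  | bot => simp at h1
  | coe d =>
    induction d using ENat.recTopCoe with
    | top => exact le_top
    | coe m =>
      have h2 : e + m = n := by exact_mod_cast h1
      exact WithBot.coe_le_coe.mpr (ENat.coe_le_coe.mpr (show n - c ≤ m by omega))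

/-- The fibres of a relative global complete intersection are equidimensional. -/
theorem fibreDimAt_relGCI {R : CommRingCat.{u}} {n c : ℕ} {F : Fin c → MvPolynomial (Fin n) R}
    (hF : Synt.IsRelGCI R n c F) (q : Spec (CommRingCat.of (Synt.RelGCIRing R n c F))) :
    FlatMor.fibreDimAt (Spec.map (CommRingCat.ofHom (algebraMap R (Synt.RelGCIRing R n c F)))) q =
      ((n - c : ℕ) : WithBot ℕ∞) := by
  let T := Synt.RelGCIRing R n c F
  let p : PrimeSpectrum R := PrimeSpectrum.comap (algebraMap R T) q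
  let E := PrimeSpectrum.preimageHomeomorphFiber R T p
  have hd := Groth.FibreDim.fibreDimAt_eq_of_range (Spec.map (CommRingCat.ofHom (algebraMap R T))) p
    (A := PrimeSpectrum (p.asIdeal.Fiber T))
    (e := fun Q => ((E.symm Q).1 : PrimeSpectrum T))
    (IsEmbedding.subtypeVal.comp E.symm.isEmbedding)
    ((E.symm.surjective.range_comp Subtype.val).trans Subtype.range_coe) (E ⟨q, rfl⟩)
  rw [E.symm_apply_apply] at hd
  refine hd.trans ?_
  let e := (Groth.Calg5.RelGCI.tensorQuotientEquiv p.asIdeal.ResidueField F).toRingEquiv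
  have : Nontrivial (p.asIdeal.Fiber T) := by
    by_contra hn
    have : Subsingleton (p.asIdeal.Fiber T) := not_nontrivial_iff_subsingleton.1 hn
    exact (E ⟨q, rfl⟩).2.ne_top (Subsingleton.elim _ _)
  obtain ⟨hc, hdim⟩ := hF p this
  rw [ringKrullDim_eq_of_ringEquiv e] at hdim
  rw [Groth.FibreDim.localDim_eq_of_homeomorph (PrimeSpectrum.homeomorphOfRingEquiv e)]
  exact localDim_eq_of_ringKrullDim hc _ hdim _

/-- The fibre dimension of a syntomic morphism is locally constant. -/
theorem isLocallyConstant_fibreDimAt {X S : Scheme.{u}} (f : X ⟶ S) (hf : Synt.IsSyntomicMor f) :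
    IsLocallyConstant (fun x : X => FlatMor.fibreDimAt f x) := by
  rw [IsLocallyConstant.iff_exists_open]
  intro x
  obtain ⟨U, V, e, hx, hs⟩ := hf x
  letI := (f.appLE V.1 U.1 e).hom.toAlgebra
  obtain ⟨t, ht, n, c, F, hF, ⟨φ⟩⟩ := isLocRelGCI_of_isSyntomic hs (U.2.primeIdealOf ⟨x, hx⟩).asIdeal inferInstance
  let T := Synt.RelGCIRing Γ(S, V.1) n c F
  let β : Γ(X, U.1) →+* T := φ.symm.toRingHom.comp (algebraMap Γ(X, U.1) (Localization.Away t))
  let j : Spec (CommRingCat.of T) ⟶ X := Spec.map (CommRingCat.ofHom β) ≫ U.2.fromSpec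
  have hj : IsOpenImmersion j := by
    have : IsIso (CommRingCat.ofHom φ.symm.toRingHom) := φ.symm.toRingEquiv.toCommRingCatIso.isIso_hom
    have : IsOpenImmersion (Spec.map (CommRingCat.ofHom (algebraMap Γ(X, U.1) (Localization.Away t)))) :=
      IsOpenImmersion.of_isLocalization t
    have h1 : Spec.map (CommRingCat.ofHom β) = Spec.map (CommRingCat.ofHom φ.symm.toRingHom) ≫
        Spec.map (CommRingCat.ofHom (algebraMap Γ(X, U.1) (Localization.Away t))) := by
      rw [← Spec.map_comp, ← CommRingCat.ofHom_comp]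
    simp only [j, h1]
    infer_instance
  have hjf : j ≫ f = Spec.map (CommRingCat.ofHom (algebraMap Γ(S, V.1) T)) ≫ V.2.fromSpec := by
    rw [Category.assoc, ← IsAffineOpen.SpecMap_appLE_fromSpec f V.2 U.2 e, ← Spec.map_comp_assoc]
    congr 2
    ext a
    show φ.symm (algebraMap Γ(X, U.1) (Localization.Away t) (algebraMap Γ(S, V.1) Γ(X, U.1) a)) = _
    rw [← IsScalarTower.algebraMap_apply]
    exact φ.symm.commutes a
  have key : ∀ y ∈ Set.range j, FlatMor.fibreDimAt f y = ((n - c : ℕ) : WithBot ℕ∞) := by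
    rintro _ ⟨q, rfl⟩
    rw [← Groth.FibreDim.fibreDimAt_openImmersion_comp j f q, hjf,
      Groth.FibreDim.fibreDimAt_comp_injective _ _ V.2.fromSpec.isOpenEmbedding.injective]
    exact fibreDimAt_relGCI hF q
  have hxj : x ∈ Set.range j := by
    obtain ⟨hp, hc⟩ := exists_prime_away _ ht
    let y : PrimeSpectrum (Localization.Away t) :=
      ⟨(U.2.primeIdealOf ⟨x, hx⟩).asIdeal.map (algebraMap Γ(X, U.1) (Localization.Away t)), hp⟩
    refine ⟨PrimeSpectrum.comap φ.toRingHom y, ?_⟩
    rw [Scheme.Hom.comp_apply]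
    conv_rhs => rw [show x = (⟨x, hx⟩ : U.1).1 from rfl, ← U.2.fromSpec_primeIdealOf ⟨x, hx⟩]
    congr 1
    refine PrimeSpectrum.ext ?_
    show ((y.asIdeal.comap φ.toRingHom).comap β) = _
    rw [Ideal.comap_comap, show φ.toRingHom.comp β = algebraMap Γ(X, U.1) (Localization.Away t) from
      RingHom.ext fun a => φ.apply_symm_apply _]
    exact hc
  exact ⟨Set.range j, j.isOpenEmbedding.isOpen_range, hxj, fun y hy => (key y hy).trans (key x hxj).symm⟩

end Groth.Syntomic
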