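import Groth.Agent.Syntomic.ConormalUnivThickRing
import Groth.Agent.Syntomic.CotangentProj
import Groth.Agent.OmegaSheaf.UnivThick.ToRing
import Groth.Agent.OmegaSheaf.UnivThick.Local
import Groth.Agent.OmegaSheaf.ConormalSections
import Groth.Agent.FlatMor2.AffineThickening
import Groth.Agent.KoszulReg.Immersion
import Groth.Agent.LocFree.Affine
import Groth.Prelude.Def_RegImm

/-!
# The conormal sheaf of a formally unramified local complete intersection morphism
-/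

set_option autoImplicit false
set_option linter.style.haveILetI false

universe u

open CategoryTheory Limits AlgebraicGeometry Opposite TopologicalSpace

namespace Groth.Syntomic

open Groth.OmegaSheaf Groth.OmegaSheaf.UnivThick

variable {X Y X' : Scheme.{u}} {f : X ⟶ Y} {i : X ⟶ X'} {h' : X' ⟶ Y}

/-- An affine neighbourhood with a Koszul regular presentation over an affine open of the base. -/
theorem exists_koszul_chart {x : X} (hf : Synt.IsKoszulAt f x) :
    ∃ (U : Y.affineOpens) (V : X.affineOpens) (e : V.1 ≤ f ⁻¹ᵁ U.1) (P : CommRingCat.{u})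
      (p : Γ(Y, U.1) ⟶ P) (q : P ⟶ Γ(X, V.1)), x ∈ V.1 ∧ p.hom.Smooth ∧ Function.Surjective q ∧
        p ≫ q = f.appLE U.1 V.1 e ∧
          ∃ rs : List P, LCI.IsKoszulRegularSeq P rs ∧ RingHom.ker q.hom = Ideal.ofList rs := by
  obtain ⟨Ux, P, j, π, hx, -, hj, hπ, hfac⟩ := hf
  obtain ⟨_, ⟨U, hU, rfl⟩, hfxU, -⟩ :=
    Y.isBasis_affineOpens.exists_subset_of_mem_open (Set.mem_univ (f x)) isOpen_univ
  obtain ⟨⟨W₀, hW₀⟩, hz, hci, rs, hrs, hker⟩ := hj.2 (⟨x, hx⟩ : Ux)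
  have hzU : j (⟨x, hx⟩ : Ux) ∈ π ⁻¹ᵁ U := by
    show π (j _) ∈ U
    rw [← Scheme.Hom.comp_apply, hfac, Scheme.Hom.comp_apply]
    exact hfxU
  obtain ⟨g, hgle, hzg⟩ := hW₀.exists_basicOpen_le (V := π ⁻¹ᵁ U) ⟨_, hzU⟩ hz
  obtain ⟨hW, hciW, hseq, hkW⟩ := Groth.KoszulReg.chart_basicOpen j hW₀ rs hrs hker g
    (P.basicOpen g) rfl (P.basicOpen_le g)
  set W := P.basicOpen g
  have hT := Groth.KoszulReg.isAffineOpen_preimage j W hW
  have hsurj := Groth.KoszulReg.surjective_app j W hW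
  let V : X.Opens := Ux.ι ''ᵁ (j ⁻¹ᵁ W)
  have hV : IsAffineOpen V := hT.image_of_isOpenImmersion Ux.ι
  have e : V ≤ f ⁻¹ᵁ U := by
    rintro _ ⟨z, hz', rfl⟩
    show f (Ux.ι z) ∈ U
    rw [← Scheme.Hom.comp_apply, ← hfac, Scheme.Hom.comp_apply]
    exact hgle hz'
  refine ⟨⟨U, hU⟩, ⟨V, hV⟩, e, Γ(P, W), π.appLE U W hgle, j.app W, ⟨⟨x, hx⟩, hzg, rfl⟩,
    HasRingHomProperty.appLE (P := @Smooth) π hπ ⟨U, hU⟩ ⟨W, hW⟩ hgle, hsurj, ?_, _, hseq, hkW⟩
  change π.appLE U W hgle ≫ j.app W = f.appLE U V e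
  rw [Scheme.Hom.app_eq_appLE, Scheme.Hom.appLE_comp_appLE]
  simp only [hfac]
  rw [Scheme.Hom.comp_appLE, Scheme.Hom.app_eq_appLE, Scheme.Opens.ι_appLE]
  exact Scheme.Hom.appLE_map f _ _

/-- Sections of the conormal sheaf of a first order thickening, as elements of the thickened ring. -/
theorem exists_conormal_sections_hom [IsClosedImmersion i] (hi : MoreMor.IsFirstOrderThickening i)
    {V : X'.Opens} (hV : IsAffineOpen V) :
    ∃ ι : Γ(Omega.conormal i, i ⁻¹ᵁ V) →+ Γ(X', V), Function.Injective ι ∧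
      (∀ x, i.app V x = 0 ↔ ∃ n, ι n = x) ∧ ∀ s n, ι (i.app V s • n) = s * ι n := by
  have hW : IsConormalChart i V := ⟨hV, hV.preimage i, i.app_surjective V hV⟩
  have hbij : Function.Bijective (OmegaSh.conormalSect i V) := by
    refine ⟨(injective_iff_map_eq_zero _).2 fun k hk => ?_, hW.conormalSect_surjective⟩
    rw [hW.conormalSect_eq_zero_iff, pow_two] at hk
    have hbot : RingHom.ker (i.app V).hom * RingHom.ker (i.app V).hom = ⊥ := by
      rw [← le_bot_iff, Ideal.mul_le]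
      exact fun a ha b hb => mul_eq_zero_of_app hi ha hb
    rw [hbot, Ideal.mem_bot] at hk
    exact idealSect_injective _ _ (hk.trans (map_zero _).symm)
  let σ : Γ(ClSub.idealMod i.ker, V) ≃+ Γ(Omega.conormal i, i ⁻¹ᵁ V) :=
    AddEquiv.ofBijective (OmegaSh.conormalSect i V).hom hbij
  refine ⟨(OmegaSh.idealSect i.ker V).comp σ.symm.toAddMonoidHom, ?_, fun x => ⟨fun hx => ?_, ?_⟩,
    fun s n => ?_⟩
  · exact fun a b h => σ.symm.injective (idealSect_injective _ _ h)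
  · obtain ⟨k, hk⟩ := exists_idealSect_of_app_eq_zero i hx
    exact ⟨σ k, by simpa using hk⟩
  · rintro ⟨n, rfl⟩
    exact app_idealSect i V _
  · obtain ⟨k, rfl⟩ := σ.surjective n
    have : i.app V s • σ k = σ (s • k) := (conormalSect_smul i s k).symm
    rw [this]
    show OmegaSh.idealSect i.ker V (σ.symm (σ (s • k))) = s * OmegaSh.idealSect i.ker V (σ.symm (σ k))
    rw [AddEquiv.symm_apply_apply, AddEquiv.symm_apply_apply, idealSect_smul]

/-- The conormal sheaf of a formally unramified local complete intersection morphism is finite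
locally free. -/
theorem isFinLocFree_conormal_univThickening (hf : ∀ x, Synt.IsKoszulAt f x)
    (hu : OmegaSh.IsUnivThickening f i h') : FlatMod.IsFinLocFree (Omega.conormal i) := by
  have hci : IsClosedImmersion i := isClosedImmersion_of_fot hu.1
  have hsurj : Surjective i := surjective_of_fot hu.1
  refine Groth.LocFree.isFinLocFree_of_affine_cover fun x => ?_
  obtain ⟨U, ⟨V₀, hV₀⟩, e₀, P, p, q, hx, hp, hq, hpq, rs, hrs, hker⟩ := exists_koszul_chart (hf x)
  obtain ⟨V, rfl⟩ := exists_opens_preimage hu.1 V₀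
  have hV : IsAffineOpen V := by
    have h1 : Surjective (i ∣_ V) := IsZariskiLocalAtTarget.restrict hsurj V
    have h2 : IsClosedImmersion (i ∣_ V) := IsZariskiLocalAtTarget.restrict hci V
    have : IsAffine (i ⁻¹ᵁ V) := hV₀
    exact Groth.FlatMor2.isAffine_of_surjective_closedImmersion (i ∣_ V)
  have e : V ≤ h' ⁻¹ᵁ U.1 := by
    intro z hz
    obtain ⟨w, rfl⟩ := hsurj.surj z
    show h' (i w) ∈ U.1
    rw [← Scheme.Hom.comp_apply, hu.2.1]
    exact e₀ hz
  letI : Algebra Γ(Y, U.1) Γ(X', V) := (h'.appLE U.1 V e).hom.toAlgebra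
  letI : Algebra Γ(Y, U.1) Γ(X, i ⁻¹ᵁ V) := (f.appLE U.1 (i ⁻¹ᵁ V) e₀).hom.toAlgebra
  letI : Algebra Γ(Y, U.1) P := p.hom.toAlgebra
  have hcomm : ∀ r, i.app V (h'.appLE U.1 V e r) = f.appLE U.1 (i ⁻¹ᵁ V) e₀ r := by
    intro r
    rw [Scheme.Hom.app_eq_appLE, ← CommRingCat.comp_apply, Scheme.Hom.appLE_comp_appLE]
    simp only [hu.2.1]
  let π : Γ(X', V) →ₐ[Γ(Y, U.1)] Γ(X, i ⁻¹ᵁ V) :=
    { toRingHom := (i.app V).hom, commutes' := hcomm }
  let qA : P →ₐ[Γ(Y, U.1)] Γ(X, i ⁻¹ᵁ V) :=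
    { toRingHom := q.hom, commutes' := fun r => congr($hpq r) }
  have huR := isUnivRing_of_isUniv hu U.2 hV e hV₀ (fun _ => rfl) π fun _ => rfl
  haveI : Algebra.Smooth Γ(Y, U.1) P := hp
  obtain ⟨hfree, hfin⟩ := free_cotangent_of_koszul (RingHom.ker qA.toRingHom) rs hrs hker
  obtain ⟨ι, hι, hrange, hsmul⟩ := exists_conormal_sections_hom hu.1 hV
  obtain ⟨h1, h2⟩ := finite_projective_ker_univThickening π huR qA hq _ rfl hfin inferInstance
    ι hι hrange hsmul
  exact ⟨i ⁻¹ᵁ V, hV₀, hx, h1, h2⟩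

end Groth.Syntomic
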