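import Groth.Prelude.Def_Omega3
import Mathlib.RingTheory.Smooth.Basic
import Mathlib.RingTheory.Ideal.Cotangent
import Mathlib.Algebra.Module.Projective
import Mathlib

/-!
# The ideal of a universal first order thickening

If `P → S` is surjective with `P` formally smooth over `R`, the square zero ideal of a universal
first order thickening of `S` over `R` is a direct summand of the conormal module of `P → S`.
-/

set_option autoImplicit false

universe u v

namespace Groth.Syntomic

variable {R S S' P : Type u} [CommRing R] [CommRing S] [CommRing S'] [CommRing P]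
  [Algebra R S] [Algebra R S'] [Algebra R P]

/-- The ideal of a universal first order thickening is finite projective if the conormal module of a
formally smooth presentation is. -/
theorem finite_projective_ker_univThickening [Algebra.FormallySmooth R P] (π : S' →ₐ[R] S)
    (hu : OmegaSh.IsUnivThickeningRing R S S' π) (q : P →ₐ[R] S) (hq : Function.Surjective q)
    (J : Ideal P) (hJ : J = RingHom.ker q.toRingHom)
    (hfin : Module.Finite (P ⧸ J) J.Cotangent) (hproj : Module.Projective (P ⧸ J) J.Cotangent)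
    {N : Type v} [AddCommGroup N] [Module S N] (ι : N →+ S') (hι : Function.Injective ι)
    (hrange : ∀ x, π x = 0 ↔ ∃ n, ι n = x) (hsmul : ∀ s n, ι (π s • n) = s * ι n) :
    Module.Finite S N ∧ Module.Projective S N := by
  obtain ⟨hπ, hsq, huniv⟩ := hu
  have hmul : ∀ a b : S', π a = 0 → π b = 0 → a * b = 0 := by
    intro a b ha hb
    have : a * b ∈ RingHom.ker π.toRingHom ^ 2 := pow_two (RingHom.ker π.toRingHom) ▸
      Ideal.mul_mem_mul ha hb
    rwa [hsq, Ideal.mem_bot] at this
  let φ : P →ₐ[R] S' := Algebra.FormallySmooth.liftOfSurjective q π hπ ⟨2, hsq⟩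
  have hφ : ∀ x, π (φ x) = q x := fun x =>
    DFunLike.congr_fun (Algebra.FormallySmooth.comp_liftOfSurjective q π hπ ⟨2, hsq⟩) x
  have hJq : ∀ x, x ∈ J ↔ q x = 0 := fun x => by rw [hJ]; rfl
  have hφJ : ∀ x ∈ J ^ 2, φ x = 0 := by
    intro x hx
    rw [pow_two] at hx
    refine Submodule.mul_induction_on hx (fun a ha b hb => ?_) fun a b ha hb => by
      rw [map_add, ha, hb, add_zero]
    rw [map_mul]
    exact hmul _ _ ((hφ a).trans ((hJq a).1 ha)) ((hφ b).trans ((hJq b).1 hb))
  let φ' : (P ⧸ J ^ 2) →ₐ[R] S' := Ideal.Quotient.liftₐ (J ^ 2) φ hφJ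
  let q' : (P ⧸ J ^ 2) →ₐ[R] S := Ideal.Quotient.liftₐ (J ^ 2) q fun x hx =>
    (hJq x).1 (Ideal.pow_le_self two_ne_zero hx)
  have hq' : Function.Surjective q' := fun s => by
    obtain ⟨x, rfl⟩ := hq s
    exact ⟨Ideal.Quotient.mk _ x, rfl⟩
  have hker : ∀ z, q' z = 0 → z ∈ J.cotangentIdeal := fun z hz => by
    obtain ⟨x, rfl⟩ := Ideal.Quotient.mk_surjective z
    exact Submodule.mem_map_of_mem ((hJq x).2 hz)
  have hker' : ∀ z ∈ J.cotangentIdeal, q' z = 0 := by
    rintro _ ⟨x, hx, rfl⟩
    exact (hJq x).1 hx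
  let K : Ideal (P ⧸ J ^ 2) := RingHom.ker q'
  have hK : K ^ 2 = ⊥ := le_bot_iff.1 ((Ideal.pow_right_mono (fun z hz => hker z hz) 2).trans
    (Ideal.cotangentIdeal_square J).le)
  obtain ⟨a', ha', -⟩ := huniv (P ⧸ J ^ 2) K hK
    (Ideal.quotientKerAlgEquivOfSurjective hq').symm.toAlgHom
  have ha : ∀ x, q' (a' x) = π x := fun x => by
    have h1 : Ideal.Quotient.mk K (a' x) = (Ideal.quotientKerAlgEquivOfSurjective hq').symm (π x) :=
      DFunLike.congr_fun ha' x
    have h2 := congrArg (Ideal.quotientKerAlgEquivOfSurjective hq') h1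
    rw [AlgEquiv.apply_symm_apply] at h2
    exact h2
  have hid : φ'.comp a' = AlgHom.id R S' := by
    obtain ⟨b, -, hb⟩ := huniv S' (RingHom.ker π) hsq
      (Ideal.quotientKerAlgEquivOfSurjective hπ).symm.toAlgHom
    have key : ∀ c : S' →ₐ[R] S', (∀ x, π (c x) = π x) → c = b := fun c hc => hb c (AlgHom.ext fun x => by
      apply (Ideal.quotientKerAlgEquivOfSurjective hπ).injective
      show _ = (Ideal.quotientKerAlgEquivOfSurjective hπ)
        ((Ideal.quotientKerAlgEquivOfSurjective hπ).symm (π x))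
      rw [AlgEquiv.apply_symm_apply]
      exact hc x)
    refine (key _ fun x => ?_).trans (key _ fun _ => rfl).symm
    obtain ⟨y, hy⟩ := Ideal.Quotient.mk_surjective (a' x)
    show π (φ' (a' x)) = π x
    rw [← ha x, ← hy]
    exact hφ y
  have hida : ∀ x, φ' (a' x) = x := DFunLike.congr_fun hid
  let eq : (P ⧸ J) ≃+* S := RingEquiv.ofBijective
    (Ideal.Quotient.lift J q.toRingHom fun x hx => (hJq x).1 hx)
    ⟨by
      rw [injective_iff_map_eq_zero]
      intro z hz
      obtain ⟨x, rfl⟩ := Ideal.Quotient.mk_surjective z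
      exact Ideal.Quotient.eq_zero_iff_mem.2 ((hJq x).2 hz),
     fun s => by obtain ⟨x, rfl⟩ := hq s; exact ⟨Ideal.Quotient.mk J x, rfl⟩⟩
  letI : Module (P ⧸ J) N := Module.compHom N eq.toRingHom
  letI : Module P N := Module.compHom N q.toRingHom
  haveI : IsScalarTower P (P ⧸ J) N := IsScalarTower.of_algebraMap_smul fun _ _ => rfl
  have hιP : ∀ (p : P) (n : N), ι (p • n) = φ p * ι n := fun p n => by
    show ι (q p • n) = _
    rw [← hφ, hsmul]
  have hιπ : ∀ n, π (ι n) = 0 := fun n => (hrange _).2 ⟨n, rfl⟩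
  have hπφ' : ∀ z : J.Cotangent, π (φ' (J.cotangentToQuotientSquare z)) = 0 := fun z => by
    obtain ⟨⟨x, hx⟩, rfl⟩ := J.toCotangent_surjective z
    rw [Ideal.toCotangent_to_quotient_square]
    exact (hφ x).trans ((hJq x).1 hx)
  choose r hr using fun z : J.Cotangent => (hrange _).1 (hπφ' z)
  let rL : J.Cotangent →ₗ[P] N :=
    { toFun := r
      map_add' := fun y z => hι (by rw [map_add ι, hr, hr, hr, map_add J.cotangentToQuotientSquare, map_add φ'])
      map_smul' := fun p z => hι (by
        rw [RingHom.id_apply, hιP, hr, hr, map_smul]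
        show φ' (Ideal.Quotient.mk _ p * _) = _
        rw [map_mul]
        rfl) }
  have hmem : ∀ n, a' (ι n) ∈ J.cotangentIdeal := fun n => hker _ ((ha _).trans (hιπ n))
  let sL : N →ₗ[P] J.Cotangent :=
    { toFun := fun n => J.cotangentEquivIdeal.symm ⟨a' (ι n), hmem n⟩
      map_add' := fun m n => by
        rw [← map_add]
        exact congrArg _ (Subtype.ext (by
          show a' (ι (m + n)) = a' (ι m) + a' (ι n)
          rw [map_add ι, map_add]))
      map_smul' := fun p n => by
        rw [RingHom.id_apply, ← map_smul]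
        refine congrArg _ (Subtype.ext ?_)
        show a' (ι (p • n)) = p • a' (ι n)
        rw [hιP, map_mul, Algebra.smul_def, Ideal.Quotient.algebraMap_eq]
        have h1 : a' (φ p) - Ideal.Quotient.mk (J ^ 2) p ∈ J.cotangentIdeal := hker _ (by
          rw [map_sub, ha, hφ]
          exact sub_self _)
        have h2 : (a' (φ p) - Ideal.Quotient.mk (J ^ 2) p) * a' (ι n) = 0 := by
          have := Ideal.mul_mem_mul h1 (hmem n)
          rwa [← pow_two, Ideal.cotangentIdeal_square, Ideal.mem_bot] at this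
        rwa [sub_mul, sub_eq_zero] at h2 }
  have hrs : ∀ n, rL (sL n) = n := fun n => hι (by
    show ι (r _) = _
    rw [hr, ← Ideal.cotangentEquivIdeal_apply]
    show φ' (J.cotangentEquivIdeal (J.cotangentEquivIdeal.symm ⟨a' (ι n), hmem n⟩)).1 = ι n
    rw [LinearEquiv.apply_symm_apply]
    exact hida _)
  let r' : J.Cotangent →ₗ[P ⧸ J] N := LinearMap.extendScalarsOfSurjective Ideal.Quotient.mk_surjective rL
  let s' : N →ₗ[P ⧸ J] J.Cotangent := LinearMap.extendScalarsOfSurjective Ideal.Quotient.mk_surjective sL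
  have h1 : Module.Projective (P ⧸ J) N :=
    Module.Projective.of_split s' r' (LinearMap.ext hrs)
  have h2 : Module.Finite (P ⧸ J) N :=
    Module.Finite.of_surjective r' fun n => ⟨sL n, hrs n⟩
  letI := RingHomInvPair.of_ringEquiv eq
  letI := RingHomInvPair.symm (eq : (P ⧸ J) →+* S) (eq.symm : S →+* (P ⧸ J))
  let e : N ≃ₛₗ[(eq : (P ⧸ J) →+* S)] N :=
    { AddEquiv.refl N with map_smul' := fun _ _ => rfl }
  refine ⟨?_, Module.Projective.of_equiv e⟩
  haveI : RingHomSurjective (eq : (P ⧸ J) →+* S) := ⟨eq.surjective⟩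
  exact Module.Finite.of_surjective e.toLinearMap e.surjective

end Groth.Syntomic
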