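import Groth.Agent.Calg5.RelGCIFlat
import Groth.Agent.ArtfunDeform.CotT.KoszulReg
import Groth.Agent.KoszulLCI.Pres
import Groth.Agent.Ega41Adic.KaehlerRank

/-!
# Koszul regular sequences and complete intersections over a field
-/

set_option autoImplicit false

universe u

open IsLocalRing RingTheory.Sequence

namespace Groth.Syntomic

/-- A Koszul regular sequence has codimension at least its length. -/
theorem le_height_of_koszul {A : Type u} [CommRing A] [IsNoetherianRing A] (l : List A)
    (hl : LCI.IsKoszulRegularSeq A l) (q : Ideal A) [q.IsPrime] (hq : Ideal.ofList l ≤ q) :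
    (l.length : ℕ∞) ≤ q.height := by
  let B := Localization.AtPrime q
  let lB := l.map (algebraMap A B)
  have hmem : ∀ x ∈ lB, x ∈ maximalIdeal B := by
    intro x hx
    obtain ⟨y, hy, rfl⟩ := List.mem_map.mp hx
    exact (IsLocalization.AtPrime.to_map_mem_maximal_iff B q y).mpr (hq (Ideal.subset_span hy))
  have hJ : Ideal.ofList lB.reverse ≤ maximalIdeal B :=
    Ideal.span_le.mpr fun x hx ↦ hmem x (List.mem_reverse.mp hx)
  have hreg : IsRegular B lB.reverse :=
    ⟨Groth.ArtfunDeform.isWeaklyRegular_reverse_of_koszul lB hmem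
      (Groth.KoszulLCI.isKoszulRegularSeq_localization q hl), fun h ↦ by
      rw [smul_eq_mul, Ideal.mul_top] at h
      exact (maximalIdeal.isMaximal B).ne_top (top_le_iff.mp (h ▸ hJ))⟩
  have h := ringKrullDim_add_length_eq_ringKrullDim_of_isRegular lB.reverse hreg
  have : Nontrivial (B ⧸ Ideal.ofList lB.reverse) :=
    Ideal.Quotient.nontrivial_iff.mpr fun e ↦
      (maximalIdeal.isMaximal B).ne_top (top_le_iff.mp (e ▸ hJ))
  have h0 : (0 : WithBot ℕ∞) ≤ ringKrullDim (B ⧸ Ideal.ofList lB.reverse) :=
    ringKrullDim_nonneg_of_nontrivial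
  have hle : ((l.length : ℕ) : WithBot ℕ∞) ≤ ringKrullDim B := by
    rw [← h]
    simp only [lB, List.length_reverse, List.length_map]
    exact le_add_of_nonneg_left h0
  rw [IsLocalization.AtPrime.ringKrullDim_eq_height q B] at hle
  exact_mod_cast hle

variable {k : Type u} [Field k] {n : ℕ}

/-- The subscheme of affine space cut out by a Koszul regular sequence has the expected dimension. -/
theorem dim_quotient_of_koszul (l : List (MvPolynomial (Fin n) k))
    (hl : LCI.IsKoszulRegularSeq (MvPolynomial (Fin n) k) l) (hne : Ideal.ofList l ≠ ⊤) :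
    l.length ≤ n ∧
      ringKrullDim (MvPolynomial (Fin n) k ⧸ Ideal.ofList l) = ((n - l.length : ℕ) : WithBot ℕ∞) := by
  classical
  set J := Ideal.ofList l with hJdef
  set c := l.length with hc
  obtain ⟨q₀, hq₀⟩ := Ideal.nonempty_minimalPrimes hne
  have : q₀.IsPrime := hq₀.1.1
  have hJ : J = Ideal.span (l.toFinset : Set (MvPolynomial (Fin n) k)) := by
    rw [hJdef, List.coe_toFinset]
  have hup : q₀.height ≤ c := by
    refine (Ideal.height_le_card_of_mem_minimalPrimes_span_finset (s := l.toFinset) ?_).trans ?_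
    · rwa [← hJ]
    · exact_mod_cast List.toFinset_card_le l
  have hh : q₀.height = c := le_antisymm hup (le_height_of_koszul l hl q₀ hq₀.1.2)
  have h1 := Groth.Ega41Adic.height_add_ringKrullDim_quotient k (Fin n) q₀
  rw [hh, Nat.card_eq_fintype_card, Fintype.card_fin] at h1
  obtain ⟨d, hd⟩ : ∃ d : ℕ, ringKrullDim (MvPolynomial (Fin n) k ⧸ q₀) = (d : WithBot ℕ∞) := by
    have h0 : (0 : WithBot ℕ∞) ≤ ringKrullDim (MvPolynomial (Fin n) k ⧸ q₀) :=
      ringKrullDim_nonneg_of_nontrivial
    generalize ringKrullDim (MvPolynomial (Fin n) k ⧸ q₀) = e at h1 h0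
    induction e with
    | bot => simp at h0
    | coe e =>
      induction e using ENat.recTopCoe with
      | top =>
        rw [← WithBot.coe_add, add_top] at h1
        exact absurd h1 (by exact_mod_cast ENat.top_ne_natCast n)
      | coe e => exact ⟨e, rfl⟩
  rw [hd] at h1
  have hcd : c + d = n := by exact_mod_cast h1
  refine ⟨by omega, le_antisymm (iSup_le fun s ↦ ?_) ?_⟩
  · let g : PrimeSpectrum (MvPolynomial (Fin n) k ⧸ J) → PrimeSpectrum (MvPolynomial (Fin n) k) :=
      PrimeSpectrum.comap (Ideal.Quotient.mk J)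
    have hmono : StrictMono g := Monotone.strictMono_of_injective
      (fun a b hab => Ideal.comap_mono hab)
      (PrimeSpectrum.comap_injective_of_surjective _ Ideal.Quotient.mk_surjective)
    let s' := s.map g hmono
    have hhead : (c : ℕ∞) ≤ Order.height s'.head := by
      rw [← PrimeSpectrum.height_eq_orderHeight]
      refine le_height_of_koszul l hl _ fun x hx ↦ ?_
      rw [LTSeries.head_map]
      change Ideal.Quotient.mk J x ∈ s.head.asIdeal
      rw [Ideal.Quotient.eq_zero_iff_mem.mpr hx]
      exact zero_mem _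
    have h5 : ((s.length + c : ℕ) : ℕ∞) ≤ Order.height s'.last := by
      push_cast
      exact le_trans (add_le_add le_rfl hhead)
        (Groth.Calg5.RelGCI.length_add_height_head_le s')
    have h6 : ((Order.height s'.last : ℕ∞) : WithBot ℕ∞) ≤ ((n : ℕ) : WithBot ℕ∞) := by
      refine le_trans (Order.height_le_krullDim _) ?_
      have : ringKrullDim (MvPolynomial (Fin n) k) = (n : WithBot ℕ∞) := by
        rw [MvPolynomial.ringKrullDim_of_isNoetherianRing, ringKrullDim_eq_zero_of_field]; simp
      exact this.le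
    have h7 : s.length + c ≤ n := by exact_mod_cast h5.trans (WithBot.coe_le_coe.mp h6)
    exact_mod_cast Nat.le_sub_of_add_le h7
  · rw [show n - c = d by omega, ← hd]
    exact ringKrullDim_le_of_surjective (Ideal.Quotient.factor hq₀.1.2)
      (Ideal.Quotient.factor_surjective hq₀.1.2)

/-- A global complete intersection over a field is a local complete intersection ring map. -/
theorem isLCI_of_isGlobalCI {T : Type u} [CommRing T] [Algebra k T] [Algebra.FiniteType k T]
    (h : Synt.IsGlobalCI k T) : LCI.IsLCI k T := by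
  rcases h with h | ⟨n, c, hc, φ, r, hφ, hker, hdim⟩
  · obtain ⟨n, φ, hφ⟩ := Algebra.FiniteType.iff_quotient_mvPolynomial''.mp
      (inferInstance : Algebra.FiniteType k T)
    refine ⟨inferInstance, n, φ, hφ, fun p hp ↦ absurd ?_ p.isPrime.ne_top⟩
    exact top_le_iff.mp (le_trans (fun x _ ↦ RingHom.mem_ker.mpr (Subsingleton.elim _ _)) hp)
  · refine ⟨inferInstance, n, φ, hφ, Groth.KoszulLCI.isKoszulRegularIdeal_of_locReg
      (hker ▸ Submodule.fg_span (Set.finite_range r))
      fun p hp _ ↦ ⟨1, fun h1 ↦ hp.ne_top ((Ideal.eq_top_iff_one p).mpr h1), c, fun q _ hq _ ↦ ?_⟩⟩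
    rw [hker] at hq ⊢
    have hd : ringKrullDim (MvPolynomial (Fin n) k ⧸ Ideal.span (Set.range r)) ≤
        ((n - c : ℕ) : WithBot ℕ∞) := by
      rw [← hdim]
      exact (ringKrullDim_eq_of_ringEquiv ((Ideal.quotEquivOfEq hker.symm).trans
        (RingHom.quotientKerEquivOfSurjective hφ))).le
    refine ⟨_, ?_, Groth.KoszulReg.isKoszulRegularSeq_of_isWeaklyRegular
      (Groth.Calg5.RelGCI.isWeaklyRegular_atPrime_of_dim_le hc r hd q hq), ?_⟩
    · simp
    · rw [← Ideal.map_ofList, Groth.Calg5.RelGCI.ofList_ofFn]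

/-- A local complete intersection over a field in the sense of covers is one in the sense of
presentations. -/
theorem isLCI_of_isLCIOver {T : Type u} [CommRing T] [Algebra k T] (h : Synt.IsLCIOver k T) :
    LCI.IsLCI k T := by
  obtain ⟨hft, hloc⟩ := h
  refine Groth.KoszulLCI.isLCI_of_cover fun q hq ↦ ?_
  obtain ⟨g, hg, hG⟩ := hloc ⟨q, hq⟩
  have : Algebra.FiniteType T (Localization.Away g) := inferInstance
  have : Algebra.FiniteType k (Localization.Away g) := hft.trans this
  exact ⟨g, hg, Localization.Away g, inferInstance, inferInstance, inferInstance, inferInstance,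
    inferInstance, isLCI_of_isGlobalCI hG⟩

end Groth.Syntomic
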