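import Groth.Agent.Ega41Rank.Index
import Mathlib.LinearAlgebra.Prod
import Mathlib.LinearAlgebra.Basis.VectorSpace

/-!
# Fredholm maps and short exact sequences
-/

set_option autoImplicit false

namespace Groth.Syntomic.FredSquare

open Groth.Ega41Rank LinearMap

variable {L : Type*} [Field L] {A₁ B₁ C₁ A₂ B₂ C₂ : Type*}
  [AddCommGroup A₁] [Module L A₁] [AddCommGroup B₁] [Module L B₁] [AddCommGroup C₁] [Module L C₁]
  [AddCommGroup A₂] [Module L A₂] [AddCommGroup B₂] [Module L B₂] [AddCommGroup C₂] [Module L C₂]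

/-- The triangular map `(m, q) ↦ (a m + x q, c q)`. -/
def tri (a : A₁ →ₗ[L] A₂) (x : C₁ →ₗ[L] A₂) (c : C₁ →ₗ[L] C₂) : A₁ × C₁ →ₗ[L] A₂ × C₂ :=
  (a.coprod x).prod (c.comp (LinearMap.snd L A₁ C₁))

theorem tri_apply (a : A₁ →ₗ[L] A₂) (x : C₁ →ₗ[L] A₂) (c : C₁ →ₗ[L] C₂) (m : A₁) (q : C₁) :
    tri a x c (m, q) = (a m + x q, c q) := rfl

theorem finite_of_map {M N : Type*} [AddCommGroup M] [Module L M] [AddCommGroup N] [Module L N]
    (φ : M →ₗ[L] N) [FiniteDimensional L N] (h : FiniteDimensional L (LinearMap.ker φ)) :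
    FiniteDimensional L M := by
  haveI := h
  haveI : FiniteDimensional L (M ⧸ LinearMap.ker φ) :=
    Module.Finite.equiv φ.quotKerEquivRange.symm
  exact Module.Finite.of_submodule_quotient (LinearMap.ker φ)

variable (a : A₁ →ₗ[L] A₂) (x : C₁ →ₗ[L] A₂) (c : C₁ →ₗ[L] C₂)

theorem finite_ker_left (h : FiniteDimensional L (ker (tri a x c))) : FiniteDimensional L (ker a) := by
  haveI := h
  refine Module.Finite.of_injective
    ((LinearMap.inl L A₁ C₁).restrict (p := ker a) (q := ker (tri a x c)) fun m hm => ?_) ?_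
  · rw [mem_ker] at hm ⊢
    rw [inl_apply, tri_apply, hm, map_zero, map_zero, add_zero]; rfl
  · intro m m' he
    exact Subtype.ext (congr_arg Prod.fst (congr_arg Subtype.val he))

theorem finite_coker_right (h : FiniteDimensional L ((A₂ × C₂) ⧸ range (tri a x c))) :
    FiniteDimensional L (C₂ ⧸ range c) := by
  haveI := h
  refine Module.Finite.of_surjective (Submodule.mapQ (range (tri a x c)) (range c) (LinearMap.snd L A₂ C₂) ?_) fun z => ?_
  · rintro _ ⟨⟨m, q⟩, rfl⟩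
    exact ⟨q, rfl⟩
  · obtain ⟨z, rfl⟩ := Submodule.Quotient.mk_surjective _ z
    exact ⟨Submodule.Quotient.mk (0, z), rfl⟩

theorem finite_coker_left (h : FiniteDimensional L ((A₂ × C₂) ⧸ range (tri a x c)))
    (hc : FiniteDimensional L (ker c)) : FiniteDimensional L (A₂ ⧸ range a) := by
  haveI := h
  haveI := hc
  let φ : (A₂ ⧸ range a) →ₗ[L] (A₂ × C₂) ⧸ range (tri a x c) :=
    Submodule.mapQ _ _ (LinearMap.inl L A₂ C₂) (by
      rintro _ ⟨m, rfl⟩
      exact ⟨(m, 0), by rw [tri_apply, map_zero, map_zero, add_zero, inl_apply]⟩)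
  refine finite_of_map φ (Submodule.finiteDimensional_of_le
    (S₂ := range ((range a).mkQ ∘ₗ x ∘ₗ (ker c).subtype)) fun z hz => ?_)
  obtain ⟨z, rfl⟩ := Submodule.Quotient.mk_surjective _ z
  obtain ⟨⟨m, q⟩, hmq⟩ := (Submodule.Quotient.mk_eq_zero _).1 (mem_ker.1 hz)
  rw [tri_apply, inl_apply, Prod.mk.injEq] at hmq
  refine ⟨⟨q, hmq.2⟩, ?_⟩
  show Submodule.Quotient.mk (x q) = Submodule.Quotient.mk z
  rw [Submodule.Quotient.eq, ← hmq.1, sub_add_cancel_right]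
  exact neg_mem ⟨m, rfl⟩

theorem finite_ker_right (h : FiniteDimensional L (ker (tri a x c)))
    (ha : FiniteDimensional L (A₂ ⧸ range a)) : FiniteDimensional L (ker c) := by
  haveI := h
  haveI := ha
  let φ : ker c →ₗ[L] A₂ ⧸ range a := (range a).mkQ ∘ₗ x ∘ₗ (ker c).subtype
  let π : ker (tri a x c) →ₗ[L] ker c :=
    (LinearMap.snd L A₁ C₁).restrict (p := ker (tri a x c)) (q := ker c) fun z hz => congr_arg Prod.snd hz
  refine finite_of_map φ (Submodule.finiteDimensional_of_le (S₂ := range π) fun z hz => ?_)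
  obtain ⟨m, hm⟩ := (Submodule.Quotient.mk_eq_zero _).1 (mem_ker.1 hz)
  refine ⟨⟨(-m, z.1), ?_⟩, rfl⟩
  rw [mem_ker, tri_apply, map_neg, show x z.1 = a m from hm.symm, neg_add_cancel, mem_ker.1 z.2]
  rfl

theorem isFred_prodMap_id (ha : IsFred a) (C : Type*) [AddCommGroup C] [Module L C] :
    IsFred (a.prodMap (LinearMap.id : C →ₗ[L] C)) ∧
      (a.prodMap (LinearMap.id : C →ₗ[L] C)).index = a.index := by
  haveI := ha.1
  haveI := ha.2
  let ek : ker a ≃ₗ[L] ker (a.prodMap (LinearMap.id : C →ₗ[L] C)) := LinearEquiv.ofBijective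
    ((LinearMap.inl L A₁ C).restrict (p := ker a) fun m hm => by simp [mem_ker.1 hm])
    ⟨fun m m' he => Subtype.ext (congr_arg Prod.fst (congr_arg Subtype.val he)), fun ⟨⟨m, q⟩, hz⟩ => by
      simp only [mem_ker, prodMap_apply, id_coe, id_eq, Prod.mk_eq_zero] at hz
      exact ⟨⟨m, hz.1⟩, Subtype.ext (Prod.ext rfl hz.2.symm)⟩⟩
  let ec : ((A₂ × C) ⧸ range (a.prodMap (LinearMap.id : C →ₗ[L] C))) ≃ₗ[L] (A₂ ⧸ range a) :=
    LinearEquiv.ofBijective (Submodule.mapQ _ _ (LinearMap.fst L A₂ C) (by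
        rintro _ ⟨⟨m, q⟩, rfl⟩; exact ⟨m, rfl⟩))
      ⟨(injective_iff_map_eq_zero _).2 fun z => by
        obtain ⟨⟨y, q⟩, rfl⟩ := Submodule.Quotient.mk_surjective _ z
        intro hz
        obtain ⟨m, hm⟩ := (Submodule.Quotient.mk_eq_zero _).1 hz
        exact (Submodule.Quotient.mk_eq_zero _).2 ⟨(m, q), Prod.ext hm rfl⟩,
      fun z => by
        obtain ⟨y, rfl⟩ := Submodule.Quotient.mk_surjective _ z
        exact ⟨Submodule.Quotient.mk (y, 0), rfl⟩⟩
  refine ⟨⟨Module.Finite.equiv ek, Module.Finite.equiv ec.symm⟩, ?_⟩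
  rw [index_eq_finrank_sub, index_eq_finrank_sub, ek.finrank_eq, ec.finrank_eq]

theorem index_tri (ha : IsFred a) (hc : IsFred c) :
    IsFred (tri a x c) ∧ (tri a x c).index = a.index + c.index := by
  let T : (A₂ × C₁) ≃ₗ[L] (A₂ × C₁) :=
    { toFun := fun z => (z.1 + x z.2, z.2)
      invFun := fun z => (z.1 - x z.2, z.2)
      map_add' := fun z w => Prod.ext (by simp; abel) rfl
      map_smul' := fun r z => Prod.ext (by simp) rfl
      left_inv := fun z => Prod.ext (by simp) rfl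
      right_inv := fun z => Prod.ext (by simp) rfl }
  let s₁ := LinearEquiv.prodComm L A₂ C₁
  let s₂ := LinearEquiv.prodComm L C₂ A₂
  obtain ⟨h1, h1'⟩ := isFred_prodMap_id a ha C₁
  obtain ⟨h2, h2'⟩ := isFred_prodMap_id c hc A₂
  obtain ⟨h3, h3'⟩ := h1.comp (IsFred.of_equiv (T.trans s₁))
  obtain ⟨h4, h4'⟩ := h3.comp h2
  obtain ⟨h5, h5'⟩ := h4.comp (IsFred.of_equiv s₂)
  have e : s₂.toLinearMap ∘ₗ (c.prodMap (LinearMap.id : A₂ →ₗ[L] A₂) ∘ₗ
      ((T.trans s₁).toLinearMap ∘ₗ a.prodMap (LinearMap.id : C₁ →ₗ[L] C₁))) = tri a x c :=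
    LinearMap.ext fun z => rfl
  rw [e] at h5 h5'
  refine ⟨h5, ?_⟩
  rw [h5', h4', h3', h1', h2', LinearEquiv.index_eq_zero, LinearEquiv.index_eq_zero]
  ring

theorem bijective_coprod {A B C : Type*} [AddCommGroup A] [Module L A] [AddCommGroup B] [Module L B]
    [AddCommGroup C] [Module L C] (i : A →ₗ[L] B) (p : B →ₗ[L] C) (s : C →ₗ[L] B)
    (hi : Function.Injective i) (hip : Function.Exact i p) (hs : ∀ q, p (s q) = q) :
    Function.Bijective (i.coprod s) := by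
  refine ⟨(injective_iff_map_eq_zero _).2 fun z hz => ?_, fun y => ?_⟩
  · have hq : z.2 = 0 := by
      have := congr_arg p hz
      rwa [coprod_apply, map_add, map_zero, hip.apply_apply_eq_zero, hs, zero_add] at this
    rw [coprod_apply, hq, map_zero, add_zero] at hz
    exact Prod.ext (hi (hz.trans (map_zero i).symm)) hq
  · obtain ⟨m, hm⟩ := (hip (y - s (p y))).1 (by rw [map_sub, hs, sub_self])
    exact ⟨(m, p y), by rw [coprod_apply, hm, sub_add_cancel]⟩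

/-- Split short exact sequences, and the middle map as a triangular one. -/
theorem exists_coords {i₁ : A₁ →ₗ[L] B₁} {p₁ : B₁ →ₗ[L] C₁} {i₂ : A₂ →ₗ[L] B₂} {p₂ : B₂ →ₗ[L] C₂}
    (hi₁ : Function.Injective i₁) (hp₁ : Function.Surjective p₁) (h₁ : Function.Exact i₁ p₁)
    (hi₂ : Function.Injective i₂) (hp₂ : Function.Surjective p₂) (h₂ : Function.Exact i₂ p₂)
    (b : B₁ →ₗ[L] B₂) (hab : b ∘ₗ i₁ = i₂ ∘ₗ a) (hbc : c ∘ₗ p₁ = p₂ ∘ₗ b) :
    ∃ (x : C₁ →ₗ[L] A₂) (e₁ : (A₁ × C₁) ≃ₗ[L] B₁) (e₂ : (A₂ × C₂) ≃ₗ[L] B₂),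
      b = e₂.toLinearMap ∘ₗ (tri a x c ∘ₗ e₁.symm.toLinearMap) := by
  obtain ⟨s₁, hs₁⟩ := LinearMap.exists_rightInverse_of_surjective p₁ (range_eq_top.2 hp₁)
  obtain ⟨s₂, hs₂⟩ := LinearMap.exists_rightInverse_of_surjective p₂ (range_eq_top.2 hp₂)
  have hs₁' : ∀ q, p₁ (s₁ q) = q := fun q => LinearMap.congr_fun hs₁ q
  have hs₂' : ∀ q, p₂ (s₂ q) = q := fun q => LinearMap.congr_fun hs₂ q
  let e₁ := LinearEquiv.ofBijective _ (bijective_coprod i₁ p₁ s₁ hi₁ h₁ hs₁')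
  let e₂ := LinearEquiv.ofBijective _ (bijective_coprod i₂ p₂ s₂ hi₂ h₂ hs₂')
  let d : C₁ →ₗ[L] range i₂ := (b ∘ₗ s₁ - s₂ ∘ₗ c).codRestrict (range i₂) fun q => by
    refine (h₂ _).1 ?_
    rw [LinearMap.sub_apply, map_sub, LinearMap.comp_apply, LinearMap.comp_apply, hs₂', ← LinearMap.comp_apply p₂ b, ← hbc,
      LinearMap.comp_apply, hs₁', sub_self]
  let x : C₁ →ₗ[L] A₂ := (LinearEquiv.ofInjective i₂ hi₂).symm.toLinearMap ∘ₗ d
  have hx : ∀ q, i₂ (x q) = b (s₁ q) - s₂ (c q) := fun q =>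
    LinearEquiv.ofInjective_symm_apply (h := hi₂) (f := i₂) (d q)
  refine ⟨x, e₁, e₂, LinearMap.ext fun y => ?_⟩
  obtain ⟨⟨m, q⟩, rfl⟩ := e₁.surjective y
  rw [comp_apply, comp_apply]
  erw [LinearEquiv.symm_apply_apply]
  rw [tri_apply]
  show b (i₁ m + s₁ q) = i₂ (a m + x q) + s₂ (c q)
  rw [map_add, map_add, hx, ← LinearMap.comp_apply b i₁, hab, LinearMap.comp_apply]
  abel

section Square

variable {M₁ N₁ M₂ N₂ : Type*} [AddCommGroup M₁] [Module L M₁] [AddCommGroup N₁] [Module L N₁]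
  [AddCommGroup M₂] [Module L M₂] [AddCommGroup N₂] [Module L N₂]

/-- In a commutative square with Fredholm horizontal maps, the maps on vertical kernels and cokernels
are Fredholm and the indices match. -/
theorem isFred_square (u₁ : M₁ →ₗ[L] N₁) (u₂ : M₂ →ₗ[L] N₂) (v : M₁ →ₗ[L] M₂) (w : N₁ →ₗ[L] N₂)
    (hc : u₂ ∘ₗ v = w ∘ₗ u₁) (h₁ : IsFred u₁) (h₂ : IsFred u₂) :
    IsFred (u₁.restrict (p := ker v) (q := ker w) fun m hm => by
        rw [mem_ker] at hm ⊢
        rw [← LinearMap.comp_apply w u₁, ← hc, LinearMap.comp_apply, hm, map_zero]) ∧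
      IsFred (Submodule.mapQ (range v) (range w) u₂ (by
        rintro _ ⟨m, rfl⟩
        exact ⟨u₁ m, (LinearMap.congr_fun hc m).symm⟩)) ∧
      (Submodule.mapQ (range v) (range w) u₂ (by
        rintro _ ⟨m, rfl⟩
        exact ⟨u₁ m, (LinearMap.congr_fun hc m).symm⟩)).index -
      (u₁.restrict (p := ker v) (q := ker w) fun m hm => by
        rw [mem_ker] at hm ⊢
        rw [← LinearMap.comp_apply w u₁, ← hc, LinearMap.comp_apply, hm, map_zero]).index =
      u₂.index - u₁.index := by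
  set β := (u₁.restrict (p := ker v) (q := ker w) fun m hm => by
        rw [mem_ker] at hm ⊢
        rw [← LinearMap.comp_apply w u₁, ← hc, LinearMap.comp_apply, hm, map_zero]) with hβ
  set α := (Submodule.mapQ (range v) (range w) u₂ (by
        rintro _ ⟨m, rfl⟩
        exact ⟨u₁ m, (LinearMap.congr_fun hc m).symm⟩)) with hα
  let γ : range v →ₗ[L] range w := u₂.restrict (p := range v) (q := range w) (by
        rintro _ ⟨m, rfl⟩
        exact ⟨u₁ m, (LinearMap.congr_fun hc m).symm⟩)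
  obtain ⟨x₁, e₁, e₁', he₁⟩ := exists_coords β γ (i₁ := (ker v).subtype) (p₁ := v.rangeRestrict)
    (i₂ := (ker w).subtype) (p₂ := w.rangeRestrict) (Submodule.injective_subtype _)
    v.surjective_rangeRestrict (LinearMap.exact_iff.2 (by simp)) (Submodule.injective_subtype _)
    w.surjective_rangeRestrict (LinearMap.exact_iff.2 (by simp)) u₁ rfl
    (LinearMap.ext fun m => Subtype.ext (LinearMap.congr_fun hc m))
  obtain ⟨x₂, e₂, e₂', he₂⟩ := exists_coords γ α (i₁ := (range v).subtype) (p₁ := (range v).mkQ)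
    (i₂ := (range w).subtype) (p₂ := (range w).mkQ) (Submodule.injective_subtype _)
    (Submodule.mkQ_surjective _) (LinearMap.exact_subtype_mkQ _) (Submodule.injective_subtype _)
    (Submodule.mkQ_surjective _) (LinearMap.exact_subtype_mkQ _) u₂ rfl (LinearMap.ext fun m => rfl)
  have t₁ : tri β x₁ γ = e₁'.symm.toLinearMap ∘ₗ (u₁ ∘ₗ e₁.toLinearMap) := by
    rw [he₁]; ext z <;> simp
  have t₂ : tri γ x₂ α = e₂'.symm.toLinearMap ∘ₗ (u₂ ∘ₗ e₂.toLinearMap) := by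
    rw [he₂]; ext z <;> simp
  obtain ⟨g₁, g₁'⟩ := ((IsFred.of_equiv e₁).comp h₁).1.comp (IsFred.of_equiv e₁'.symm)
  obtain ⟨g₂, g₂'⟩ := ((IsFred.of_equiv e₂).comp h₂).1.comp (IsFred.of_equiv e₂'.symm)
  rw [← t₁, ((IsFred.of_equiv e₁).comp h₁).2, LinearEquiv.index_eq_zero, LinearEquiv.index_eq_zero,
    zero_add, add_zero] at g₁'
  rw [← t₂, ((IsFred.of_equiv e₂).comp h₂).2, LinearEquiv.index_eq_zero, LinearEquiv.index_eq_zero,
    zero_add, add_zero] at g₂'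
  rw [← t₁] at g₁
  rw [← t₂] at g₂
  have hγ : IsFred γ := ⟨finite_ker_left γ x₂ α g₂.1, finite_coker_right β x₁ γ g₁.2⟩
  have hβF : IsFred β := ⟨finite_ker_left β x₁ γ g₁.1, finite_coker_left β x₁ γ g₁.2 hγ.1⟩
  have hαF : IsFred α := ⟨finite_ker_right γ x₂ α g₂.1 hγ.2, finite_coker_right γ x₂ α g₂.2⟩
  refine ⟨hβF, hαF, ?_⟩
  have i1 := (index_tri β x₁ γ hβF hγ).2
  have i2 := (index_tri γ x₂ α hγ hαF).2
  omega

end Square

end Groth.Syntomic.FredSquare
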