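import Groth.Agent.Syntomic.Field
import Groth.Agent.Syntomic.BaseChange
import Groth.Agent.KoszulLCI.SmoothCancel
import Mathlib.RingTheory.Localization.Away.AdjoinRoot
import Mathlib.RingTheory.Flat.Localization

/-!
# Relative global complete intersections and flat local complete intersection ring maps
-/

set_option autoImplicit false

universe u

open TensorProduct

namespace Groth.Syntomic

variable {R : Type u} [CommRing R]

/-- `S` is, locally on its spectrum, a relative global complete intersection over `R`. -/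
def IsLocRelGCI (R S : Type u) [CommRing R] [CommRing S] [Algebra R S] : Prop :=
  ∀ Q : Ideal S, Q.IsPrime → ∃ t ∉ Q, ∃ (n c : ℕ) (F : Fin c → MvPolynomial (Fin n) R),
    Synt.IsRelGCI R n c F ∧ Nonempty (Synt.RelGCIRing R n c F ≃ₐ[R] Localization.Away t)

/-- A presentation of a basic open of a quotient of a polynomial ring by one more equation. -/
theorem exists_away_presentation {S : Type u} [CommRing S] [Algebra R S] {n : ℕ}
    (φ : MvPolynomial (Fin n) R →ₐ[R] S) (hφ : Function.Surjective φ) (G : MvPolynomial (Fin n) R)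
    (l : List (Localization.Away G))
    (hl : (RingHom.ker φ.toRingHom).map (algebraMap _ (Localization.Away G)) = Ideal.ofList l) :
    ∃ F : Fin (l.length + 1) → MvPolynomial (Fin (n + 1)) R,
      Nonempty (Synt.RelGCIRing R (n + 1) (l.length + 1) F ≃ₐ[R] Localization.Away (φ G)) ∧
      (LCI.IsKoszulRegularSeq (Localization.Away G) l →
        LCI.IsKoszulRegularSeq (MvPolynomial (Fin (n + 1)) R) (List.ofFn F)) := by
  let t : Polynomial (MvPolynomial (Fin n) R) := Polynomial.C G * Polynomial.X - 1
  let e := MvPolynomial.finSuccEquiv R n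
  let π : MvPolynomial (Fin (n + 1)) R →ₐ[R] Localization.Away G :=
    (((Localization.awayEquivAdjoin G).symm.restrictScalars R).toAlgHom.comp
      ((Ideal.Quotient.mkₐ R (Ideal.span {t}) :
        Polynomial (MvPolynomial (Fin n) R) →ₐ[R] AdjoinRoot t))).comp e.toAlgHom
  have hπ : Function.Surjective π :=
    (((Localization.awayEquivAdjoin G).symm.surjective).comp
      (Ideal.Quotient.mkₐ_surjective R _)).comp e.surjective
  let t' := e.symm t
  have hkerπ : RingHom.ker π.toRingHom = Ideal.ofList [t'] := by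
    rw [Ideal.ofList_singleton]
    ext x
    rw [RingHom.mem_ker]
    change (Localization.awayEquivAdjoin G).symm (Ideal.Quotient.mk (Ideal.span {t}) (e x)) = 0 ↔ _
    rw [map_eq_zero_iff _ (Localization.awayEquivAdjoin G).symm.injective]
    refine Ideal.Quotient.eq_zero_iff_mem.trans ?_
    rw [Ideal.mem_span_singleton, Ideal.mem_span_singleton]
    constructor
    · rintro ⟨a, ha⟩
      exact ⟨e.symm a, e.injective (by rw [map_mul, ha, e.apply_symm_apply, e.apply_symm_apply])⟩
    · rintro ⟨a, rfl⟩
      exact ⟨e a, by rw [map_mul, e.apply_symm_apply]⟩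
  have htreg : LCI.IsKoszulRegularSeq (MvPolynomial (Fin (n + 1)) R) [t'] := by
    refine Groth.KoszulLCI.isKoszulRegularSeq_singleton ?_
    have ht : t ∈ nonZeroDivisors (Polynomial (MvPolynomial (Fin n) R)) := by
      by_contra h
      obtain ⟨a, ha, h0⟩ := Polynomial.notMem_nonZeroDivisors_iff.mp h
      apply ha
      simpa [t] using congrArg (Polynomial.coeff · 0) h0
    rw [mem_nonZeroDivisors_iff_right] at ht ⊢
    intro x hx
    exact e.injective ((ht (e x) (by rw [← e.apply_symm_apply t, ← map_mul, hx, map_zero])).trans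
      (map_zero e).symm)
  let θ : Localization.Away G →+* Localization.Away (φ G) :=
    IsLocalization.Away.map (Localization.Away G) (Localization.Away (φ G)) φ.toRingHom G
  have hθcomp : θ.comp (algebraMap _ (Localization.Away G)) =
      (algebraMap S _).comp φ.toRingHom := IsLocalization.map_comp _
  have hθ : Function.Surjective θ := by
    have : IsLocalization ((Submonoid.powers G).map φ.toRingHom) (Localization.Away (φ G)) :=
      (Submonoid.map_powers φ.toRingHom G).symm ▸
        (inferInstance : IsLocalization (Submonoid.powers (φ G)) (Localization.Away (φ G)))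
    exact IsLocalization.map_surjective_of_surjective _ _ _ hφ
  have hkerθ : RingHom.ker θ = Ideal.ofList l :=
    (IsLocalization.ker_map (Localization.Away (φ G)) φ.toRingHom
      (Submonoid.map_powers φ.toRingHom G)).trans hl
  choose lift hlift using hπ
  let L := l.map lift ++ [t']
  have hlen : L.length = l.length + 1 := by simp [L]
  let F : Fin (l.length + 1) → MvPolynomial (Fin (n + 1)) R := fun i ↦ L.get (i.cast hlen.symm)
  have hF : List.ofFn F = L := by
    rw [List.ofFn_congr hlen.symm]
    exact List.ofFn_get L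
  have hcomm : ∀ r, θ (π (algebraMap R _ r)) = algebraMap R (Localization.Away (φ G)) r := by
    intro r
    rw [AlgHom.commutes, IsScalarTower.algebraMap_apply R (MvPolynomial (Fin n) R) (Localization.Away G),
      ← RingHom.comp_apply, hθcomp, RingHom.comp_apply]
    change algebraMap S _ (φ (algebraMap R _ r)) = _
    rw [φ.commutes, ← IsScalarTower.algebraMap_apply]
  let γ : MvPolynomial (Fin (n + 1)) R →ₐ[R] Localization.Away (φ G) :=
    { θ.comp π.toRingHom with commutes' := hcomm }
  have hγ : Function.Surjective γ := fun z ↦ by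
    obtain ⟨y, rfl⟩ := hθ z
    exact ⟨lift y, congrArg θ (hlift y)⟩
  have hkerγ : RingHom.ker γ.toRingHom = Ideal.span (Set.range F) := by
    rw [show γ.toRingHom = θ.comp π.toRingHom from rfl, ← RingHom.comap_ker, hkerθ,
      ← Groth.Calg5.RelGCI.ofList_ofFn, hF]
    have h1 : Ideal.ofList l = (Ideal.ofList (l.map lift)).map π.toRingHom := by
      rw [Ideal.map_ofList, List.map_map]
      congr 1
      conv_lhs => rw [← List.map_id l]
      exact List.map_congr_left fun x _ ↦ (hlift x).symm
    rw [h1, Ideal.comap_map_of_surjective π.toRingHom (fun z ↦ ⟨lift z, hlift z⟩), ← RingHom.ker_eq_comap_bot,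
      hkerπ, ← Ideal.ofList_append]
  refine ⟨F, ⟨(Ideal.quotientEquivAlgOfEq R hkerγ.symm).trans
    (Ideal.quotientKerAlgEquivOfSurjective hγ)⟩, fun hreg ↦ ?_⟩
  rw [hF]
  refine (Groth.KoszulLCI.isKoszulRegularSeq_append_iff [t'] (l.map lift) htreg π.toRingHom
    (fun z ↦ ⟨lift z, hlift z⟩) hkerπ).mpr ?_
  have : (l.map lift).map π.toRingHom = l := by
    rw [List.map_map]
    conv_rhs => rw [← List.map_id l]
    exact List.map_congr_left fun x _ ↦ hlift x
  rwa [this]

/-- Koszul regular equations with flat quotient form a relative global complete intersection. -/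
theorem isRelGCI_of_koszul {n c : ℕ} (F : Fin c → MvPolynomial (Fin n) R)
    (hF : LCI.IsKoszulRegularSeq (MvPolynomial (Fin n) R) (List.ofFn F))
    [Module.Flat R (Synt.RelGCIRing R n c F)] : Synt.IsRelGCI R n c F := by
  intro p hnt
  let k := p.asIdeal.ResidueField
  have hK := isKoszulRegularSeq_map_of_flat F hF k
  have e := (Groth.Calg5.RelGCI.tensorQuotientEquiv k F).toRingEquiv
  have : Nontrivial (MvPolynomial (Fin n) k ⧸
      Ideal.span (Set.range fun i => MvPolynomial.map (algebraMap R k) (F i))) :=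
    e.symm.toEquiv.nontrivial
  have hne : Ideal.ofList (List.ofFn fun i => MvPolynomial.map (algebraMap R k) (F i)) ≠ ⊤ := by
    rw [Groth.Calg5.RelGCI.ofList_ofFn]
    exact Ideal.Quotient.nontrivial_iff.mp this
  obtain ⟨hc, hdim⟩ := dim_quotient_of_koszul _ hK hne
  rw [List.length_ofFn] at hc hdim
  rw [Groth.Calg5.RelGCI.ofList_ofFn] at hdim
  exact ⟨hc, (ringKrullDim_eq_of_ringEquiv e).trans hdim⟩

/-- The ring of a relative global complete intersection is a local complete intersection. -/
theorem isLCI_relGCIRing {n c : ℕ} (F : Fin c → MvPolynomial (Fin n) R)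
    (h : Synt.IsRelGCI R n c F) : LCI.IsLCI R (Synt.RelGCIRing R n c F) := by
  refine ⟨inferInstance, n, Ideal.Quotient.mkₐ R _, Ideal.Quotient.mkₐ_surjective R _, ?_⟩
  rw [show RingHom.ker (Ideal.Quotient.mkₐ R (Ideal.span (Set.range F))).toRingHom =
      Ideal.span (Set.range F) from Ideal.Quotient.mkₐ_ker R _,
    ← Groth.Calg5.RelGCI.ofList_ofFn]
  exact Groth.KoszulLCI.isKoszulRegularIdeal_ofList
    (Groth.Calg5.RelGCI.isKoszulRegularSeq_of_isRelGCI h)

variable {S : Type u} [CommRing S] [Algebra R S]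

/-- A flat local complete intersection is locally a relative global complete intersection. -/
theorem isLocRelGCI_of_flat_isLCI [Module.Flat R S] (h : LCI.IsLCI R S) : IsLocRelGCI R S := by
  obtain ⟨-, n, φ, hφ, hK⟩ := h
  intro Q hQ
  have : (Q.comap φ.toRingHom).IsPrime := inferInstance
  obtain ⟨G, hG, l, hl, hlI⟩ := hK ⟨Q.comap φ.toRingHom, this⟩
    (fun x hx ↦ by
      change φ x ∈ Q
      rw [show φ x = 0 from hx]
      exact zero_mem _)
  obtain ⟨F, ⟨e⟩, hFK⟩ := exists_away_presentation φ hφ G l hlI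
  have : Module.Flat R (Localization.Away (φ G)) := Module.Flat.trans R S _
  have : Module.Flat R (Synt.RelGCIRing R (n + 1) (l.length + 1) F) :=
    Module.Flat.of_linearEquiv e.toLinearEquiv
  exact ⟨φ G, hG, n + 1, _, F, isRelGCI_of_koszul F (hFK hl), ⟨e⟩⟩

/-- Local complete intersection, from a cover by relative global complete intersections. -/
theorem IsLocRelGCI.isLCI (h : IsLocRelGCI R S) : LCI.IsLCI R S := by
  refine Groth.KoszulLCI.isLCI_of_cover fun Q hQ ↦ ?_
  obtain ⟨t, ht, n, c, F, hF, ⟨e⟩⟩ := h Q hQ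
  exact ⟨t, ht, Localization.Away t, inferInstance, inferInstance, inferInstance, inferInstance,
    inferInstance, Groth.KoszulLCI.isLCI_of_algEquiv e (isLCI_relGCIRing F hF)⟩

theorem IsLocRelGCI.span_eq_top (h : IsLocRelGCI R S) :
    Ideal.span {t : S | ∃ (n c : ℕ) (F : Fin c → MvPolynomial (Fin n) R),
      Synt.IsRelGCI R n c F ∧ Nonempty (Synt.RelGCIRing R n c F ≃ₐ[R] Localization.Away t)} = ⊤ := by
  by_contra hne
  obtain ⟨m, hm, hle⟩ := Ideal.exists_le_maximal _ hne
  obtain ⟨t, ht, hG⟩ := h m inferInstance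
  exact ht (hle (Ideal.subset_span hG))

theorem IsLocRelGCI.flat (h : IsLocRelGCI R S) : Module.Flat R S := by
  refine Module.flat_of_isLocalized_span (S := S) S _ h.span_eq_top (fun t ↦ Localization.Away t.1)
    (fun t ↦ Algebra.linearMap S (Localization.Away t.1)) fun t ↦ ?_
  obtain ⟨n, c, F, hF, ⟨e⟩⟩ := t.2
  have := Groth.Calg5.RelGCI.flat_of_isRelGCI hF
  exact Module.Flat.of_linearEquiv e.symm.toLinearEquiv

theorem IsLocRelGCI.finitePresentation (h : IsLocRelGCI R S) :
    Algebra.FinitePresentation R S := by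
  refine Algebra.FinitePresentation.of_span_eq_top_target _ h.span_eq_top fun t ht ↦ ?_
  obtain ⟨n, c, F, hF, ⟨e⟩⟩ := ht
  exact (Groth.Calg5.RelGCI.isSyntomic_of_isRelGCI hF).2.1.equiv e

/-- Global complete intersection fibres of relative global complete intersections. -/
theorem isGlobalCI_fiber {n c : ℕ} (F : Fin c → MvPolynomial (Fin n) R)
    (h : Synt.IsRelGCI R n c F) (p : PrimeSpectrum R) :
    Synt.IsGlobalCI p.asIdeal.ResidueField (p.asIdeal.Fiber (Synt.RelGCIRing R n c F)) := by
  rcases subsingleton_or_nontrivial (p.asIdeal.Fiber (Synt.RelGCIRing R n c F)) with hs | hn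
  · exact Or.inl hs
  obtain ⟨hc, hdim⟩ := h p hn
  refine Groth.Calg5.RelGCI.isGlobalCI_of_algEquiv
    (Groth.Calg5.RelGCI.tensorQuotientEquiv p.asIdeal.ResidueField F).symm
    (Or.inr ⟨n, c, hc, Ideal.Quotient.mkₐ p.asIdeal.ResidueField _,
      fun i => MvPolynomial.map (algebraMap R p.asIdeal.ResidueField) (F i),
      Ideal.Quotient.mkₐ_surjective p.asIdeal.ResidueField _,
      Ideal.Quotient.mkₐ_ker p.asIdeal.ResidueField _, ?_⟩)
  rw [← hdim]
  exact (ringKrullDim_eq_of_ringEquiv
    (Groth.Calg5.RelGCI.tensorQuotientEquiv p.asIdeal.ResidueField F).toRingEquiv).symm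

/-- Inverting `1 ⊗ t` in a base change. -/
noncomputable def tensorAwayEquiv (K : Type u) [CommRing K] [Algebra R K] (t : S) :
    Localization.Away ((1 : K) ⊗ₜ[R] t) ≃ₐ[K] K ⊗[R] Localization.Away t :=
  let f : K ⊗[R] S →ₐ[K] K ⊗[R] Localization.Away t :=
    Algebra.TensorProduct.map (AlgHom.id K K) (IsScalarTower.toAlgHom R S _)
  have hu : IsUnit (f ((1 : K) ⊗ₜ[R] t)) := by
    rw [show f ((1 : K) ⊗ₜ[R] t) = Algebra.TensorProduct.includeRight
      (algebraMap S (Localization.Away t) t) from rfl]
    exact (IsLocalization.Away.algebraMap_isUnit t).map _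
  let L := Localization.Away ((1 : K) ⊗ₜ[R] t)
  let g : S →ₐ[R] L :=
    ((IsScalarTower.toAlgHom R (K ⊗[R] S) L)).comp Algebra.TensorProduct.includeRight
  have hg : ∀ y : Submonoid.powers t, IsUnit (g y) := by
    rintro ⟨_, k, rfl⟩
    rw [show g (t ^ k) = algebraMap (K ⊗[R] S) L ((1 : K) ⊗ₜ[R] t) ^ k by
      rw [map_pow]; rfl]
    exact (IsLocalization.Away.algebraMap_isUnit ((1 : K) ⊗ₜ[R] t)).pow k
  AlgEquiv.ofAlgHom
    (IsLocalization.liftAlgHom (M := Submonoid.powers ((1 : K) ⊗ₜ[R] t)) (f := f)
      (fun y ↦ by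
        obtain ⟨_, k, rfl⟩ := y
        rw [map_pow]
        exact hu.pow k))
    (Algebra.TensorProduct.lift (Algebra.ofId K L) (IsLocalization.liftAlgHom (f := g) hg)
      fun _ _ ↦ Commute.all _ _)
    (Algebra.TensorProduct.ext (by ext) (IsLocalization.algHom_ext (Submonoid.powers t) (by
      ext x
      simp [f, g, L]
      erw [IsLocalization.lift_eq, IsLocalization.lift_eq]
      rfl)))
    (IsLocalization.algHom_ext (Submonoid.powers ((1 : K) ⊗ₜ[R] t))
      (Algebra.TensorProduct.ext (by ext) (by
        ext x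
        simp [f, g, L]
        erw [IsLocalization.lift_eq]
        simp [g, L]
        rfl)))

/-- Syntomic, from a cover by relative global complete intersections. -/
theorem IsLocRelGCI.isSyntomic (h : IsLocRelGCI R S) : Synt.IsSyntomic R S := by
  have := h.finitePresentation
  refine ⟨h.flat, this, fun p ↦ ⟨inferInstance, fun P ↦ ?_⟩⟩
  obtain ⟨t, ht, n, c, F, hF, ⟨e⟩⟩ := h (P.asIdeal.comap
    (Algebra.TensorProduct.includeRight : S →ₐ[R] p.asIdeal.Fiber S).toRingHom) inferInstance
  refine ⟨(1 : p.asIdeal.ResidueField) ⊗ₜ[R] t, ht, Groth.Calg5.RelGCI.isGlobalCI_of_algEquiv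
    ((Algebra.TensorProduct.congr AlgEquiv.refl e).trans
      (tensorAwayEquiv p.asIdeal.ResidueField t).symm) (isGlobalCI_fiber F hF p)⟩

end Groth.Syntomic
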