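import Groth.Agent.Syntomic.QuasiSectionNoeth

/-!
# A quasi-regular section lies in the smooth locus, over any base
-/

set_option autoImplicit false
set_option linter.style.haveILetI false

universe u

open TensorProduct

namespace Groth.Syntomic.QuasiSection

/-- Smoothness at a prime is inherited by base change. -/
theorem isSmoothAt_baseChange {R₀ R A₀ A : Type u} [CommRing R₀] [CommRing R] [CommRing A₀] [CommRing A]
    [Algebra R₀ R] [Algebra R₀ A₀] [Algebra R₀ A] [Algebra R A] [Algebra A₀ A] [IsScalarTower R₀ R A]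
    [IsScalarTower R₀ A₀ A] [Algebra.IsPushout R₀ R A₀ A] [Algebra.FinitePresentation R₀ A₀]
    [Algebra.FinitePresentation R A] (q : Ideal A) [q.IsPrime] (q₀ : Ideal A₀) [q₀.IsPrime]
    (hq₀ : q₀ = q.comap (algebraMap A₀ A)) [Algebra.IsSmoothAt R₀ q₀] : Algebra.IsSmoothAt R q := by
  obtain ⟨g, hg, hgs⟩ := Algebra.IsSmoothAt.exists_notMem_smooth (R := R₀) q₀
  let gA : A := algebraMap A₀ A g
  let T := Localization.Away g
  let T' := Localization.Away gA
  letI : Algebra T T' := (IsLocalization.Away.map T T' (algebraMap A₀ A) g).toAlgebra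
  haveI : IsScalarTower A₀ T T' := IsScalarTower.of_algebraMap_eq fun x => by
    rw [RingHom.algebraMap_toAlgebra, IsScalarTower.algebraMap_apply A₀ A T']
    exact (IsLocalization.map_eq (M := Submonoid.powers g) (S := T) _ x).symm
  haveI : IsScalarTower R₀ T T' := IsScalarTower.of_algebraMap_eq fun x => by
    rw [IsScalarTower.algebraMap_apply R₀ A₀ T, ← IsScalarTower.algebraMap_apply A₀ T T',
      IsScalarTower.algebraMap_apply A₀ A T', ← IsScalarTower.algebraMap_apply R₀ A₀ A,
      ← IsScalarTower.algebraMap_apply R₀ A T']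
  haveI : IsLocalization (Algebra.algebraMapSubmonoid A (Submonoid.powers g)) T' := by
    rw [Algebra.algebraMapSubmonoid, Submonoid.map_powers]
    infer_instance
  haveI hA : Algebra.IsPushout A₀ T A T' :=
    (Algebra.isPushout_of_isLocalization (R := A₀) (Submonoid.powers g) T A T').symm
  haveI hB : Algebra.IsPushout R₀ A₀ R A := Algebra.IsPushout.symm inferInstance
  haveI hC : Algebra.IsPushout R₀ T R T' := (Algebra.IsPushout.comp_iff R₀ A₀ R A).mpr hA
  haveI hD : Algebra.IsPushout R₀ R T T' := hC.symm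
  haveI : Algebra.Smooth R₀ T := hgs
  haveI : Algebra.Smooth R T' := Algebra.Smooth.of_equiv (Algebra.IsPushout.equiv R₀ R T T')
  exact (Algebra.basicOpen_subset_smoothLocus_iff_smooth (R := R) (f := gA)).mpr ‹Algebra.Smooth R T'›
    (show (⟨q, inferInstance⟩ : PrimeSpectrum A) ∈ PrimeSpectrum.basicOpen gA from fun h => hg (hq₀ ▸ h))

open MvPolynomial in
/-- A base change recognized on presentations. -/
theorem isPushout_of_presentation {R₀ R A₀ A : Type u} [CommRing R₀] [CommRing R] [CommRing A₀] [CommRing A]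
    [Algebra R₀ R] [Algebra R₀ A₀] [Algebra R₀ A] [Algebra R A] [Algebra A₀ A] [IsScalarTower R₀ R A]
    [IsScalarTower R₀ A₀ A] {n : ℕ} (π₀ : MvPolynomial (Fin n) R₀ →ₐ[R₀] A₀) (hπ₀ : Function.Surjective π₀)
    (π : MvPolynomial (Fin n) R →ₐ[R] A) (hπ : Function.Surjective π)
    (hc : ∀ P, π (MvPolynomial.map (algebraMap R₀ R) P) = algebraMap A₀ A (π₀ P))
    (hker : RingHom.ker π.toRingHom ≤
      (RingHom.ker π₀.toRingHom).map (MvPolynomial.map (algebraMap R₀ R))) :
    Algebra.IsPushout R₀ R A₀ A := by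
  let M := MvPolynomial.map (σ := Fin n) (algebraMap R₀ R)
  let g : MvPolynomial (Fin n) R →ₐ[R] R ⊗[R₀] A₀ := MvPolynomial.aeval fun j => (1 : R) ⊗ₜ[R₀] π₀ (X j)
  have hgM : ∀ P, g (M P) = (1 : R) ⊗ₜ[R₀] π₀ P := by
    intro P
    induction P using MvPolynomial.induction_on with
    | C x =>
      rw [show M (C x) = C (algebraMap R₀ R x) from MvPolynomial.map_C _ x, MvPolynomial.algHom_C,
        show π₀ (C x) = algebraMap R₀ A₀ x from π₀.commutes x, Algebra.TensorProduct.algebraMap_apply,
        Algebra.algebraMap_self, RingHom.id_apply]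
      rw [Algebra.algebraMap_eq_smul_one (R := R₀) (A := R),
        Algebra.algebraMap_eq_smul_one (R := R₀) (A := A₀), TensorProduct.smul_tmul]
    | add p q hp hq => rw [map_add, map_add, hp, hq, map_add, TensorProduct.tmul_add]
    | mul_X p j hp =>
      rw [map_mul, map_mul, hp, show M (X j) = X j from MvPolynomial.map_X _ j,
        show g (X j) = (1 : R) ⊗ₜ[R₀] π₀ (X j) from MvPolynomial.aeval_X _ j,
        Algebra.TensorProduct.tmul_mul_tmul, one_mul, map_mul]
  have hker' : RingHom.ker π.toRingHom ≤ RingHom.ker g.toRingHom := by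
    refine hker.trans (Ideal.map_le_iff_le_comap.mpr fun P hP => ?_)
    change g (M P) = 0
    rw [hgM, show π₀ P = 0 from hP, TensorProduct.tmul_zero]
  let μ : R ⊗[R₀] A₀ →ₐ[R] A :=
    Algebra.TensorProduct.lift (Algebra.ofId R A) (IsScalarTower.toAlgHom R₀ A₀ A) fun _ _ => .all _ _
  have hμg : ∀ P, μ (g P) = π P := by
    intro P
    have : μ.comp g = π := MvPolynomial.algHom_ext fun j => by
      simp only [AlgHom.comp_apply, g, MvPolynomial.aeval_X, μ, Algebra.TensorProduct.lift_tmul, map_one,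
        one_mul, IsScalarTower.coe_toAlgHom']
      rw [← hc, MvPolynomial.map_X]
    rw [← this]; rfl
  have hgsurj : Function.Surjective g := by
    intro z
    induction z using TensorProduct.induction_on with
    | zero => exact ⟨0, map_zero _⟩
    | add x y hx hy =>
      obtain ⟨p, rfl⟩ := hx
      obtain ⟨q, rfl⟩ := hy
      exact ⟨p + q, map_add _ _ _⟩
    | tmul t x =>
      obtain ⟨P, rfl⟩ := hπ₀ x
      refine ⟨C t * M P, ?_⟩
      rw [map_mul, hgM, MvPolynomial.algHom_C, Algebra.TensorProduct.algebraMap_apply,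
        Algebra.algebraMap_self, RingHom.id_apply, Algebra.TensorProduct.tmul_mul_tmul, mul_one, one_mul]
  have hb : Function.Bijective μ := by
    refine ⟨(injective_iff_map_eq_zero μ).mpr fun z hz => ?_, fun x => ?_⟩
    · obtain ⟨P, rfl⟩ := hgsurj z
      rw [hμg] at hz
      exact hker' hz
    · obtain ⟨P, rfl⟩ := hπ x
      exact ⟨g P, hμg P⟩
  refine ⟨?_⟩
  exact IsBaseChange.of_equiv (AlgEquiv.ofBijective μ hb).toLinearEquiv fun x => by
    change μ (1 ⊗ₜ x) = algebraMap A₀ A x
    simp [μ]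

open MvPolynomial in
/-- A section cut out by a quasi-regular sequence and defined over a Noetherian subring is smooth. -/
theorem isSmoothAt_of_lifts {R A : Type u} [CommRing R] [CommRing A] [Algebra R A]
    (ε : A →ₐ[R] R) {c : ℕ} (a : Fin c → A) (hspan : RingHom.ker ε = Ideal.span (Set.range a))
    (hq : CAlgX.IsQuasiRegular a) (q : Ideal A) [q.IsPrime] (hIq : RingHom.ker ε ≤ q)
    [Algebra.FinitePresentation R A] (R₀ : Type u) [CommRing R₀] [IsNoetherianRing R₀] [Algebra R₀ R]
    [Algebra R₀ A] [IsScalarTower R₀ R A] (hι : Function.Injective (algebraMap R₀ R)) {n m : ℕ}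
    (π : MvPolynomial (Fin n) R →ₐ[R] A) (hπ : Function.Surjective π) (F₀ : Fin m → MvPolynomial (Fin n) R₀)
    (hkerπ : RingHom.ker π.toRingHom =
      Ideal.span (Set.range fun k => MvPolynomial.map (algebraMap R₀ R) (F₀ k)))
    (G₀ : Fin c → MvPolynomial (Fin n) R₀) (hG : ∀ i, π (MvPolynomial.map (algebraMap R₀ R) (G₀ i)) = a i)
    (r₀ : Fin n → R₀) (hr : ∀ j, ε (π (X j)) = algebraMap R₀ R (r₀ j))
    (U₀ : Fin n → Fin c → MvPolynomial (Fin n) R₀) (V₀ : Fin n → Fin m → MvPolynomial (Fin n) R₀)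
    (hUV : ∀ j, X j - C (r₀ j) - ∑ i, U₀ j i * G₀ i = ∑ k, V₀ j k * F₀ k) :
    Algebra.IsSmoothAt R q := by
  let M := MvPolynomial.map (σ := Fin n) (algebraMap R₀ R)
  have heval : ∀ P : MvPolynomial (Fin n) R₀,
      ε (π (M P)) = algebraMap R₀ R (MvPolynomial.eval r₀ P) := by
    intro P
    induction P using MvPolynomial.induction_on with
    | C x =>
      rw [show M (C x) = C (algebraMap R₀ R x) from MvPolynomial.map_C _ x,
        show π (C (algebraMap R₀ R x)) = algebraMap R A (algebraMap R₀ R x) from π.commutes _,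
        ε.commutes, MvPolynomial.eval_C]
      rfl
    | add p q hp hq => simp only [map_add, hp, hq]
    | mul_X p j hp =>
      rw [map_mul, map_mul, map_mul, hp, show M (X j) = X j from MvPolynomial.map_X _ j, hr, map_mul,
        MvPolynomial.eval_X, map_mul]
  let J : Ideal (MvPolynomial (Fin n) R₀) := Ideal.span (Set.range F₀)
  let φ₀ : MvPolynomial (Fin n) R₀ →ₐ[R₀] A :=
    { π.toRingHom.comp M with
      commutes' := fun x => by
        change π (M (C x)) = _
        rw [show M (C x) = C (algebraMap R₀ R x) from MvPolynomial.map_C _ x,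
          IsScalarTower.algebraMap_apply R₀ R A]
        exact π.commutes _ }
  have hJφ : ∀ P ∈ J, φ₀ P = 0 := by
    intro P hP
    have h : M P ∈ RingHom.ker π.toRingHom := by
      rw [hkerπ]
      have := Ideal.mem_map_of_mem M hP
      rw [Ideal.map_span, ← Set.range_comp] at this
      exact this
    exact h
  let A₀ := MvPolynomial (Fin n) R₀ ⧸ J
  let θ : A₀ →ₐ[R₀] A := Ideal.Quotient.liftₐ J φ₀ hJφ
  letI : Algebra A₀ A := θ.toRingHom.toAlgebra
  haveI : IsScalarTower R₀ A₀ A := IsScalarTower.of_algebraMap_eq fun x => (θ.commutes x).symm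
  have hJε : ∀ P ∈ J, MvPolynomial.eval r₀ P = 0 := fun P hP => hι <| by
    rw [← heval, show π (M P) = 0 from hJφ P hP, map_zero, map_zero]
  let ε₀ : A₀ →ₐ[R₀] R₀ := Ideal.Quotient.liftₐ J (MvPolynomial.aeval r₀) hJε
  let a₀ : Fin c → A₀ := fun i => Ideal.Quotient.mk J (G₀ i)
  have hθa : ∀ i, θ (a₀ i) = a i := hG
  have hεθ : ∀ x : A₀, ε (θ x) = algebraMap R₀ R (ε₀ x) := by
    intro x
    obtain ⟨P, rfl⟩ := Ideal.Quotient.mk_surjective x
    exact heval P
  have hker₀ : RingHom.ker ε₀ = Ideal.span (Set.range a₀) := by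
    refine le_antisymm (fun x hx => ?_) (Ideal.span_le.mpr ?_)
    · obtain ⟨P, rfl⟩ := Ideal.Quotient.mk_surjective x
      have hP : MvPolynomial.eval r₀ P = 0 := hx
      have hsub : P - C (MvPolynomial.eval r₀ P) ∈ Ideal.span (Set.range fun j => X j - C (r₀ j)) := by
        clear hx hP
        induction P using MvPolynomial.induction_on with
        | C x => simp
        | add p q hp hq => rw [map_add, map_add, add_sub_add_comm]; exact Ideal.add_mem _ hp hq
        | mul_X p j hp =>
          rw [map_mul, MvPolynomial.eval_X, map_mul,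
            show p * X j - C (MvPolynomial.eval r₀ p) * C (r₀ j) =
              (p - C (MvPolynomial.eval r₀ p)) * X j + C (MvPolynomial.eval r₀ p) * (X j - C (r₀ j)) by ring]
          exact Ideal.add_mem _ (Ideal.mul_mem_right _ _ hp)
            (Ideal.mul_mem_left _ _ (Ideal.subset_span ⟨j, rfl⟩))
      rw [hP, map_zero, sub_zero] at hsub
      have h1 := Ideal.mem_map_of_mem (Ideal.Quotient.mk J) hsub
      rw [Ideal.map_span, ← Set.range_comp] at h1
      refine Ideal.span_le.mpr ?_ h1
      rintro _ ⟨j, rfl⟩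
      change Ideal.Quotient.mk J (X j - C (r₀ j)) ∈ Ideal.span (Set.range a₀)
      have h0 : Ideal.Quotient.mk J (∑ k, V₀ j k * F₀ k) = 0 :=
        Ideal.Quotient.eq_zero_iff_mem.mpr
          (Ideal.sum_mem _ fun k _ => Ideal.mul_mem_left _ _ (Ideal.subset_span ⟨k, rfl⟩))
      rw [← hUV j, map_sub, sub_eq_zero] at h0
      rw [h0, map_sum]
      refine Ideal.sum_mem _ fun i _ => ?_
      rw [map_mul]
      exact Ideal.mul_mem_left _ _ (Ideal.subset_span ⟨i, rfl⟩)
    · rintro _ ⟨i, rfl⟩
      apply hι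
      rw [← hεθ, hθa, map_zero]
      exact RingHom.mem_ker.mp (hspan.symm ▸ Ideal.subset_span ⟨i, rfl⟩)
  have hqr : CAlgX.IsQuasiRegular a₀ := by
    intro k P hP hPJ d
    have hmapspan : (Ideal.span (Set.range a₀)).map θ.toRingHom = Ideal.span (Set.range a) := by
      rw [Ideal.map_span, ← Set.range_comp]
      exact congrArg Ideal.span (congrArg Set.range (funext hθa))
    have h1 : MvPolynomial.eval a (MvPolynomial.map θ.toRingHom P) ∈ Ideal.span (Set.range a) ^ (k + 1) := by
      rw [← hmapspan, ← Ideal.map_pow θ.toRingHom (Ideal.span (Set.range a₀)) (k + 1), MvPolynomial.eval_map]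
      have h2 : MvPolynomial.eval₂ θ.toRingHom a P = θ (MvPolynomial.eval a₀ P) := by
        rw [show a = fun i => θ.toRingHom (a₀ i) from funext fun i => (hθa i).symm]
        exact (MvPolynomial.eval₂_comp θ.toRingHom a₀ P).symm
      rw [h2]
      exact Ideal.mem_map_of_mem θ.toRingHom hPJ
    have h3 := hq k _ (hP.map θ.toRingHom) h1 d
    rw [MvPolynomial.coeff_map, ← hspan, RingHom.mem_ker] at h3
    rw [← hker₀, RingHom.mem_ker]
    apply hι
    rw [← hεθ, map_zero]
    exact h3
  haveI : Algebra.FinitePresentation R₀ A₀ :=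
    Algebra.FinitePresentation.quotient (Submodule.fg_span (Set.finite_range F₀))
  haveI : Algebra.IsPushout R₀ R A₀ A :=
    isPushout_of_presentation (Ideal.Quotient.mkₐ R₀ J) Ideal.Quotient.mk_surjective π hπ (fun P => rfl) (by
      rw [hkerπ, Ideal.span_le]
      rintro _ ⟨k, rfl⟩
      exact Ideal.mem_map_of_mem M (show Ideal.Quotient.mk J (F₀ k) = 0 from
        Ideal.Quotient.eq_zero_iff_mem.mpr (Ideal.subset_span ⟨k, rfl⟩)))
  have hI₀ : RingHom.ker ε₀ ≤ q.comap (algebraMap A₀ A) := fun x hx => hIq <| by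
    rw [RingHom.mem_ker]
    exact (hεθ x).trans (by rw [RingHom.mem_ker.mp hx, map_zero])
  haveI := isSmoothAt_of_noetherian ε₀ a₀ hker₀ hqr (q.comap (algebraMap A₀ A)) hI₀
  exact isSmoothAt_baseChange (R₀ := R₀) q (q.comap (algebraMap A₀ A)) rfl

open MvPolynomial in
/-- A quasi-regular section lies in the smooth locus. -/
theorem isSmoothAt_of_quasiRegular_section {R A : Type u} [CommRing R] [CommRing A] [Algebra R A]
    [Algebra.FinitePresentation R A] (ε : A →ₐ[R] R) {c : ℕ} (a : Fin c → A)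
    (hspan : RingHom.ker ε = Ideal.span (Set.range a)) (hq : CAlgX.IsQuasiRegular a)
    (q : Ideal A) [q.IsPrime] (hIq : RingHom.ker ε ≤ q) : Algebra.IsSmoothAt R q := by
  classical
  obtain ⟨n, φ, hφ, hfg⟩ := Algebra.FinitePresentation.out (R := R) (A := A)
  obtain ⟨m, F, hF⟩ := Submodule.fg_iff_exists_fin_generating_family.mp hfg
  let r : Fin n → R := fun j => ε (φ (X j))
  choose G hG using fun i => hφ (a i)
  have hmem : ∀ j : Fin n, ∃ U : Fin c → MvPolynomial (Fin n) R,
      X j - C (r j) - ∑ i, U i * G i ∈ RingHom.ker φ.toRingHom := by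
    intro j
    have h1 : φ (X j - C (r j)) ∈ Ideal.span (Set.range a) := by
      rw [← hspan, RingHom.mem_ker, map_sub, map_sub, show φ (C (r j)) = algebraMap R A (r j) from φ.commutes _,
        ε.commutes]
      exact sub_self _
    obtain ⟨u, hu⟩ := Ideal.mem_span_range_iff_exists_fun.mp h1
    choose U hU using fun i => hφ (u i)
    refine ⟨U, ?_⟩
    change φ (X j - C (r j) - ∑ i, U i * G i) = 0
    simp only [map_sub, map_sum, map_mul, hU, hG]
    rw [← map_sub, hu, sub_self]
  choose U hU using hmem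
  have hV : ∀ j : Fin n, ∃ V : Fin m → MvPolynomial (Fin n) R,
      X j - C (r j) - ∑ i, U j i * G i = ∑ k, V k * F k := by
    intro j
    have h := hU j
    rw [show RingHom.ker φ.toRingHom = Ideal.span (Set.range F) from hF.symm] at h
    obtain ⟨V, hV⟩ := Ideal.mem_span_range_iff_exists_fun.mp h
    exact ⟨V, hV.symm⟩
  choose V hV using hV
  let C0 : Set R := ((⋃ k, ((F k).coeffs : Set R)) ∪ (⋃ i, ((G i).coeffs : Set R))) ∪
    ((⋃ j, ⋃ i, ((U j i).coeffs : Set R)) ∪ (⋃ j, ⋃ k, ((V j k).coeffs : Set R)) ∪ Set.range r)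
  have hC0 : C0.Finite :=
    ((Set.finite_iUnion fun k => Finset.finite_toSet _).union
      (Set.finite_iUnion fun i => Finset.finite_toSet _)).union
      (((Set.finite_iUnion fun j => Set.finite_iUnion fun i => Finset.finite_toSet _).union
        (Set.finite_iUnion fun j => Set.finite_iUnion fun k => Finset.finite_toSet _)).union
        (Set.finite_range r))
  let S := Algebra.adjoin ℤ C0
  haveI : Algebra.FiniteType ℤ S :=
    (Subalgebra.fg_iff_finiteType S).mp (Subalgebra.fg_def.mpr ⟨C0, hC0, rfl⟩)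
  haveI : IsNoetherianRing S := Algebra.FiniteType.isNoetherianRing ℤ S
  let M := MvPolynomial.map (σ := Fin n) (algebraMap S R)
  have hM : Function.Injective M := MvPolynomial.map_injective _ Subtype.val_injective
  have hlift : ∀ P : MvPolynomial (Fin n) R, (P.coeffs : Set R) ⊆ C0 → ∃ P₀, M P₀ = P := fun P hP =>
    (MvPolynomial.mem_range_map_iff_coeffs_subset).mpr fun x hx => ⟨⟨x, Algebra.subset_adjoin (hP hx)⟩, rfl⟩
  choose F₀ hF₀ using fun k => hlift (F k) fun x hx => Or.inl (Or.inl (Set.mem_iUnion.mpr ⟨k, hx⟩))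
  choose G₀ hG₀ using fun i => hlift (G i) fun x hx => Or.inl (Or.inr (Set.mem_iUnion.mpr ⟨i, hx⟩))
  choose U₀ hU₀ using fun j i => hlift (U j i) fun x hx =>
    Or.inr (Or.inl (Or.inl (Set.mem_iUnion.mpr ⟨j, Set.mem_iUnion.mpr ⟨i, hx⟩⟩)))
  choose V₀ hV₀ using fun j k => hlift (V j k) fun x hx =>
    Or.inr (Or.inl (Or.inr (Set.mem_iUnion.mpr ⟨j, Set.mem_iUnion.mpr ⟨k, hx⟩⟩)))
  let r₀ : Fin n → S := fun j => ⟨r j, Algebra.subset_adjoin (Or.inr (Or.inr ⟨j, rfl⟩))⟩
  haveI : IsScalarTower S R A := IsScalarTower.of_algebraMap_eq fun _ => rfl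
  refine isSmoothAt_of_lifts ε a hspan hq q hIq S Subtype.val_injective φ hφ F₀ ?_ G₀
    (fun i => by rw [show MvPolynomial.map (algebraMap S R) (G₀ i) = G i from hG₀ i, hG]) r₀
    (fun j => rfl) U₀ V₀ fun j => hM ?_
  · rw [show (fun k => MvPolynomial.map (algebraMap S R) (F₀ k)) = F from funext hF₀]
    exact hF.symm
  · simp only [map_sub, map_sum, map_mul, hU₀, hG₀, hV₀, hF₀]
    rw [show M (X j) = X j from MvPolynomial.map_X _ j,
      show M (C (r₀ j)) = C (r j) from MvPolynomial.map_C _ _]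
    exact hV j

end Groth.Syntomic.QuasiSection
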