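import Groth.Agent.KoszulLCI.FlatQuasi
import Groth.Agent.PropsBasic.LociBaseChange.Alg
import Groth.Agent.Calg4.SmoothRegularField
import Groth.Agent.S9272
import Mathlib.RingTheory.KrullDimension.Regular

/-!
# A quasi-regular section over a Noetherian base lies in the smooth locus
-/

set_option autoImplicit false
set_option linter.style.haveILetI false

universe u

open TensorProduct IsLocalRing

namespace Groth.Syntomic.QuasiSection

/-- A ring whose maximal ideal is generated by a quasi-regular sequence is regular. -/
theorem isRegularLocalRing_of_span_quasiRegular {L : Type u} [CommRing L] [IsLocalRing L]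
    [IsNoetherianRing L] {c : ℕ} (f : Fin c → L) (hspan : Ideal.span (Set.range f) = maximalIdeal L)
    (hq : CAlgX.IsQuasiRegular f) : IsRegularLocalRing L := by
  have hw : RingTheory.Sequence.IsWeaklyRegular L (List.ofFn f) :=
    Groth.EGA41Two.isWeaklyRegular_of_isQuasiRegular c L f (fun j => by
      rw [IsLocalRing.ringJacobson_eq_maximalIdeal]
      exact hspan ▸ Ideal.subset_span ⟨j, rfl⟩) hq
  have hI : Ideal.ofList (List.ofFn f) = maximalIdeal L := by
    rw [← hspan]
    refine congrArg Ideal.span (Set.ext fun x => ?_)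
    simp [List.mem_ofFn]
  have hreg : RingTheory.Sequence.IsRegular L (List.ofFn f) := ⟨hw, by
    rw [smul_eq_mul, Ideal.mul_top, hI]
    exact (maximalIdeal.isMaximal L).ne_top.symm⟩
  have hdim := ringKrullDim_add_length_eq_ringKrullDim_of_isRegular _ hreg
  rw [hI, List.length_ofFn, ringKrullDim_eq_zero_of_isField
    ((Ideal.Quotient.maximal_ideal_iff_isField_quotient _).mp (maximalIdeal.isMaximal L)), zero_add] at hdim
  refine IsRegularLocalRing.of_spanFinrank_maximalIdeal_le (R := L) ?_
  rw [← hdim, ← hspan]
  have hle : (Ideal.span (Set.range f)).spanFinrank ≤ c :=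
    (Submodule.spanFinrank_span_le_ncard_of_finite (Set.finite_range f)).trans
      ((Finite.card_range_le f).trans (Nat.card_fin c).le)
  exact_mod_cast hle

/-- A prime generated by a quasi-regular sequence gives a regular local ring. -/
theorem isRegularLocalRing_localization_of_span_quasiRegular {F : Type u} [CommRing F] [IsNoetherianRing F]
    {c : ℕ} (b : Fin c → F) (hb : CAlgX.IsQuasiRegular b) (Q : Ideal F) [Q.IsPrime]
    (hQ : Q = Ideal.span (Set.range b)) : IsRegularLocalRing (Localization.AtPrime Q) := by
  have h1 : CAlgX.IsQuasiRegular (⇑(algebraMap F (Localization.AtPrime Q)) ∘ b) :=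
    Groth.KoszulLCI.isQuasiRegular_map (algebraMap F (Localization.AtPrime Q))
      (RingHom.flat_algebraMap_iff.mpr inferInstance) hb
  refine isRegularLocalRing_of_span_quasiRegular _ ?_ h1
  rw [← Localization.AtPrime.map_eq_maximalIdeal (I := Q),
    congrArg (Ideal.map (algebraMap F (Localization.AtPrime Q))) hQ, Ideal.map_span, ← Set.range_comp]

variable {R A : Type u} [CommRing R] [CommRing A] [Algebra R A] (ε : A →ₐ[R] R) {c : ℕ} (a : Fin c → A)

lemma mem_iff_of_ker_le {q : Ideal A} (hIq : RingHom.ker ε ≤ q) (x : A) :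
    x ∈ q ↔ ε x ∈ q.under R := by
  have h : x - algebraMap R A (ε x) ∈ q := hIq (by simp [RingHom.mem_ker])
  exact ⟨fun hx => by simpa using q.sub_mem hx h, fun hx => by simpa using q.add_mem h hx⟩

lemma flat_quotient_of_section (hspan : RingHom.ker ε = Ideal.span (Set.range a)) :
    Module.Flat R (A ⧸ Ideal.span (Set.range a)) :=
  Module.Flat.of_linearEquiv ((Ideal.quotientEquivAlgOfEq R hspan.symm).trans
    (Ideal.quotientKerAlgEquivOfSurjective (f := ε) fun r => ⟨algebraMap R A r, ε.commutes r⟩)).toLinearEquiv

/-- A prime of a `k`-algebra containing all `z - ψ z` has residue field `k`. -/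
lemma formallySmooth_residueField_of_retraction {k F : Type u} [Field k] [CommRing F] [Algebra k F]
    (ψ : F →ₐ[k] k) (Q : Ideal F) [Q.IsPrime] (h : ∀ z, z - algebraMap k F (ψ z) ∈ Q) :
    Algebra.FormallySmooth k Q.ResidueField := by
  haveI : Q.IsMaximal := by
    refine Ideal.isMaximal_iff.mpr ⟨fun h' => (‹Q.IsPrime›).ne_top ((Ideal.eq_top_iff_one _).mpr h'),
      fun J z hle hzQ hzJ => ?_⟩
    have hne : ψ z ≠ 0 := fun h0 => hzQ (by simpa [h0] using h z)
    have hu : algebraMap k F (ψ z) ∈ J := by
      have := J.sub_mem hzJ (hle (h z))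
      simpa using this
    rw [Ideal.eq_top_of_isUnit_mem _ hu ((isUnit_iff_ne_zero.mpr hne).map _)]
    trivial
  refine Algebra.FormallySmooth.of_equiv
    (AlgEquiv.ofBijective (Algebra.ofId k Q.ResidueField)
      ⟨(Algebra.ofId k Q.ResidueField).injective, fun z => ?_⟩)
  obtain ⟨w, rfl⟩ := Q.algebraMap_residueField_surjective z
  refine ⟨ψ w, ?_⟩
  rw [eq_comm, Algebra.ofId_apply, IsScalarTower.algebraMap_apply k F Q.ResidueField, ← sub_eq_zero,
    ← map_sub, Ideal.algebraMap_residueField_eq_zero]
  exact h w

/-- A regular point with residue field the base field is smooth. -/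
lemma isSmoothAt_of_retraction {k F : Type u} [Field k] [CommRing F] [Algebra k F] [Algebra.FiniteType k F]
    (ψ : F →ₐ[k] k) (Q : Ideal F) [Q.IsPrime] (h : ∀ z, z - algebraMap k F (ψ z) ∈ Q)
    (hreg : IsRegularLocalRing (Localization.AtPrime Q)) : Algebra.IsSmoothAt k Q :=
  haveI := formallySmooth_residueField_of_retraction ψ Q h
  haveI := hreg
  Groth.Calg4.isSmoothAt_of_isRegularLocalRing Q

include ε in
/-- The fibre ideal of the section is generated by the images of the sequence. -/
lemma exists_fiber_retraction (hspan : RingHom.ker ε = Ideal.span (Set.range a)) (p : Ideal R) [p.IsPrime] :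
    ∃ ψ : p.Fiber A →ₐ[p.ResidueField] p.ResidueField, ∀ z : p.Fiber A,
      z - algebraMap p.ResidueField (p.Fiber A) (ψ z) ∈
        Ideal.span (Set.range fun j => ((1 : p.ResidueField) ⊗ₜ[R] a j : p.Fiber A)) := by
  refine ⟨Algebra.TensorProduct.lift (AlgHom.id p.ResidueField p.ResidueField)
    ((Algebra.ofId R p.ResidueField).comp ε) fun _ _ => .all _ _, fun z => ?_⟩
  induction z using TensorProduct.induction_on with
  | zero => simp
  | add x y hx hy =>
    rw [map_add, map_add, add_sub_add_comm]
    exact Ideal.add_mem _ hx hy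
  | tmul r x =>
    have hx : x - algebraMap R A (ε x) ∈ Ideal.span (Set.range a) := by
      rw [← hspan, RingHom.mem_ker]; simp
    have h1 : (1 : p.ResidueField) ⊗ₜ[R] (x - algebraMap R A (ε x)) ∈
        Ideal.span (Set.range fun j => ((1 : p.ResidueField) ⊗ₜ[R] a j : p.Fiber A)) := by
      have := Ideal.mem_map_of_mem (Algebra.TensorProduct.includeRight (R := R)
        (A := p.ResidueField) (B := A)).toRingHom hx
      rw [Ideal.map_span, ← Set.range_comp] at this
      exact this
    convert Ideal.mul_mem_left _ (r ⊗ₜ[R] (1 : A)) h1 using 1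
    rw [Algebra.TensorProduct.lift_tmul, AlgHom.id_apply, AlgHom.comp_apply, Algebra.ofId_apply,
      Algebra.TensorProduct.tmul_mul_tmul, mul_one, one_mul, TensorProduct.tmul_sub,
      Algebra.TensorProduct.algebraMap_apply, Algebra.algebraMap_self, RingHom.id_apply,
      Algebra.algebraMap_eq_smul_one (R := R) (A := A), TensorProduct.tmul_smul, TensorProduct.smul_tmul',
      Algebra.smul_def, mul_comm]

include ε in
/-- The fibre of a quasi-regular section is regular at the section. -/
theorem isSmoothAt_fiber [Algebra.FiniteType R A] (hspan : RingHom.ker ε = Ideal.span (Set.range a))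
    (hq : CAlgX.IsQuasiRegular a) (p : Ideal R) [p.IsPrime] (Q : Ideal (p.Fiber A)) [Q.IsPrime]
    (hQ : ∀ j, (1 : p.ResidueField) ⊗ₜ[R] a j ∈ Q) :
    Algebra.IsSmoothAt p.ResidueField Q := by
  obtain ⟨ψ, hψ⟩ := exists_fiber_retraction ε a hspan p
  let b : Fin c → p.Fiber A := fun j => (1 : p.ResidueField) ⊗ₜ[R] a j
  have hle : Ideal.span (Set.range b) ≤ Q := Ideal.span_le.mpr (by rintro _ ⟨j, rfl⟩; exact hQ j)
  have hb : CAlgX.IsQuasiRegular b :=
    Groth.Agent.S9272.result R A p.ResidueField c a (flat_quotient_of_section ε a hspan) hq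
  have hspanQ : Q ≤ Ideal.span (Set.range b) := fun z hz => by
    have hz' : algebraMap p.ResidueField (p.Fiber A) (ψ z) ∈ Q := by
      have := Q.sub_mem hz (hle (hψ z))
      simpa using this
    have h0 : ψ z = 0 := by
      by_contra hne
      exact (‹Q.IsPrime›).ne_top (Ideal.eq_top_of_isUnit_mem _ hz'
        ((isUnit_iff_ne_zero.mpr hne).map _))
    have h := hψ z
    rw [h0, map_zero, sub_zero] at h
    exact h
  haveI : IsNoetherianRing (p.Fiber A) := Algebra.FiniteType.isNoetherianRing p.ResidueField _
  haveI : IsRegularLocalRing (Localization.AtPrime Q) :=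
    isRegularLocalRing_localization_of_span_quasiRegular (F := p.Fiber A) b hb Q (le_antisymm hspanQ hle)
  exact isSmoothAt_of_retraction (k := p.ResidueField) (F := p.Fiber A) ψ Q (fun z => hle (hψ z))
    inferInstance

include ε in
/-- Over a Noetherian base, an algebra is flat at a quasi-regular section. -/
theorem flat_localization [IsNoetherianRing R] [Algebra.FiniteType R A]
    (hspan : RingHom.ker ε = Ideal.span (Set.range a)) (hq : CAlgX.IsQuasiRegular a)
    (q : Ideal A) [q.IsPrime] (hIq : RingHom.ker ε ≤ q) :
    Module.Flat R (Localization.AtPrime q) := by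
  haveI : IsNoetherianRing A := Algebra.FiniteType.isNoetherianRing R A
  let p := q.under R
  have hqp : q = p.comap ε.toRingHom := Ideal.ext fun x => mem_iff_of_ker_le ε hIq x
  let π : Localization.AtPrime q →+* Localization.AtPrime p := Localization.localRingHom q p ε.toRingHom hqp
  have hεs : Function.Surjective ε.toRingHom := fun r => ⟨algebraMap R A r, ε.commutes r⟩
  have hπ : Function.Surjective π :=
    (RingHom.surjectiveOnStalks_of_surjective hεs).localRingHom_surjective q p hqp
  let ls : List (Localization.AtPrime q) := List.ofFn fun j => algebraMap A (Localization.AtPrime q) (a j)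
  have hls : Ideal.ofList ls = (RingHom.ker ε).map (algebraMap A (Localization.AtPrime q)) := by
    rw [hspan, Ideal.map_span, ← Set.range_comp]
    refine congrArg Ideal.span (Set.ext fun x => ?_)
    simp [ls, List.mem_ofFn]
  have hker : RingHom.ker π = Ideal.ofList ls := by
    rw [hls]
    refine le_antisymm (fun w hw => ?_) (Ideal.map_le_iff_le_comap.mpr fun x hx => ?_)
    · obtain ⟨x, s, rfl⟩ := IsLocalization.exists_mk'_eq q.primeCompl w
      rw [IsLocalization.mk'_mem_map_algebraMap_iff]
      have h1 : π (algebraMap A _ x) = 0 := by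
        rw [← IsLocalization.mk'_spec (Localization.AtPrime q) x s, map_mul, RingHom.mem_ker.mp hw, zero_mul]
      rw [Localization.localRingHom_to_map, IsLocalization.map_eq_zero_iff p.primeCompl] at h1
      obtain ⟨⟨m, hm⟩, hmx⟩ := h1
      refine ⟨algebraMap R A m, fun h => hm h, ?_⟩
      rw [RingHom.mem_ker, map_mul, ε.commutes]
      exact hmx
    · rw [Ideal.mem_comap, RingHom.mem_ker, Localization.localRingHom_to_map]
      rw [show ε.toRingHom x = 0 from hx, map_zero]
  have hne : RingHom.ker π ≠ ⊤ := RingHom.ker_ne_top π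
  have hC : (π.comp (algebraMap R (Localization.AtPrime q))).Flat := by
    have : π.comp (algebraMap R (Localization.AtPrime q)) = algebraMap R (Localization.AtPrime p) :=
      RingHom.ext fun r => by
        rw [RingHom.comp_apply, IsScalarTower.algebraMap_apply R A (Localization.AtPrime q),
          Localization.localRingHom_to_map]
        exact congrArg _ (ε.commutes r)
    rw [this]
    exact RingHom.flat_algebraMap_iff.mpr inferInstance
  refine RingHom.flat_algebraMap_iff.mp
    (Groth.KoszulLCI.flat_of_quasi_of_surjective _ π hπ hC ls hker hne ?_)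
  have hm := Groth.KoszulLCI.isQuasiRegular_map (algebraMap A (Localization.AtPrime q))
    (RingHom.flat_algebraMap_iff.mpr inferInstance) hq
  have := Groth.KoszulLCI.cast_transfer (fun n g => CAlgX.IsQuasiRegular (c := n) g)
    (List.length_ofFn (f := fun j => algebraMap A (Localization.AtPrime q) (a j))) _ hm
  convert this using 1
  funext i
  simp [ls]
  rfl

include ε in
/-- Over a Noetherian base, a quasi-regular section lies in the smooth locus. -/
theorem isSmoothAt_of_noetherian [IsNoetherianRing R] [Algebra.FinitePresentation R A]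
    (hspan : RingHom.ker ε = Ideal.span (Set.range a)) (hq : CAlgX.IsQuasiRegular a)
    (q : Ideal A) [q.IsPrime] (hIq : RingHom.ker ε ≤ q) :
    Algebra.IsSmoothAt R q := by
  haveI := flat_localization ε a hspan hq q hIq
  let p := q.under R
  haveI : q.LiesOver p := ⟨rfl⟩
  let Q := PrimeSpectrum.preimageEquivFiber R A ⟨p, inferInstance⟩ ⟨⟨q, inferInstance⟩, rfl⟩
  have hQ : Q.asIdeal.comap (Algebra.TensorProduct.includeRight (R := R) (A := p.ResidueField) (B := A)).toRingHom = q :=
    congrArg (fun x => x.1.asIdeal)
      ((PrimeSpectrum.preimageEquivFiber R A ⟨p, inferInstance⟩).symm_apply_apply ⟨⟨q, inferInstance⟩, rfl⟩)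
  have hQa : ∀ j, (1 : p.ResidueField) ⊗ₜ[R] a j ∈ Q.asIdeal := fun j => by
    have h : a j ∈ q := hIq (hspan.symm ▸ Ideal.subset_span ⟨j, rfl⟩)
    rw [← hQ] at h
    exact h
  haveI := isSmoothAt_fiber ε a hspan hq p Q.asIdeal hQa
  exact Groth.PropsBasic.Loci.isSmoothAt_of_flat_of_fiber p q Q.asIdeal hQ

end Groth.Syntomic.QuasiSection
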